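import Mathlib
import Cfsg.Prelude.Def_RootSubgroups

/-! Basic facts on rank one pairs: the action on the set of conjugates. -/

namespace Cfsg.Agent.H87

open Subgroup
open scoped commutatorElement

variable {G : Type*} [Group G]

theorem mem_conjBy {A : Subgroup G} {g x : G} :
    x ∈ Cfsg.conjBy A g ↔ g⁻¹ * x * g ∈ A := by
  constructor
  · rintro ⟨a, ha, rfl⟩
    simpa [MulAut.conj_apply, mul_assoc] using ha
  · intro h
    exact ⟨g⁻¹ * x * g, h, by simp [MulAut.conj_apply, mul_assoc]⟩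

theorem conj_mem_conjBy {A : Subgroup G} {a : G} (g : G) (ha : a ∈ A) :
    g * a * g⁻¹ ∈ Cfsg.conjBy A g := by
  rw [mem_conjBy]; simpa [mul_assoc] using ha

theorem conjBy_one (A : Subgroup G) : Cfsg.conjBy A 1 = A := by
  ext x; rw [mem_conjBy]; simp

theorem conjBy_mul (A : Subgroup G) (g h : G) :
    Cfsg.conjBy A (g * h) = Cfsg.conjBy (Cfsg.conjBy A h) g := by
  ext x; simp only [mem_conjBy, mul_inv_rev, mul_assoc]

theorem conjBy_inv_conjBy (A : Subgroup G) (g : G) :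
    Cfsg.conjBy (Cfsg.conjBy A g) g⁻¹ = A := by
  rw [← conjBy_mul]; simp [conjBy_one]

theorem conjBy_conjBy_inv (A : Subgroup G) (g : G) :
    Cfsg.conjBy (Cfsg.conjBy A g⁻¹) g = A := by
  rw [← conjBy_mul]; simp [conjBy_one]

theorem conjBy_injective (g : G) : Function.Injective (fun A : Subgroup G => Cfsg.conjBy A g) :=
  Function.LeftInverse.injective (g := fun A => Cfsg.conjBy A g⁻¹) (fun A => conjBy_inv_conjBy A g)

theorem eq_conjBy_inv_iff {A C : Subgroup G} {g : G} :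
    C = Cfsg.conjBy A g⁻¹ ↔ Cfsg.conjBy C g = A := by
  constructor
  · rintro rfl; exact conjBy_conjBy_inv A g
  · rintro rfl; exact (conjBy_inv_conjBy C g).symm

theorem conjBy_eq_self_iff {A : Subgroup G} {g : G} :
    Cfsg.conjBy A g = A ↔ g ∈ normalizer (A : Set G) :=
  (mem_normalizer_iff_map_conj_eq).symm

theorem conjBy_of_mem {A : Subgroup G} {g : G} (hg : g ∈ A) : Cfsg.conjBy A g = A :=
  conjBy_eq_self_iff.2 (le_normalizer hg)

theorem conjBy_inv_eq_self {A : Subgroup G} {g : G} (h : Cfsg.conjBy A g = A) :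
    Cfsg.conjBy A g⁻¹ = A := by
  conv_lhs => rw [← h]
  exact conjBy_inv_conjBy A g

theorem conjBy_eq_conjBy_iff {A : Subgroup G} {g h : G} :
    Cfsg.conjBy A g = Cfsg.conjBy A h ↔ Cfsg.conjBy A (h⁻¹ * g) = A := by
  rw [conjBy_mul]
  constructor
  · intro e; rw [e, conjBy_inv_conjBy]
  · intro e; have := congrArg (fun C => Cfsg.conjBy C h) e
    simpa only [conjBy_conjBy_inv] using this

theorem mem_conjBy_self_of_commute {A : Subgroup G} {a g : G} (ha : a ∈ A) (h : g * a = a * g) :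
    a ∈ Cfsg.conjBy A g := by
  rw [mem_conjBy, mul_assoc, ← h, ← mul_assoc, inv_mul_cancel, one_mul]; exact ha

section Pair

variable {A B : Subgroup G}

theorem rankOne_symm (h : Cfsg.IsRankOnePair A B) : Cfsg.IsRankOnePair B A :=
  Cfsg.RankOnePair_symm h

theorem left_ne_bot (h : Cfsg.IsRankOnePair A B) : A ≠ ⊥ := by
  intro hA
  have hB : B ≠ ⊥ := fun hB => h.ne (hA.trans hB.symm)
  obtain ⟨b, hb, hb1⟩ := B.bot_or_exists_ne_one.resolve_left hB
  obtain ⟨a, ha, ha1, -⟩ := h.cond_right b hb hb1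
  rw [hA, mem_bot] at ha
  exact ha1 ha

theorem right_ne_bot (h : Cfsg.IsRankOnePair A B) : B ≠ ⊥ := left_ne_bot (rankOne_symm h)

/-- No nontrivial element of `A` normalizes `B`. -/
theorem eq_one_of_fix (h : Cfsg.IsRankOnePair A B) {a : G} (ha : a ∈ A)
    (hf : Cfsg.conjBy B a = B) : a = 1 := by
  by_contra ha1
  obtain ⟨b, hb, -, e⟩ := h.cond_left a ha ha1
  rw [conjBy_inv_eq_self hf] at e
  have := eq_conjBy_inv_iff.1 e.symm
  rw [conjBy_of_mem hb] at this
  exact h.ne this.symm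

theorem eq_of_conjBy_eq (h : Cfsg.IsRankOnePair A B) {a a' : G} (ha : a ∈ A) (ha' : a' ∈ A)
    (e : Cfsg.conjBy B a = Cfsg.conjBy B a') : a = a' := by
  have := eq_one_of_fix h (mul_mem (inv_mem ha') ha) (conjBy_eq_conjBy_iff.1 e)
  exact (inv_mul_eq_one.1 this).symm

theorem conjBy_right_ne_left (h : Cfsg.IsRankOnePair A B) {a : G} (ha : a ∈ A) :
    Cfsg.conjBy B a ≠ A := fun e => h.ne (conjBy_injective a ((conjBy_of_mem ha).trans e.symm))

theorem left_mem (A B : Subgroup G) : A ∈ Cfsg.unipotentSubgroups A B :=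
  ⟨1, one_mem _, (conjBy_one A).symm⟩

theorem conjBy_mem_unipotent {C : Subgroup G} (hC : C ∈ Cfsg.unipotentSubgroups A B) {x : G}
    (hx : x ∈ A ⊔ B) : Cfsg.conjBy C x ∈ Cfsg.unipotentSubgroups A B := by
  obtain ⟨y, hy, rfl⟩ := hC
  exact ⟨x * y, mul_mem hx hy, (conjBy_mul A x y).symm⟩

theorem right_mem (h : Cfsg.IsRankOnePair A B) : B ∈ Cfsg.unipotentSubgroups A B := by
  obtain ⟨a, ha, ha1⟩ := A.bot_or_exists_ne_one.resolve_left (left_ne_bot h)
  obtain ⟨b, hb, -, e⟩ := h.cond_left a ha ha1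
  refine ⟨a * b⁻¹, mul_mem (mem_sup_left ha) (mem_sup_right (inv_mem hb)), ?_⟩
  rw [conjBy_mul, e, conjBy_conjBy_inv]

theorem conjBy_right_mem (h : Cfsg.IsRankOnePair A B) {a : G} (ha : a ∈ A) :
    Cfsg.conjBy B a ∈ Cfsg.unipotentSubgroups A B :=
  conjBy_mem_unipotent (right_mem h) (mem_sup_left ha)

/-- For `b ∈ B#`, the conjugate `A^b` is of the form `B^a`. -/
theorem exists_conjBy_right (h : Cfsg.IsRankOnePair A B) {b : G} (hb : b ∈ B) (hb1 : b ≠ 1) :
    ∃ a ∈ A, a ≠ 1 ∧ Cfsg.conjBy A b = Cfsg.conjBy B a := by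
  obtain ⟨a, ha, ha1, e⟩ := h.cond_right b⁻¹ (inv_mem hb) (by simpa using hb1)
  exact ⟨a⁻¹, inv_mem ha, by simpa using ha1, by simpa using e.symm⟩

/-- For `a ∈ A#`, the conjugate `B^a` is of the form `A^b`. -/
theorem exists_conjBy_left (h : Cfsg.IsRankOnePair A B) {a : G} (ha : a ∈ A) (ha1 : a ≠ 1) :
    ∃ b ∈ B, b ≠ 1 ∧ Cfsg.conjBy B a = Cfsg.conjBy A b :=
  exists_conjBy_right (rankOne_symm h) ha ha1

theorem unipotent_eq (h : Cfsg.IsRankOnePair A B) {C : Subgroup G} :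
    C ∈ Cfsg.unipotentSubgroups A B ↔ C = A ∨ ∃ a ∈ A, C = Cfsg.conjBy B a := by
  refine ⟨?_, ?_⟩
  · rintro ⟨x, hx, rfl⟩
    let P : Subgroup G → Prop := fun C => C = A ∨ ∃ a ∈ A, C = Cfsg.conjBy B a
    have hA : ∀ a ∈ A, ∀ C, P C → P (Cfsg.conjBy C a) := by
      rintro a ha C (rfl | ⟨a', ha', rfl⟩)
      · exact Or.inl (conjBy_of_mem ha)
      · exact Or.inr ⟨a * a', mul_mem ha ha', (conjBy_mul _ _ _).symm⟩
    have hB0 : ∀ b ∈ B, P (Cfsg.conjBy A b) := by
      intro b hb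
      rcases eq_or_ne b 1 with rfl | hb1
      · exact Or.inl (conjBy_one A)
      · obtain ⟨a, ha, -, e⟩ := exists_conjBy_right h hb hb1
        exact Or.inr ⟨a, ha, e⟩
    have hB : ∀ b ∈ B, ∀ C, P C → P (Cfsg.conjBy C b) := by
      rintro b hb C (rfl | ⟨a', ha', rfl⟩)
      · exact hB0 b hb
      · rcases eq_or_ne a' 1 with rfl | ha1
        · rw [conjBy_one, conjBy_of_mem hb]; exact Or.inr ⟨1, one_mem _, (conjBy_one B).symm⟩
        · obtain ⟨b', hb', -, e⟩ := exists_conjBy_left h ha' ha1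
          rw [e, ← conjBy_mul]; exact hB0 _ (mul_mem hb hb')
    suffices ∀ C, P C → P (Cfsg.conjBy C x) from this A (Or.inl rfl)
    rw [sup_eq_closure] at hx
    induction hx using closure_induction'' with
    | one => intro C hC; rwa [conjBy_one]
    | mul x y _ _ hx hy => intro C hC; rw [conjBy_mul]; exact hx _ (hy _ hC)
    | mem x hx => rcases hx with hx | hx; exacts [hA x hx, hB x hx]
    | inv_mem x hx => rcases hx with hx | hx; exacts [hA _ (inv_mem hx), hB _ (inv_mem hx)]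
  · rintro (rfl | ⟨a, ha, rfl⟩)
    exacts [left_mem _ _, conjBy_right_mem h ha]

theorem exists_of_mem_ne (h : Cfsg.IsRankOnePair A B) {C : Subgroup G}
    (hC : C ∈ Cfsg.unipotentSubgroups A B) (hne : C ≠ A) : ∃ a ∈ A, C = Cfsg.conjBy B a :=
  ((unipotent_eq h).1 hC).resolve_left hne

theorem unipotent_comm (h : Cfsg.IsRankOnePair A B) :
    Cfsg.unipotentSubgroups B A = Cfsg.unipotentSubgroups A B := by
  obtain ⟨x, hx, e⟩ := right_mem h
  ext C
  constructor
  · rintro ⟨y, hy, rfl⟩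
    refine ⟨y * x, mul_mem (by rwa [sup_comm]) hx, ?_⟩
    rw [conjBy_mul, ← e]
  · rintro ⟨y, hy, rfl⟩
    refine ⟨y * x⁻¹, by rw [sup_comm]; exact mul_mem hy (inv_mem hx), ?_⟩
    rw [conjBy_mul, e, conjBy_inv_conjBy]

theorem existsUnique_transport (h : Cfsg.IsRankOnePair A B) {C D : Subgroup G}
    (hC : C ∈ Cfsg.unipotentSubgroups A B) (hD : D ∈ Cfsg.unipotentSubgroups A B)
    (hCA : C ≠ A) (hDA : D ≠ A) : ∃! a : G, a ∈ A ∧ Cfsg.conjBy C a = D := by
  obtain ⟨c, hc, rfl⟩ := exists_of_mem_ne h hC hCA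
  obtain ⟨d, hd, rfl⟩ := exists_of_mem_ne h hD hDA
  refine ⟨d * c⁻¹, ⟨mul_mem hd (inv_mem hc), by rw [← conjBy_mul]; simp⟩, ?_⟩
  rintro a ⟨ha, e⟩
  rw [← conjBy_mul] at e
  rw [← eq_of_conjBy_eq h (mul_mem ha hc) hd e]; simp

/-- The only member of Ω fixed by a nontrivial element of `A` is `A`. -/
theorem eq_left_of_fix (h : Cfsg.IsRankOnePair A B) {a : G} (ha : a ∈ A) (ha1 : a ≠ 1)
    {C : Subgroup G} (hC : C ∈ Cfsg.unipotentSubgroups A B) (hf : Cfsg.conjBy C a = C) : C = A := by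
  by_contra hne
  obtain ⟨c, hc, rfl⟩ := exists_of_mem_ne h hC hne
  rw [← conjBy_mul] at hf
  exact ha1 (mul_eq_right.1 (eq_of_conjBy_eq h (mul_mem ha hc) hc hf))

theorem eq_left_of_commute (h : Cfsg.IsRankOnePair A B) {a : G} (ha : a ∈ A) (ha1 : a ≠ 1)
    {g : G} (hg : g ∈ A ⊔ B) (hc : a * g = g * a) : Cfsg.conjBy A g = A := by
  refine eq_left_of_fix h ha ha1 ⟨g, hg, rfl⟩ ?_
  rw [← conjBy_mul, hc, conjBy_mul, conjBy_of_mem ha]

theorem exists_pair_transport (h : Cfsg.IsRankOnePair A B) {C D : Subgroup G}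
    (hC : C ∈ Cfsg.unipotentSubgroups A B) (hD : D ∈ Cfsg.unipotentSubgroups A B) (hne : C ≠ D) :
    ∃ x ∈ A ⊔ B, Cfsg.conjBy A x = C ∧ Cfsg.conjBy B x = D := by
  obtain ⟨y, hy, rfl⟩ := hC
  have hD' : Cfsg.conjBy D y⁻¹ ∈ Cfsg.unipotentSubgroups A B :=
    conjBy_mem_unipotent hD (inv_mem hy)
  obtain ⟨a, ha, e⟩ := exists_of_mem_ne h hD' (fun e => hne (eq_conjBy_inv_iff.1 e.symm |>.trans rfl))
  refine ⟨y * a, mul_mem hy (mem_sup_left ha), ?_, ?_⟩
  · rw [conjBy_mul, conjBy_of_mem ha]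
  · rw [conjBy_mul, ← e, conjBy_conjBy_inv]

theorem doublyTransitive (h : Cfsg.IsRankOnePair A B) {C₁ C₂ D₁ D₂ : Subgroup G}
    (h1 : C₁ ∈ Cfsg.unipotentSubgroups A B) (h2 : C₂ ∈ Cfsg.unipotentSubgroups A B)
    (h3 : D₁ ∈ Cfsg.unipotentSubgroups A B) (h4 : D₂ ∈ Cfsg.unipotentSubgroups A B)
    (hC : C₁ ≠ C₂) (hD : D₁ ≠ D₂) :
    ∃ x ∈ A ⊔ B, Cfsg.conjBy C₁ x = D₁ ∧ Cfsg.conjBy C₂ x = D₂ := by
  obtain ⟨x, hx, e1, e2⟩ := exists_pair_transport h h1 h2 hC
  obtain ⟨y, hy, f1, f2⟩ := exists_pair_transport h h3 h4 hD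
  refine ⟨y * x⁻¹, mul_mem hy (inv_mem hx), ?_, ?_⟩
  · rw [conjBy_mul, ← e1, conjBy_inv_conjBy, f1]
  · rw [conjBy_mul, ← e2, conjBy_inv_conjBy, f2]

end Pair

section RankOneGroup

variable {X : Type*} [Group X] {A B : Subgroup X}

theorem mem_center_of_fix (h : Cfsg.IsRankOneGroup X A B) {N : Subgroup X} (hN : N.Normal)
    (hf : ∀ n ∈ N, Cfsg.conjBy A n = A) : N ≤ center X := by
  have hB : ∀ n ∈ N, Cfsg.conjBy B n = B := by
    intro n hn
    obtain ⟨x, -, e⟩ := right_mem h.2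
    rw [e, ← conjBy_mul, conjBy_eq_conjBy_iff]
    refine hf _ ?_
    simpa [mul_assoc] using hN.conj_mem n hn x⁻¹
  have key : ∀ {C D : Subgroup X}, Cfsg.IsRankOnePair C D → (∀ n ∈ N, Cfsg.conjBy C n = C) →
      (∀ n ∈ N, Cfsg.conjBy D n = D) → ∀ n ∈ N, ∀ c ∈ C, n * c = c * n := by
    intro C D hp hC hD n hn c hc
    have hcom : n * c * n⁻¹ * c⁻¹ ∈ N := by
      simpa [mul_assoc] using mul_mem hn (hN.conj_mem n⁻¹ (inv_mem hn) c)
    have hC' : n * c * n⁻¹ * c⁻¹ ∈ C :=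
      mul_mem (by simpa [hC n hn] using conj_mem_conjBy n hc) (inv_mem hc)
    have := eq_one_of_fix hp hC' (hD _ hcom)
    exact mul_inv_eq_iff_eq_mul.1 (mul_inv_eq_one.1 this)
  intro n hn
  have ha := key h.2 hf hB n hn
  have hb := key (rankOne_symm h.2) hB hf n hn
  have hle : A ⊔ B ≤ centralizer {n} := sup_le
    (fun a ha' => mem_centralizer_singleton_iff.2 (ha a ha').symm)
    (fun a ha' => mem_centralizer_singleton_iff.2 (hb a ha').symm)
  rw [h.1] at hle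
  exact mem_center_iff.2 fun g => mem_centralizer_singleton_iff.1 (hle (mem_top g))

theorem normal_dichotomy (h : Cfsg.IsRankOneGroup X A B) {N : Subgroup X} (hN : N.Normal) :
    N ⊔ A = ⊤ ∨ N ≤ center X := by
  by_cases hf : ∀ n ∈ N, Cfsg.conjBy A n = A
  · exact Or.inr (mem_center_of_fix h hN hf)
  · push Not at hf
    obtain ⟨n, hn, hne⟩ := hf
    left
    have hmem : Cfsg.conjBy A n ∈ Cfsg.unipotentSubgroups A B := ⟨n, by simp [h.1], rfl⟩
    obtain ⟨a, ⟨ha, e⟩, -⟩ := existsUnique_transport h.2 hmem (right_mem h.2) hne h.2.ne.symm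
    have e' : B = Cfsg.conjBy A (a * n * a⁻¹) := by
      rw [conjBy_mul, conjBy_of_mem (inv_mem ha), conjBy_mul, e]
    rw [eq_top_iff, ← h.1]
    refine sup_le le_sup_right ?_
    intro b hb
    rw [e', mem_conjBy] at hb
    have hn' : a * n * a⁻¹ ∈ N ⊔ A := mem_sup_left (hN.conj_mem n hn a)
    have := mul_mem (mul_mem hn' (mem_sup_right (T := A) hb)) (inv_mem hn')
    simpa [mul_assoc] using this

theorem inf_center_eq_one (h : Cfsg.IsRankOneGroup X A B) {a : X} (ha : a ∈ A)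
    (hc : a ∈ center X) : a = 1 := by
  refine eq_one_of_fix h.2 ha (conjBy_eq_self_iff.2 ?_)
  exact center_le_normalizer _ hc

theorem left_ne_top (h : Cfsg.IsRankOneGroup X A B) : A ≠ ⊤ := by
  intro hA
  obtain ⟨b, hb, hb1⟩ := B.bot_or_exists_ne_one.resolve_left (right_ne_bot h.2)
  exact hb1 (eq_one_of_fix (rankOne_symm h.2) hb (by rw [hA]; exact conjBy_of_mem (mem_top b)))

theorem not_isNilpotent (h : Cfsg.IsRankOneGroup X A B) : ¬ Group.IsNilpotent X := by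
  intro hnil
  obtain ⟨m, hm⟩ := Subgroup.nilpotent_iff_lowerCentralSeries.1 hnil
  suffices ∀ k, A ⊔ (⊤ : Subgroup X).lowerCentralSeries k = ⊤ by
    have := this m
    rw [hm, sup_bot_eq] at this
    exact left_ne_top h this
  intro k
  induction k with
  | zero => simp
  | succ k ih =>
    set L := (⊤ : Subgroup X).lowerCentralSeries k with hL
    set L' := (⊤ : Subgroup X).lowerCentralSeries (k + 1) with hL'
    have hle : A ⊔ L ≤ normalizer ((A ⊔ L' : Subgroup X) : Set X) := by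
      refine sup_le (le_sup_left.trans le_normalizer) ?_
      intro g hg
      have hcomm : ∀ x : X, ⁅g, x⁆ ∈ A ⊔ L' := fun x =>
        mem_sup_right (by rw [hL', Subgroup.lowerCentralSeries_succ]; exact commutator_mem_commutator hg (mem_top x))
      have hcomm' : ∀ x : X, ⁅g⁻¹, x⁆ ∈ A ⊔ L' := fun x =>
        mem_sup_right (by rw [hL', Subgroup.lowerCentralSeries_succ]
                          exact commutator_mem_commutator (inv_mem hg) (mem_top x))
      rw [mem_normalizer_iff]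
      intro x
      constructor
      · intro hx
        simpa [commutatorElement_def, mul_assoc] using mul_mem (hcomm x) hx
      · intro hx
        simpa [commutatorElement_def, mul_assoc] using mul_mem (hcomm' (g * x * g⁻¹)) hx
    rw [ih] at hle
    have hnorm : (A ⊔ L').Normal := normalizer_eq_top_iff.1 (top_le_iff.1 hle)
    rw [eq_top_iff, ← h.1]
    refine sup_le le_sup_left ?_
    obtain ⟨x, -, e⟩ := right_mem h.2
    intro b hb
    rw [e, mem_conjBy] at hb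
    simpa [mul_assoc] using hnorm.conj_mem _ (mem_sup_left (T := L') hb) x

end RankOneGroup

end Cfsg.Agent.H87
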