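import Mathlib
import Cfsg.Agent.H87.RankOne

/-! SL₂(k) as a special rank one group. -/

namespace Cfsg.Agent.H87

open Subgroup Matrix

variable {k : Type*} [Field k]

theorem sl2_ext {g h : SpecialLinearGroup (Fin 2) k}
    (e : (g : Matrix (Fin 2) (Fin 2) k) = (h : Matrix (Fin 2) (Fin 2) k)) : g = h := Subtype.ext e

/-- Lower unitriangular element. -/
def lowMat (t : k) : SpecialLinearGroup (Fin 2) k :=
  ⟨!![1, 0; t, 1], by simp [det_fin_two_of]⟩

/-- Upper unitriangular element. -/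
def upMat (t : k) : SpecialLinearGroup (Fin 2) k :=
  ⟨!![1, t; 0, 1], by simp [det_fin_two_of]⟩

theorem lowMat_coe (t : k) : (lowMat t : Matrix (Fin 2) (Fin 2) k) = !![1, 0; t, 1] := rfl

theorem upMat_coe (t : k) : (upMat t : Matrix (Fin 2) (Fin 2) k) = !![1, t; 0, 1] := rfl

theorem lowMat_mul (s t : k) : lowMat s * lowMat t = lowMat (s + t) := by
  apply sl2_ext; simp [lowMat_coe, Matrix.mul_fin_two]

theorem upMat_mul (s t : k) : upMat s * upMat t = upMat (s + t) := by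
  apply sl2_ext; simp [upMat_coe, Matrix.mul_fin_two, add_comm]

theorem lowMat_zero : lowMat (0 : k) = 1 := by
  apply sl2_ext; simp [lowMat, Matrix.one_fin_two]

theorem upMat_zero : upMat (0 : k) = 1 := by
  apply sl2_ext; simp [upMat, Matrix.one_fin_two]

theorem lowMat_inv (t : k) : (lowMat t)⁻¹ = lowMat (-t) :=
  inv_eq_of_mul_eq_one_right (by rw [lowMat_mul, add_neg_cancel, lowMat_zero])

theorem upMat_inv (t : k) : (upMat t)⁻¹ = upMat (-t) :=
  inv_eq_of_mul_eq_one_right (by rw [upMat_mul, add_neg_cancel, upMat_zero])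

theorem lowMat_mem (t : k) : lowMat t ∈ Cfsg.lowerUnipotentSL2 k :=
  subset_closure ⟨by simp [lowMat], by simp [lowMat], by simp [lowMat]⟩

theorem upMat_mem (t : k) : upMat t ∈ Cfsg.upperUnipotentSL2 k :=
  subset_closure ⟨by simp [upMat], by simp [upMat], by simp [upMat]⟩

theorem mem_lower_iff {g : SpecialLinearGroup (Fin 2) k} :
    g ∈ Cfsg.lowerUnipotentSL2 k ↔ ∃ t, g = lowMat t := by
  refine ⟨fun hg => ?_, fun ⟨t, e⟩ => e ▸ lowMat_mem t⟩
  induction hg using closure_induction with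
  | mem x hx =>
    refine ⟨(x : Matrix (Fin 2) (Fin 2) k) 1 0, sl2_ext ?_⟩
    obtain ⟨h1, h2, h3⟩ := hx
    ext i j
    fin_cases i <;> fin_cases j <;> simp [lowMat, h1, h2, h3]
  | one => exact ⟨0, lowMat_zero.symm⟩
  | mul x y _ _ hx hy =>
    obtain ⟨s, rfl⟩ := hx; obtain ⟨t, rfl⟩ := hy; exact ⟨s + t, lowMat_mul s t⟩
  | inv x _ hx => obtain ⟨s, rfl⟩ := hx; exact ⟨-s, lowMat_inv s⟩

theorem mem_upper_iff {g : SpecialLinearGroup (Fin 2) k} :
    g ∈ Cfsg.upperUnipotentSL2 k ↔ ∃ t, g = upMat t := by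
  refine ⟨fun hg => ?_, fun ⟨t, e⟩ => e ▸ upMat_mem t⟩
  induction hg using closure_induction with
  | mem x hx =>
    refine ⟨(x : Matrix (Fin 2) (Fin 2) k) 0 1, sl2_ext ?_⟩
    obtain ⟨h1, h2, h3⟩ := hx
    ext i j
    fin_cases i <;> fin_cases j <;> simp [upMat, h1, h2, h3]
  | one => exact ⟨0, upMat_zero.symm⟩
  | mul x y _ _ hx hy =>
    obtain ⟨s, rfl⟩ := hx; obtain ⟨t, rfl⟩ := hy; exact ⟨s + t, upMat_mul s t⟩
  | inv x _ hx => obtain ⟨s, rfl⟩ := hx; exact ⟨-s, upMat_inv s⟩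

theorem conj_low (s t u : k) (h : s * t = 1) :
    upMat (-s) * lowMat u * upMat s = lowMat (-t) * upMat (-(s * s * u)) * lowMat t := by
  apply sl2_ext
  simp [lowMat_coe, upMat_coe, Matrix.mul_fin_two]
  refine ⟨⟨?_, ?_⟩, ?_, ?_⟩ <;> grind

theorem special_rel (s t : k) (h : s * t = 1) :
    upMat (-s) * lowMat t * upMat s = lowMat (-t) * upMat (-s) * lowMat t := by
  have h' : s * s * t = s := by rw [mul_assoc, h, mul_one]
  simpa [h'] using conj_low s t t h

theorem conjBy_low_up {s t : k} (h : s * t = 1) :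
    Cfsg.conjBy (Cfsg.lowerUnipotentSL2 k) (upMat s)⁻¹ =
      Cfsg.conjBy (Cfsg.upperUnipotentSL2 k) (lowMat t)⁻¹ := by
  have hs : s ≠ 0 := left_ne_zero_of_mul_eq_one h
  ext g
  rw [mem_conjBy, mem_conjBy, inv_inv, inv_inv, mem_lower_iff, mem_upper_iff]
  constructor
  · rintro ⟨u, hu⟩
    refine ⟨-(s * s * u), ?_⟩
    have e : g = upMat (-s) * lowMat u * upMat s := by rw [← hu, ← upMat_inv]; group
    rw [e, conj_low s t u h, ← lowMat_inv]; group
  · rintro ⟨v, hv⟩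
    refine ⟨-(t * t * v), ?_⟩
    have hv' : -(s * s * -(t * t * v)) = v := by
      have : s * s * (t * t * v) = (s * t) * (s * t) * v := by ring
      rw [mul_neg, neg_neg, this, h, one_mul, one_mul]
    have e : g = lowMat (-t) * upMat v * lowMat t := by rw [← hv, ← lowMat_inv]; group
    have := conj_low s t (-(t * t * v)) h
    rw [hv'] at this
    rw [e, ← this, ← upMat_inv]; group

theorem lower_sup_upper : Cfsg.lowerUnipotentSL2 k ⊔ Cfsg.upperUnipotentSL2 k = ⊤ := by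
  rw [eq_top_iff]
  set H := Cfsg.lowerUnipotentSL2 k ⊔ Cfsg.upperUnipotentSL2 k
  have key : ∀ g : SpecialLinearGroup (Fin 2) k, (g : Matrix (Fin 2) (Fin 2) k) 1 0 ≠ 0 → g ∈ H := by
    intro g hc
    have hdet := g.2
    rw [det_fin_two] at hdet
    obtain ⟨M, hM⟩ := g
    simp only at hc hdet
    have : (⟨M, hM⟩ : SpecialLinearGroup (Fin 2) k) =
        upMat ((M 0 0 - 1) / M 1 0) * lowMat (M 1 0) * upMat ((M 1 1 - 1) / M 1 0) := by
      apply sl2_ext
      conv_lhs => rw [show (⟨M, hM⟩ : SpecialLinearGroup (Fin 2) k).val = M from rfl, eta_fin_two M]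
      simp [lowMat_coe, upMat_coe, Matrix.mul_fin_two]
      refine ⟨?_, ?_⟩ <;> field_simp <;> grind
    rw [this]
    exact mul_mem (mul_mem (mem_sup_right (upMat_mem _)) (mem_sup_left (lowMat_mem _)))
      (mem_sup_right (upMat_mem _))
  intro g _
  by_cases hc : (g : Matrix (Fin 2) (Fin 2) k) 1 0 = 0
  · have ha : (g : Matrix (Fin 2) (Fin 2) k) 0 0 ≠ 0 := by
      intro ha
      have := g.2
      rw [det_fin_two, hc, ha] at this
      simp at this
    have := key (lowMat 1 * g) (by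
      show ((lowMat (1 : k) : Matrix (Fin 2) (Fin 2) k) * (g : Matrix (Fin 2) (Fin 2) k)) 1 0 ≠ 0
      rw [Matrix.mul_apply, Fin.sum_univ_two]
      simpa [lowMat, hc] using ha)
    simpa using mul_mem (inv_mem (mem_sup_left (T := Cfsg.upperUnipotentSL2 k) (lowMat_mem (1 : k)))) this
  · exact key g hc

instance lower_comm : IsMulCommutative (Cfsg.lowerUnipotentSL2 k) := ⟨⟨by
  rintro ⟨a, ha⟩ ⟨b, hb⟩
  obtain ⟨s, rfl⟩ := mem_lower_iff.1 ha
  obtain ⟨t, rfl⟩ := mem_lower_iff.1 hb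
  exact Subtype.ext (by simp [lowMat_mul, add_comm])⟩⟩

instance upper_comm : IsMulCommutative (Cfsg.upperUnipotentSL2 k) := ⟨⟨by
  rintro ⟨a, ha⟩ ⟨b, hb⟩
  obtain ⟨s, rfl⟩ := mem_upper_iff.1 ha
  obtain ⟨t, rfl⟩ := mem_upper_iff.1 hb
  exact Subtype.ext (by simp [upMat_mul, add_comm])⟩⟩

theorem isNilpotent_of_isMulCommutative (H : Type*) [Group H] [IsMulCommutative H] :
    Group.IsNilpotent H := by
  refine Subgroup.nilpotent_iff_lowerCentralSeries.2 ⟨1, ?_⟩
  rw [Subgroup.lowerCentralSeries_succ, Subgroup.lowerCentralSeries_zero, commutator_eq_bot_iff_le_centralizer]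
  intro x _
  rw [mem_centralizer_iff]
  intro y _
  exact (IsMulCommutative.is_comm.comm y x)

theorem sl2_pair : Cfsg.IsRankOnePair (Cfsg.lowerUnipotentSL2 k) (Cfsg.upperUnipotentSL2 k) := by
  refine ⟨?_, isNilpotent_of_isMulCommutative _, isNilpotent_of_isMulCommutative _, ?_, ?_⟩
  · intro e
    obtain ⟨t, ht⟩ := mem_upper_iff.1 (e ▸ lowMat_mem (1 : k))
    have := congrArg (fun g : SpecialLinearGroup (Fin 2) k => (g : Matrix (Fin 2) (Fin 2) k) 1 0) ht
    simp [lowMat, upMat] at this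
  · intro a ha ha1
    obtain ⟨t, rfl⟩ := mem_lower_iff.1 ha
    have ht : t ≠ 0 := fun e => ha1 (e ▸ lowMat_zero)
    refine ⟨upMat t⁻¹, upMat_mem _, ?_, conjBy_low_up (inv_mul_cancel₀ ht)⟩
    intro e
    have := congrArg (fun g : SpecialLinearGroup (Fin 2) k => (g : Matrix (Fin 2) (Fin 2) k) 0 1) e
    simp [upMat, ht] at this
  · intro a ha ha1
    obtain ⟨s, rfl⟩ := mem_upper_iff.1 ha
    have hs : s ≠ 0 := fun e => ha1 (e ▸ upMat_zero)
    refine ⟨lowMat s⁻¹, lowMat_mem _, ?_, (conjBy_low_up (mul_inv_cancel₀ hs)).symm⟩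
    intro e
    have := congrArg (fun g : SpecialLinearGroup (Fin 2) k => (g : Matrix (Fin 2) (Fin 2) k) 1 0) e
    simp [lowMat, hs] at this

theorem sl2_rankOne (k : Type*) [Field k] :
    Cfsg.IsRankOneGroup (SpecialLinearGroup (Fin 2) k) (Cfsg.lowerUnipotentSL2 k) (Cfsg.upperUnipotentSL2 k) ∧
    Cfsg.IsSpecialRankOnePair (Cfsg.lowerUnipotentSL2 k) (Cfsg.upperUnipotentSL2 k) ∧
    Cfsg.HasAbelianUnipotents (Cfsg.lowerUnipotentSL2 k) (Cfsg.upperUnipotentSL2 k) := by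
  refine ⟨⟨lower_sup_upper, sl2_pair⟩, ⟨sl2_pair, ?_⟩, lower_comm, upper_comm⟩
  intro a ha ha1 b hb hb1 e
  obtain ⟨t, rfl⟩ := mem_lower_iff.1 ha
  obtain ⟨s, rfl⟩ := mem_upper_iff.1 hb
  have ht : t ≠ 0 := fun e => ha1 (e ▸ lowMat_zero)
  have hst : s * t = 1 := by
    have h' := conjBy_low_up (inv_mul_cancel₀ ht)
    have := inv_injective (eq_of_conjBy_eq (rankOne_symm sl2_pair)
      (inv_mem (upMat_mem s)) (inv_mem (upMat_mem t⁻¹)) (e.trans h'.symm))
    have := congrArg (fun g : SpecialLinearGroup (Fin 2) k => (g : Matrix (Fin 2) (Fin 2) k) 0 1) this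
    simp [upMat] at this
    rw [this, inv_mul_cancel₀ ht]
  rw [upMat_inv, lowMat_inv]
  exact special_rel s t hst

end Cfsg.Agent.H87
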