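import Mathlib
import Cfsg.Prelude.Def_G2

/-!
Zorn's algebra as a doubled matrix algebra, and the centralizer of the doubling involution in its automorphism group.
-/

set_option autoImplicit false

namespace Cfsg.Agent.H87.Oct

open Matrix
open scoped MatrixGroups

variable (F : Type*) [Field F]

/-- Pairs of `2 × 2` matrices. -/
abbrev Pair : Type _ := Matrix (Fin 2) (Fin 2) F × Matrix (Fin 2) (Fin 2) F

/-- The coordinates `(x, y) ↦ x + y v`. -/
def coord : Pair F ≃ₗ[F] (Fin 8 → F) where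
  toFun p := ![p.1 0 0, p.1 0 1, p.2 0 0, p.2 1 0, p.1 1 0, -p.2 1 1, p.2 0 1, p.1 1 1]
  map_add' p q := by
    funext i; fin_cases i <;> simp <;> abel
  map_smul' c p := by
    funext i; fin_cases i <;> simp
  invFun v := (!![v 0, v 1; v 4, v 7], !![v 2, v 6; v 3, -v 5])
  left_inv p := by
    refine Prod.ext ?_ ?_ <;> ext i j <;> fin_cases i <;> fin_cases j <;> simp
  right_inv v := by
    funext i; fin_cases i <;> simp

variable {F}

theorem zorn_coord (x y u w : Matrix (Fin 2) (Fin 2) F) :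
    Cfsg.Lie.zornMul (coord F (x, y)) (coord F (u, w)) =
      coord F (x * u - w.adjugate * y, w * x + y * u.adjugate) := by
  funext i
  fin_cases i <;>
    simp [coord, Cfsg.Lie.zornMul, Cfsg.Lie.dot3, Cfsg.Lie.cross3, Matrix.mul_apply, Matrix.adjugate_fin_two,
      Matrix.vecMul, dotProduct, Fin.sum_univ_two] <;> ring

variable (F)

/-- Pairs of invertible matrices of equal determinant. -/
def Delta : Subgroup (GL (Fin 2) F × GL (Fin 2) F) :=
  ((Matrix.GeneralLinearGroup.det.comp (MonoidHom.fst _ _)) /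
    (Matrix.GeneralLinearGroup.det.comp (MonoidHom.snd _ _)) : GL (Fin 2) F × GL (Fin 2) F →* Fˣ).ker

variable {F}

theorem mem_Delta {p : GL (Fin 2) F × GL (Fin 2) F} :
    p ∈ Delta F ↔ GeneralLinearGroup.det p.1 = GeneralLinearGroup.det p.2 := by
  rw [Delta, MonoidHom.mem_ker, MonoidHom.div_apply, div_eq_one]
  rfl

/-- The action on pairs. -/
def actLin (p : GL (Fin 2) F × GL (Fin 2) F) : Pair F →ₗ[F] Pair F where
  toFun v := ((p.1 : Matrix (Fin 2) (Fin 2) F) * v.1 * (p.1⁻¹ : GL (Fin 2) F),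
    (p.2 : Matrix (Fin 2) (Fin 2) F) * v.2 * (p.1⁻¹ : GL (Fin 2) F))
  map_add' u v := by simp [Matrix.mul_add, Matrix.add_mul]
  map_smul' c v := by simp

theorem actLin_apply (p : GL (Fin 2) F × GL (Fin 2) F) (v : Pair F) :
    actLin p v = ((p.1 : Matrix (Fin 2) (Fin 2) F) * v.1 * (p.1⁻¹ : GL (Fin 2) F),
      (p.2 : Matrix (Fin 2) (Fin 2) F) * v.2 * (p.1⁻¹ : GL (Fin 2) F)) := rfl

/-- The action as endomorphisms of the coordinates. -/
def endHom : Delta F →* Module.End F (Fin 8 → F) where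
  toFun p := (coord F).toLinearMap ∘ₗ actLin p.1 ∘ₗ (coord F).symm.toLinearMap
  map_one' := LinearMap.ext fun v => by
    simp [actLin_apply]
  map_mul' p q := LinearMap.ext fun v => by
    simp [actLin_apply, Matrix.mul_assoc, Module.End.mul_apply, _root_.mul_inv_rev]

theorem endHom_coord (p : Delta F) (v : Pair F) : endHom p (coord F v) = coord F (actLin p.1 v) := by
  simp [endHom]

/-- The action as matrices. -/
def phi : Delta F →* GL (Fin 8) F :=
  ((LinearMap.toMatrixAlgEquiv' (R := F) (n := Fin 8)).toMulEquiv.toMonoidHom.comp endHom).toHomUnits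

theorem phi_coord (p : Delta F) (v : Pair F) :
    ((phi p : GL (Fin 8) F) : Matrix (Fin 8) (Fin 8) F) *ᵥ coord F v = coord F (actLin p.1 v) := by
  rw [← endHom_coord, ← Matrix.toLinAlgEquiv'_apply]
  change Matrix.toLinAlgEquiv' (LinearMap.toMatrixAlgEquiv' (endHom p)) _ = _
  rw [Matrix.toLinAlgEquiv'_toMatrixAlgEquiv']

theorem ext_coord {g h : GL (Fin 8) F}
    (e : ∀ v : Pair F, (g : Matrix (Fin 8) (Fin 8) F) *ᵥ coord F v = (h : Matrix (Fin 8) (Fin 8) F) *ᵥ coord F v) :
    g = h := by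
  refine Units.ext (Matrix.ext_of_mulVec_single fun i => ?_)
  have := e ((coord F).symm (Pi.single i 1))
  rwa [LinearEquiv.apply_symm_apply] at this

theorem adj_conj (a b : GL (Fin 2) F) (x : Matrix (Fin 2) (Fin 2) F) :
    ((a : Matrix (Fin 2) (Fin 2) F) * x * (b⁻¹ : GL (Fin 2) F)).adjugate =
      ((a : Matrix (Fin 2) (Fin 2) F).det * ((b⁻¹ : GL (Fin 2) F) : Matrix (Fin 2) (Fin 2) F).det) •
        ((b : Matrix (Fin 2) (Fin 2) F) * x.adjugate * (a⁻¹ : GL (Fin 2) F)) := by
  have h : ∀ c : GL (Fin 2) F, (c : Matrix (Fin 2) (Fin 2) F).adjugate =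
      (c : Matrix (Fin 2) (Fin 2) F).det • ((c⁻¹ : GL (Fin 2) F) : Matrix (Fin 2) (Fin 2) F) := by
    intro c
    calc (c : Matrix (Fin 2) (Fin 2) F).adjugate
        = ((c⁻¹ : GL (Fin 2) F) : Matrix (Fin 2) (Fin 2) F) * ((c : Matrix (Fin 2) (Fin 2) F) * (c : Matrix (Fin 2) (Fin 2) F).adjugate) := by
          rw [← Matrix.mul_assoc, ← Units.val_mul, inv_mul_cancel, Units.val_one, Matrix.one_mul]
      _ = _ := by rw [Matrix.mul_adjugate, mul_smul_comm, Matrix.mul_one]
  rw [Matrix.adjugate_mul_distrib, Matrix.adjugate_mul_distrib, h a, h b⁻¹, inv_inv]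
  simp only [smul_mul_assoc, mul_smul_comm, smul_smul, Matrix.mul_assoc, mul_comm]

theorem phi_mem (p : Delta F) : phi p ∈ Cfsg.Lie.G2 F := by
  intro x y
  show ((phi p : GL (Fin 8) F) : Matrix (Fin 8) (Fin 8) F) *ᵥ Cfsg.Lie.zornMul x y = _
  obtain ⟨⟨x₁, y₁⟩, rfl⟩ := (coord F).surjective x
  obtain ⟨⟨u₁, w₁⟩, rfl⟩ := (coord F).surjective y
  simp only [Units.coeHom_apply]
  rw [zorn_coord, phi_coord, phi_coord, phi_coord]
  obtain ⟨⟨a, b⟩, hab⟩ := p
  rw [mem_Delta] at hab
  have hdet : (a : Matrix (Fin 2) (Fin 2) F).det = (b : Matrix (Fin 2) (Fin 2) F).det := by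
    simpa [GeneralLinearGroup.val_det_apply] using congrArg Units.val hab
  have hinv : ∀ c : GL (Fin 2) F, (c : Matrix (Fin 2) (Fin 2) F).det *
      ((c⁻¹ : GL (Fin 2) F) : Matrix (Fin 2) (Fin 2) F).det = 1 := fun c => by
    rw [← Matrix.det_mul, ← Units.val_mul, mul_inv_cancel, Units.val_one, Matrix.det_one]
  have hmid : ∀ (c : GL (Fin 2) F) (M N : Matrix (Fin 2) (Fin 2) F),
      M * (c⁻¹ : GL (Fin 2) F) * ((c : Matrix (Fin 2) (Fin 2) F) * N) = M * N := fun c M N => by
    rw [Matrix.mul_assoc, ← Matrix.mul_assoc _ (c : Matrix (Fin 2) (Fin 2) F), ← Units.val_mul, inv_mul_cancel,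
      Units.val_one, Matrix.one_mul]
  simp only [actLin_apply]
  rw [zorn_coord, adj_conj, adj_conj, hinv]
  rw [show (b : Matrix (Fin 2) (Fin 2) F).det * ((a⁻¹ : GL (Fin 2) F) : Matrix (Fin 2) (Fin 2) F).det = 1 by
    rw [← hdet, hinv]]
  simp only [one_smul]
  congr 1
  refine Prod.ext ?_ ?_
  · show (a : Matrix (Fin 2) (Fin 2) F) * (x₁ * u₁ - w₁.adjugate * y₁) * _ = _
    simp only [Matrix.mul_sub, Matrix.sub_mul, ← Matrix.mul_assoc]
    simp only [Matrix.mul_assoc, Units.inv_mul_cancel_left]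
  · show (b : Matrix (Fin 2) (Fin 2) F) * (w₁ * x₁ + y₁ * u₁.adjugate) * _ = _
    simp only [Matrix.mul_add, Matrix.add_mul, ← Matrix.mul_assoc]
    simp only [Matrix.mul_assoc, Units.inv_mul_cancel_left]

/-- The homomorphism into the automorphism group. -/
def phiG : Delta F →* Cfsg.Lie.G2 F := (phi).codRestrict _ phi_mem

theorem phiG_coord (p : Delta F) (v : Pair F) :
    (((phiG p : Cfsg.Lie.G2 F) : GL (Fin 8) F) : Matrix (Fin 8) (Fin 8) F) *ᵥ coord F v = coord F (actLin p.1 v) :=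
  phi_coord p v

theorem eq_scalar_of_comm {a : Matrix (Fin 2) (Fin 2) F} (h : ∀ x, a * x = x * a) :
    ∃ l : F, a = l • (1 : Matrix (Fin 2) (Fin 2) F) := by
  have h1 := h !![1, 0; 0, 0]
  have h2 := h !![0, 1; 0, 0]
  have e01 : a 0 1 = 0 := by simpa [Matrix.mul_apply] using (congrFun (congrFun h1 0) 1).symm
  have e10 : a 1 0 = 0 := by simpa [Matrix.mul_apply] using congrFun (congrFun h1 1) 0
  have e11 : a 1 1 = a 0 0 := by simpa [Matrix.mul_apply] using (congrFun (congrFun h2 0) 1).symm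
  refine ⟨a 0 0, ?_⟩
  ext i j; fin_cases i <;> fin_cases j <;> simp [e01, e10, e11]

theorem phiG_eq_one {p : Delta F} : phiG p = 1 ↔
    ∃ l : F, (p.1.1 : Matrix (Fin 2) (Fin 2) F) = l • 1 ∧ (p.1.2 : Matrix (Fin 2) (Fin 2) F) = l • 1 := by
  constructor
  · intro h
    have hv : ∀ v, actLin p.1 v = v := fun v => by
      have := phiG_coord p v
      rw [h] at this
      simpa using this.symm
    have hcancel : ∀ M : Matrix (Fin 2) (Fin 2) F, M * (p.1.1⁻¹ : GL (Fin 2) F) * (p.1.1 : Matrix (Fin 2) (Fin 2) F) = M :=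
      fun M => by rw [Matrix.mul_assoc, ← Units.val_mul, inv_mul_cancel, Units.val_one, Matrix.mul_one]
    obtain ⟨l, hl⟩ := eq_scalar_of_comm (a := (p.1.1 : Matrix (Fin 2) (Fin 2) F)) fun x => by
      have := congrArg (fun v : Pair F => v.1 * (p.1.1 : Matrix (Fin 2) (Fin 2) F)) (hv (x, 0))
      simp only [actLin_apply, hcancel] at this
      exact this
    refine ⟨l, hl, ?_⟩
    have := congrArg (fun v : Pair F => v.2 * (p.1.1 : Matrix (Fin 2) (Fin 2) F)) (hv (0, 1))
    simp only [actLin_apply, hcancel] at this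
    simpa [hl] using this
  · rintro ⟨l, h1, h2⟩
    refine Subtype.ext (ext_coord fun v => ?_)
    rw [phiG_coord]
    simp only [OneMemClass.coe_one, Units.val_one, Matrix.one_mulVec, EmbeddingLike.apply_eq_iff_eq, actLin_apply]
    have hcancel : ∀ M : Matrix (Fin 2) (Fin 2) F, (p.1.1 : Matrix (Fin 2) (Fin 2) F) * M * (p.1.1⁻¹ : GL (Fin 2) F) = M :=
      fun M => by
        rw [show (p.1.1 : Matrix (Fin 2) (Fin 2) F) * M = M * p.1.1 by simp [h1], Matrix.mul_assoc, ← Units.val_mul,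
          mul_inv_cancel, Units.val_one, Matrix.mul_one]
    refine Prod.ext (hcancel v.1) ?_
    show (p.1.2 : Matrix (Fin 2) (Fin 2) F) * v.2 * _ = v.2
    rw [h2, ← h1, hcancel]

variable (F)

/-- The doubling involution. -/
def zD : Delta F := ⟨(1, -1), by
  rw [mem_Delta]; exact Units.ext (by simp [GeneralLinearGroup.val_det_apply, Matrix.det_fin_two])⟩

variable {F}

theorem zD_coord (x y : Matrix (Fin 2) (Fin 2) F) :
    (((phiG (zD F) : Cfsg.Lie.G2 F) : GL (Fin 8) F) : Matrix (Fin 8) (Fin 8) F) *ᵥ coord F (x, y) = coord F (x, -y) := by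
  rw [phiG_coord]
  simp [zD, actLin_apply]

/-- Multiplicative bijective linear maps of `2 × 2` matrices are inner. -/
theorem exists_inner (f : Matrix (Fin 2) (Fin 2) F →ₗ[F] Matrix (Fin 2) (Fin 2) F) (hinj : Function.Injective f)
    (hmul : ∀ x y, f (x * y) = f x * f y) :
    ∃ a : GL (Fin 2) F, ∀ x, f x = (a : Matrix (Fin 2) (Fin 2) F) * x * (a⁻¹ : GL (Fin 2) F) := by
  classical
  set E : Fin 2 → Matrix (Fin 2) (Fin 2) F := fun i => Matrix.single i (0 : Fin 2) (1 : F) with hE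
  have hne : f (E 0) ≠ 0 := by
    rw [← map_zero f]
    intro h
    simpa [hE] using congrFun (congrFun (hinj h) 0) 0
  obtain ⟨k, hk⟩ : ∃ k, f (E 0) *ᵥ Pi.single k 1 ≠ 0 := by
    by_contra h
    push Not at h
    exact hne (Matrix.ext_of_mulVec_single fun k => by rw [h k, Matrix.zero_mulVec])
  set v := f (E 0) *ᵥ Pi.single k 1 with hv
  set A : Matrix (Fin 2) (Fin 2) F := Matrix.of fun i j => (f (E j) *ᵥ v) i with hA
  have hfix : f (E 0) *ᵥ v = v := by
    rw [hv, Matrix.mulVec_mulVec, ← hmul]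
    simp [hE]
  have hint : ∀ X, f X * A = A * X := by
    intro X
    ext i j
    have hdec : X * E j = ∑ l, X l j • E l := by
      ext a b
      fin_cases a <;> fin_cases b <;> fin_cases j <;> simp [hE, Matrix.mul_apply, Fin.sum_univ_two, Matrix.single_apply]
    have e1 : (f X * A) i j = (f X *ᵥ (f (E j) *ᵥ v)) i := by
      simp [hA, Matrix.mul_apply, Matrix.mulVec, dotProduct]
    rw [e1, Matrix.mulVec_mulVec, ← hmul, hdec]
    fin_cases i <;> simp [hA, Matrix.mul_apply, Matrix.sum_mulVec, Matrix.smul_mulVec, Matrix.mulVec, dotProduct,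
      Fin.sum_univ_two] <;> ring
  have hker : ∀ w, A *ᵥ w = 0 → w = 0 := by
    intro w hw
    by_contra hw0
    obtain ⟨l, hl⟩ : ∃ l, w l ≠ 0 := Function.ne_iff.1 hw0
    have h1 : A *ᵥ (Matrix.single (0 : Fin 2) l (1 : F) *ᵥ w) = 0 := by
      rw [Matrix.mulVec_mulVec, ← hint, ← Matrix.mulVec_mulVec, hw, Matrix.mulVec_zero]
    have h2 : (w l) • v = 0 := by
      rw [← h1]
      funext i
      conv_lhs => rw [Pi.smul_apply, smul_eq_mul, ← hfix]
      fin_cases l <;> simp [hA, Matrix.mulVec, dotProduct, Matrix.single_apply, Fin.sum_univ_two, mul_comm]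
    exact hk ((smul_eq_zero.1 h2).resolve_left hl)
  have hu : IsUnit A := by
    rw [← Matrix.mulVec_injective_iff_isUnit]
    intro x y h
    rw [← sub_eq_zero]
    exact hker _ (by rw [Matrix.mulVec_sub]; exact sub_eq_zero.2 h)
  refine ⟨hu.unit, fun x => ?_⟩
  rw [IsUnit.unit_spec, ← hint, Matrix.mul_assoc]
  rw [hu.mul_val_inv, Matrix.mul_one]

/-- The centralizer of the doubling involution. -/
theorem mem_range_of_comm (h2 : (2 : F) ≠ 0) {g : Cfsg.Lie.G2 F} (hg : g * phiG (zD F) = phiG (zD F) * g) :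
    g ∈ (phiG (F := F)).range := by
  set M := ((g : GL (Fin 8) F) : Matrix (Fin 8) (Fin 8) F) with hM
  have hMinj : Function.Injective (fun v => M *ᵥ v) := by
    rw [Matrix.mulVec_injective_iff_isUnit]; exact Units.isUnit _
  have hmul : ∀ x y, M *ᵥ Cfsg.Lie.zornMul x y = Cfsg.Lie.zornMul (M *ᵥ x) (M *ᵥ y) := g.2
  have hcomm : ∀ x y, M *ᵥ coord F (x, -y) =
      (((phiG (zD F) : Cfsg.Lie.G2 F) : GL (Fin 8) F) : Matrix (Fin 8) (Fin 8) F) *ᵥ (M *ᵥ coord F (x, y)) := by
    intro x y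
    rw [← zD_coord, hM, Matrix.mulVec_mulVec, Matrix.mulVec_mulVec, ← Units.val_mul, ← Units.val_mul,
      ← Subgroup.coe_mul, ← Subgroup.coe_mul, hg]
  have hH : ∀ x, ∃ x', M *ᵥ coord F (x, 0) = coord F (x', 0) := by
    intro x
    obtain ⟨⟨x', y'⟩, e⟩ := (coord F).surjective (M *ᵥ coord F (x, 0))
    refine ⟨x', ?_⟩
    have := hcomm x 0
    rw [neg_zero, ← e, zD_coord, EmbeddingLike.apply_eq_iff_eq, Prod.ext_iff] at this
    have t2 : y' = -y' := this.2
    have hy : (2 : F) • y' = 0 := by rw [two_smul]; nth_rewrite 1 [t2]; exact neg_add_cancel y'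
    rw [← e, (smul_eq_zero.1 hy).resolve_left h2]
  have hK : ∀ y, ∃ y', M *ᵥ coord F (0, y) = coord F (0, y') := by
    intro y
    obtain ⟨⟨x', y'⟩, e⟩ := (coord F).surjective (M *ᵥ coord F (0, y))
    refine ⟨y', ?_⟩
    have h := hcomm 0 y
    rw [show ((0 : Matrix (Fin 2) (Fin 2) F), -y) = -((0 : Matrix (Fin 2) (Fin 2) F), y) by simp, map_neg,
      Matrix.mulVec_neg, ← e, zD_coord, ← map_neg, EmbeddingLike.apply_eq_iff_eq, Prod.ext_iff] at h
    simp only [Prod.fst_neg] at h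
    have t1 : -x' = x' := h.1
    have hx : (2 : F) • x' = 0 := by rw [two_smul]; nth_rewrite 1 [← t1]; exact neg_add_cancel x'
    rw [← e, (smul_eq_zero.1 hx).resolve_left h2]
  choose f hf using hH
  let fl : Matrix (Fin 2) (Fin 2) F →ₗ[F] Matrix (Fin 2) (Fin 2) F :=
    { toFun := f
      map_add' := fun x y => by
        have h := hf (x + y)
        rw [show ((x + y, 0) : Pair F) = (x, 0) + (y, 0) by simp, map_add, Matrix.mulVec_add, hf, hf, ← map_add,
          EmbeddingLike.apply_eq_iff_eq] at h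
        simpa using (congrArg Prod.fst h).symm
      map_smul' := fun c x => by
        have h := hf (c • x)
        rw [show ((c • x, 0) : Pair F) = c • (x, 0) by simp, map_smul, Matrix.mulVec_smul, hf, ← map_smul,
          EmbeddingLike.apply_eq_iff_eq] at h
        simpa using (congrArg Prod.fst h).symm }
  have hfinj : Function.Injective fl := fun x y h => by
    have : coord F (x, 0) = coord F (y, 0) := hMinj (by
      show M *ᵥ _ = M *ᵥ _
      rw [hf, hf]; exact congrArg (fun t => coord F (t, 0)) h)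
    simpa using congrArg Prod.fst ((coord F).injective this)
  have hfmul : ∀ x y, fl (x * y) = fl x * fl y := fun x y => by
    have h := hmul (coord F (x, 0)) (coord F (y, 0))
    rw [zorn_coord, hf x, hf y, zorn_coord] at h
    simp only [Matrix.mul_zero, sub_zero, Matrix.zero_mul, add_zero] at h
    rw [hf, EmbeddingLike.apply_eq_iff_eq] at h
    exact congrArg Prod.fst h
  obtain ⟨a, ha⟩ := exists_inner fl hfinj hfmul
  obtain ⟨w₀, hw₀⟩ := hK 1
  -- the image of `y v` is the image of `y` times that of `v`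
  have hKmap : ∀ y, M *ᵥ coord F (0, y) = coord F (0, w₀ * f y) := by
    intro y
    have h := hmul (coord F (y, 0)) (coord F (0, 1))
    rw [hf, hw₀, zorn_coord, zorn_coord] at h
    simpa using h
  have hdet : w₀.det = (1 : F) := by
    have h := hmul (coord F (0, 1)) (coord F (0, 1))
    rw [hw₀, zorn_coord, zorn_coord] at h
    simp only [Matrix.mul_zero, Matrix.adjugate_one, Matrix.mul_one, Matrix.zero_mul, add_zero, zero_sub,
      Matrix.adjugate_zero, Matrix.adjugate_mul] at h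
    rw [hf, EmbeddingLike.apply_eq_iff_eq] at h
    have h1 := congrArg Prod.fst h
    rw [show f (-1) = fl (-1) from rfl, ha] at h1
    simpa using (congrFun (congrFun h1 0) 0).symm
  have hwu : IsUnit w₀ := (Matrix.isUnit_iff_isUnit_det w₀).2 (by rw [hdet]; exact isUnit_one)
  refine ⟨⟨(a, hwu.unit * a), mem_Delta.2 ?_⟩, ?_⟩
  · rw [map_mul]
    exact (mul_eq_right.2 (Units.ext (by simpa [GeneralLinearGroup.val_det_apply] using hdet))).symm
  · refine Subtype.ext (ext_coord fun v => ?_)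
    rw [phiG_coord, show v = (v.1, 0) + (0, v.2) by simp, map_add, map_add, map_add, Matrix.mulVec_add, hf, hKmap]
    simp only [actLin_apply, Units.val_mul, IsUnit.unit_spec, Matrix.mul_zero, Matrix.zero_mul, show f v.1 = fl v.1 from rfl,
      show f v.2 = fl v.2 from rfl, ha, Matrix.mul_assoc]

end Cfsg.Agent.H87.Oct
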