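import Cfsg.Agent.BlockBasic.Basic
import Mathlib.LinearAlgebra.PID
import Mathlib.RepresentationTheory.Invariants
import Mathlib.LinearAlgebra.Determinant

/-!
# Height zero characters at a defect class, and the determinant trick
-/

open scoped ComplexConjugate

namespace Cfsg.Agent.H87

open BlockBasic CharBasic

universe u v

section Rep

variable {G : Type u} [Group G] [Finite G] {V : Type v} [AddCommGroup V] [Module ℂ V]
  [FiniteDimensional ℂ V] (ρ : Representation ℂ G V) (D : Subgroup G)

/-- The centralizer of `D` acting on the fixed space of `D`. -/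
noncomputable def fixRep :
    Representation ℂ (Subgroup.centralizer (D : Set G)) (Representation.invariants (ρ.comp D.subtype)) where
  toFun x := (ρ (x : G)).restrict (fun v hv d => by
    have hc := Subgroup.mem_centralizer_iff.1 x.2 (d : G) d.2
    have hv' := hv d
    simp only [MonoidHom.coe_comp, Function.comp_apply, Subgroup.coe_subtype] at hv' ⊢
    rw [← Module.End.mul_apply, ← map_mul, hc, map_mul, Module.End.mul_apply, hv'])
  map_one' := LinearMap.ext fun v => Subtype.ext <| by
    show ρ (1 : G) (v : V) = (v : V)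
    rw [map_one]; rfl
  map_mul' a b := LinearMap.ext fun v => Subtype.ext <| by
    show ρ ((a : G) * (b : G)) (v : V) = ρ (a : G) (ρ (b : G) (v : V))
    rw [map_mul]; rfl

/-- The average of a character over a coset of `D` centralised by the representative is integral. -/
theorem isIntegral_average [Fintype D] {x : G} (hx : x ∈ Subgroup.centralizer (D : Set G)) :
    IsIntegral ℤ ((Nat.card D : ℂ)⁻¹ * ∑ d : D, ρ.character (x * d)) := by
  classical
  haveI : Invertible (Fintype.card D : ℂ) := invertibleOfNonzero (by simp)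
  set σ : Representation ℂ D V := ρ.comp D.subtype with hσ
  have hstab : ∀ v ∈ Representation.invariants σ, ρ x v ∈ Representation.invariants σ :=
    fun v hv => (fixRep ρ D ⟨x, hx⟩ ⟨v, hv⟩).2
  have hf : ∀ v, (ρ x * Representation.averageMap σ) v ∈ Representation.invariants σ :=
    fun v => hstab _ (Representation.averageMap_invariant σ v)
  have h1 : (fixRep ρ D).character ⟨x, hx⟩ =
      LinearMap.trace ℂ _ (ρ x * Representation.averageMap σ) := by
    rw [← LinearMap.trace_restrict_eq_of_forall_mem _ _ hf]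
    show LinearMap.trace ℂ _ (fixRep ρ D ⟨x, hx⟩) = _
    congr 1
    ext v : 1
    apply Subtype.ext
    show ρ x (v : V) = ρ x (Representation.averageMap σ (v : V))
    rw [Representation.averageMap_id σ _ v.2]
  have h2 := isIntegral_character (fixRep ρ D) ⟨x, hx⟩
  rw [h1, Representation.averageMap, GroupAlgebra.average] at h2
  simp only [map_smul, map_sum, MonoidAlgebra.of_apply, Representation.asAlgebraHom_single, one_smul,
    Finset.mul_sum, mul_smul_comm, smul_eq_mul, invOf_eq_inv] at h2
  convert h2 using 1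
  rw [Nat.card_eq_fintype_card, Finset.mul_sum]
  refine Finset.sum_congr rfl fun d _ => ?_
  rw [hσ, MonoidHom.coe_comp, Function.comp_apply, Subgroup.coe_subtype, ← map_mul]
  rfl

/-- If a `p`-group `D` centralises `x` and `χ x` is a unit mod `M`, a determinant on an eigenspace gives
an extension of any scalar character of `Z ≤ D`. -/
theorem exists_extension {p : ℕ} (hp : p.Prime) {M : Ideal AlgInt} (hM : IsPModular p M) {k : ℕ}
    (hD : Nat.card D = p ^ k) {x : G} (hx : ∀ d ∈ D, d * x = x * d)
    (hne : ¬ MemLocalIdeal M (ρ.character x)) (Z : Subgroup G) (hZD : Z ≤ D) (lam : Z →* ℂˣ)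
    (hlam : ∀ z : Z, ρ (z : G) = (lam z : ℂ) • LinearMap.id) :
    ∃ μ : D →* ℂˣ, ∀ z : Z, μ ⟨(z : G), hZD z.2⟩ = lam z := by
  classical
  cases nonempty_fintype G
  obtain ⟨b, ν, hb, hν, hsum⟩ := exists_eigenbasis_rep ρ x
  let E : ℂ → Submodule ℂ V := fun c => Module.End.eigenspace (ρ x) c
  have hdim : ∀ c, Module.finrank ℂ (E c) = (Finset.univ.filter (fun i => ν i = c)).card := by
    intro c
    have hspan : E c = Submodule.span ℂ (b '' {i | ν i = c}) := by
      apply le_antisymm
      · intro v hv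
        rw [b.mem_span_image]
        intro i hi
        rw [Finset.mem_coe, Finsupp.mem_support_iff] at hi
        by_contra hic
        apply hi
        have h1 := Module.End.mem_eigenspace_iff.1 hv
        have h2 : b.repr (ρ x v) i = ν i * b.repr v i := by
          conv_lhs => rw [← b.sum_repr v]
          simp only [map_sum, map_smul, hb, Finset.sum_apply, Finsupp.coe_finset_sum,
            Finsupp.smul_apply, Module.Basis.repr_self, smul_eq_mul]
          simp [Finsupp.single_apply, mul_comm]
        rw [h1, map_smul, Finsupp.smul_apply, smul_eq_mul] at h2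
        have : (c - ν i) * b.repr v i = 0 := by rw [sub_mul, h2, sub_self]
        exact (mul_eq_zero.1 this).resolve_left (sub_ne_zero.2 (Ne.symm hic))
      · rw [Submodule.span_le]
        rintro _ ⟨i, hi, rfl⟩
        rw [Set.mem_setOf_eq] at hi
        rw [SetLike.mem_coe, Module.End.mem_eigenspace_iff, hb, hi]
    rw [hspan, Set.image_eq_range]
    refine (finrank_span_eq_card (b.linearIndependent.comp _ Subtype.val_injective)).trans ?_
    simp [Fintype.card_subtype]
  obtain ⟨c, hc⟩ : ∃ c, ¬ p ∣ Module.finrank ℂ (E c) := by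
    by_contra hall
    push Not at hall
    apply hne
    rw [hsum, ← Finset.sum_fiberwise_of_maps_to (g := ν) (t := Finset.univ.image ν)
      (fun i hi => Finset.mem_image_of_mem _ hi)]
    refine memLocalIdeal_sum hM _ _ fun c hc => ?_
    rw [Finset.sum_congr rfl fun i hi => (Finset.mem_filter.1 hi).2, Finset.sum_const, nsmul_eq_mul,
      ← hdim c, mul_comm]
    obtain ⟨i, -, rfl⟩ := Finset.mem_image.1 hc
    refine memLocalIdeal_mul hM (memLocalRing_of_isIntegral hM ?_) ((memLocalIdeal_natCast_iff hM _).2 (hall _))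
    exact IsIntegral.of_pow (orderOf_pos x) (by rw [hν i]; exact isIntegral_one)
  have hstab : ∀ d : D, ∀ v ∈ E c, ρ (d : G) v ∈ E c := by
    intro d v hv
    rw [Module.End.mem_eigenspace_iff] at hv ⊢
    rw [← Module.End.mul_apply, ← map_mul, ← hx _ d.2, map_mul, Module.End.mul_apply, hv, map_smul]
  let σ : D →* (E c →ₗ[ℂ] E c) :=
    { toFun := fun d => (ρ (d : G)).restrict (hstab d)
      map_one' := LinearMap.ext fun v => Subtype.ext <| by
        show ρ (1 : G) (v : V) = (v : V)
        rw [map_one]; rfl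
      map_mul' := fun a b => LinearMap.ext fun v => Subtype.ext <| by
        show ρ ((a : G) * (b : G)) (v : V) = ρ (a : G) (ρ (b : G) (v : V))
        rw [map_mul]; rfl }
  let μ₀ : D →* ℂˣ := (LinearMap.det.comp σ).toHomUnits
  set n := Module.finrank ℂ (E c) with hn
  obtain ⟨j, hj⟩ : ∃ j : ℕ, n * j ≡ 1 [MOD p ^ k] := by
    have hco : Nat.Coprime n (p ^ k) := ((hp.coprime_iff_not_dvd.2 hc).symm).pow_right k
    rcases Nat.eq_zero_or_pos k with rfl | hk
    · exact ⟨0, by rw [pow_zero]; exact Nat.modEq_one⟩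
    · obtain ⟨j, -, hj⟩ := Nat.exists_mul_mod_eq_one_of_coprime hco (Nat.one_lt_pow hk.ne' hp.one_lt)
      exact ⟨j, by rw [Nat.ModEq, hj, Nat.one_mod_eq_one.2 (Nat.one_lt_pow hk.ne' hp.one_lt).ne']⟩
  refine ⟨μ₀ ^ j, fun z => ?_⟩
  set d : D := ⟨(z : G), hZD z.2⟩
  have h0 : μ₀ d = lam z ^ n := by
    apply Units.ext
    rw [MonoidHom.coe_toHomUnits, MonoidHom.comp_apply, Units.val_pow_eq_pow_val]
    have : σ d = (lam z : ℂ) • LinearMap.id := LinearMap.ext fun v => Subtype.ext <| by
      show ρ (z : G) (v : V) = (lam z : ℂ) • (v : V)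
      rw [hlam z]; rfl
    rw [this, LinearMap.det_smul, LinearMap.det_id, mul_one]
  have hord : lam z ^ (p ^ k) = 1 := by
    rw [← map_pow]
    have : z ^ (p ^ k) = 1 := by
      have h1 : d ^ (p ^ k) = 1 := hD ▸ pow_card_eq_one'
      apply Subtype.ext
      have := congrArg (fun e : D => (e : G)) h1
      simpa [d] using this
    rw [this, map_one]
  rw [MonoidHom.pow_apply, h0, ← pow_mul, pow_eq_pow_mod _ hord, hj, ← pow_eq_pow_mod _ hord, pow_one]

end Rep

section Block

variable {G : Type u} [Group G] [Finite G] {p : ℕ} [hp : Fact p.Prime] {M : Ideal AlgInt}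
  {B : Set (IrrCharacter G)}

/-- Some member of the block has `p`-part of degree at most that of the defect class. -/
theorem exists_degree_le (hM : IsPModular p M) (hB : IsPBlock M B) {g : G}
    (hg : ¬ MemLocalIdeal M (blockCoeff B g)) :
    ∃ ψ ∈ B, (charDegree (ψ : G → ℂ)).factorization p ≤
      ((Subgroup.centralizer ({g} : Set G)).index).factorization p := by
  classical
  cases nonempty_fintype G
  by_contra hall
  push Not at hall
  apply hg
  set C := Subgroup.centralizer ({g} : Set G) with hC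
  set e := C.index.factorization p
  have hreg : ¬ p ∣ orderOf g := fun h => hg (by
    rw [blockCoeff_eq_zero_of_singular hM hB h]; exact memLocalIdeal_zero hM)
  let P : Sylow p C := default
  set D : Subgroup G := (P : Subgroup C).map C.subtype with hDdef
  haveI : Fintype D := Fintype.ofFinite _
  have hDc : Nat.card D = p ^ (Nat.card C).factorization p := by
    rw [hDdef, Subgroup.card_map_of_injective C.subtype_injective]
    exact P.card_eq_multiplicity
  have hgD : ∀ d ∈ D, d * g = g * d := by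
    rintro _ ⟨d, -, rfl⟩
    exact Subgroup.mem_centralizer_singleton_iff.1 d.2
  have hgc : g ∈ Subgroup.centralizer (D : Set G) := Subgroup.mem_centralizer_iff.2 hgD
  have hvan : ∀ d : D, d ≠ 1 → blockCoeff B (g * d) = 0 := by
    intro d hd
    refine blockCoeff_eq_zero_of_singular hM hB ?_
    obtain ⟨i, hi⟩ := (Nat.dvd_prime_pow hp.out).1 (hDc ▸ orderOf_dvd_natCard d)
    have hi' : orderOf (d : G) = p ^ i := by rw [Subgroup.orderOf_coe, hi.2]
    have hi0 : i ≠ 0 := by
      rintro rfl
      exact hd (orderOf_eq_one_iff.1 (by simpa using hi.2))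
    rw [(show Commute g (d : G) from (hgD _ d.2).symm).orderOf_mul_eq_mul_orderOf_of_coprime
      (by rw [hi']; exact ((hp.out.coprime_iff_not_dvd.2 hreg).symm).pow_right i), hi']
    exact (dvd_pow_self p hi0).mul_left _
  have hI : ∀ ψ : IrrCharacter G,
      IsIntegral ℤ ((Nat.card D : ℂ)⁻¹ * ∑ d : D, conj ((ψ : G → ℂ) (g * d))) := by
    intro ψ
    obtain ⟨m, ρ, hρ, he⟩ := ψ.2
    have := (isIntegral_average ρ D hgc).map (starRingEnd ℂ).toIntAlgHom
    simpa [← he, map_mul, map_sum] using this
  choose t ht using fun ψ : IrrCharacter G =>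
    (show ψ ∈ B → p ^ (e + 1) ∣ charDegree (ψ : G → ℂ) from fun h =>
      (Nat.Prime.pow_dvd_iff_le_factorization hp.out (charDegree_pos ψ).ne').2 (hall ψ h))
  set I : ℂ := ∑ ψ : IrrCharacter G, if h : ψ ∈ B then
    (t ψ h : ℂ) * ((Nat.card D : ℂ)⁻¹ * ∑ d : D, conj ((ψ : G → ℂ) (g * d))) else 0 with hIdef
  have hIint : IsIntegral ℤ I := IsIntegral.sum _ fun ψ _ => by
    split_ifs
    · exact (isIntegral_algebraMap (R := ℤ) (x := (t ψ _ : ℤ))).mul (hI ψ) |> fun h => by simpa using h
    · exact isIntegral_zero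
  have hD0 : (Nat.card D : ℂ) ≠ 0 := Nat.cast_ne_zero.2 Nat.card_pos.ne'
  have key : (Nat.card G : ℂ) * blockCoeff B g = ((p ^ (e + 1) : ℕ) : ℂ) * (Nat.card D : ℂ) * I := by
    have h1 : ∑ d : D, blockCoeff B (g * d) = blockCoeff B g := by
      rw [Finset.sum_eq_single (1 : D) (fun d _ hd => hvan d hd) (by simp)]
      simp
    rw [← h1]
    simp only [blockCoeff, finsum_mem_eq_sum_ite]
    rw [← Finset.mul_sum, mul_inv_cancel_left₀ (Nat.cast_ne_zero.2 Nat.card_pos.ne'), Finset.sum_comm,
      hIdef, Finset.mul_sum]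
    refine Finset.sum_congr rfl fun ψ _ => ?_
    by_cases hψ : ψ ∈ B
    · simp only [if_pos hψ, dif_pos hψ]
      rw [← Finset.mul_sum, apply_one_eq_charDegree, ht ψ hψ, Nat.cast_mul]
      field_simp
    · simp [hψ]
  set u₁ := Nat.card C / p ^ (Nat.card C).factorization p
  set u₂ := C.index / p ^ e
  have hu1 : ¬ p ∣ u₁ := Nat.not_dvd_ordCompl hp.out Nat.card_pos.ne'
  have hu2 : ¬ p ∣ u₂ := Nat.not_dvd_ordCompl hp.out Subgroup.index_ne_zero_of_finite
  have hG : Nat.card G = (Nat.card D * p ^ e) * (u₁ * u₂) := by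
    rw [← C.card_mul_index, hDc, ← Nat.ordProj_mul_ordCompl_eq_self (Nat.card C) p,
      ← Nat.ordProj_mul_ordCompl_eq_self C.index p]
    rw [Nat.ordProj_mul_ordCompl_eq_self (Nat.card C) p, Nat.ordProj_mul_ordCompl_eq_self C.index p]
    conv_lhs => rw [← Nat.ordProj_mul_ordCompl_eq_self (Nat.card C) p,
      ← Nat.ordProj_mul_ordCompl_eq_self C.index p]
    ring
  have hp0 : ((p ^ e : ℕ) : ℂ) ≠ 0 := Nat.cast_ne_zero.2 (pow_ne_zero _ hp.out.ne_zero)
  have : blockCoeff B g = ((u₁ * u₂ : ℕ) : ℂ)⁻¹ * I * (p : ℂ) := by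
    have hu : ((u₁ * u₂ : ℕ) : ℂ) ≠ 0 := Nat.cast_ne_zero.2 fun h =>
      (Nat.mul_eq_zero.1 h).elim (fun h => hu1 (h ▸ dvd_zero p)) (fun h => hu2 (h ▸ dvd_zero p))
    rw [hG, pow_succ, Nat.cast_mul, Nat.cast_mul, Nat.cast_mul (p ^ e)] at key
    field_simp
    apply mul_left_cancel₀ hp0
    apply mul_left_cancel₀ hD0
    linear_combination key
  rw [this]
  refine memLocalIdeal_mul hM (memLocalRing_mul hM (memLocalRing_natCast_inv hM ?_)
    (memLocalRing_of_isIntegral hM hIint)) ((memLocalIdeal_natCast_iff hM p).2 dvd_rfl)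
  exact fun h => ((hp.out.dvd_mul).1 h).elim hu1 hu2

/-- A height zero character is a unit modulo `M` at every defect class. -/
theorem not_memLocalIdeal_of_height_zero (hM : IsPModular p M) (hB : IsPBlock M B) {g : G}
    (hg : IsDefectClass M B g) {χ : IrrCharacter G} (hχ : χ ∈ B)
    (h0 : blockHeight p B (χ : G → ℂ) = 0) : ¬ MemLocalIdeal M ((χ : G → ℂ) g) := by
  intro hmem
  apply hg.2.2 χ hχ
  obtain ⟨ψ, hψ, hle⟩ := exists_degree_le hM hB hg.2.1
  set e := ((Subgroup.centralizer ({g} : Set G)).index).factorization p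
  set d := charDegree (χ : G → ℂ)
  have hve : d.factorization p ≤ e := by
    have h1 : d.factorization p ≤
        sInf ((fun ψ : IrrCharacter G => (charDegree (ψ : G → ℂ)).factorization p) '' B) := by
      simp only [d, blockHeight] at h0 ⊢; omega
    exact h1.trans (le_trans (Nat.sInf_le (Set.mem_image_of_mem _ hψ)) hle)
  obtain ⟨a, ha⟩ := (Nat.pow_dvd_pow p hve).trans
    (Nat.ordProj_dvd ((Subgroup.centralizer ({g} : Set G)).index) p)
  have hu : ¬ p ∣ d / p ^ d.factorization p := Nat.not_dvd_ordCompl hp.out (charDegree_pos χ).ne'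
  have hd0 : (d : ℂ) ≠ 0 := Nat.cast_ne_zero.2 (charDegree_pos χ).ne'
  rw [centralChar, apply_one_eq_charDegree, ha]
  have hsplit : (d : ℂ) = ((p ^ d.factorization p : ℕ) : ℂ) * ((d / p ^ d.factorization p : ℕ) : ℂ) := by
    rw [← Nat.cast_mul, Nat.ordProj_mul_ordCompl_eq_self]
  have hval : ((p ^ d.factorization p * a : ℕ) : ℂ) * (χ : G → ℂ) g / (d : ℂ) =
      (((d / p ^ d.factorization p : ℕ) : ℂ)⁻¹ * (a : ℂ)) * (χ : G → ℂ) g := by
    rw [Nat.cast_mul, hsplit]
    have h1 : ((p ^ d.factorization p : ℕ) : ℂ) ≠ 0 := Nat.cast_ne_zero.2 (pow_ne_zero _ hp.out.ne_zero)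
    field_simp
  rw [hval]
  exact memLocalIdeal_mul hM
    (memLocalRing_mul hM (memLocalRing_natCast_inv hM hu) (memLocalRing_natCast hM a)) hmem

end Block

end Cfsg.Agent.H87
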