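import Cfsg.Agent.H87.OctModel
import Cfsg.Agent.H52.SylowSquares

/-! A Sylow 2-subgroup of `G₂(F)` in odd characteristic and the squares of its elements. -/

set_option autoImplicit false

namespace Cfsg.Agent.H87.Oct

open Matrix
open Cfsg.Agent.H52.TwoBlock (one1 spanGL)
open scoped MatrixGroups commutatorElement

variable {F : Type*} [Field F]

/-- A Sylow subgroup meets a normal subgroup in a Sylow subgroup. -/
theorem sylow_subgroupOf {G : Type*} [Group G] [Finite G] (T : Sylow 2 G) (N : Subgroup G) [N.Normal] :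
    ∃ S : Sylow 2 N, (S : Subgroup N) = (T : Subgroup G).subgroupOf N := by
  have hp : IsPGroup 2 ((T : Subgroup G).subgroupOf N) :=
    T.2.comap_of_injective N.subtype N.subtype_injective
  obtain ⟨S, hS⟩ := hp.exists_le_sylow
  refine ⟨S, le_antisymm ?_ hS⟩
  obtain ⟨T', hT'⟩ := (S.2.map N.subtype).exists_le_sylow
  obtain ⟨g, hg⟩ := MulAction.exists_smul_eq G T' T
  let f : G →* G := (MulAut.conj g).toMonoidHom
  have hTf : (T' : Subgroup G).map f = T := by
    rw [← hg, Sylow.coe_subgroup_smul]; rfl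
  have hle : ((S : Subgroup N).map N.subtype).map f ≤ (T : Subgroup G) ⊓ N := by
    rintro _ ⟨a, ha, rfl⟩
    refine ⟨hTf.le ⟨a, hT' ha, rfl⟩, ?_⟩
    obtain ⟨n, -, rfl⟩ := ha
    exact (‹N.Normal›).conj_mem _ n.2 g
  have hc : Nat.card (S : Subgroup N) ≤ Nat.card ((T : Subgroup G).subgroupOf N) := by
    calc Nat.card (S : Subgroup N) = Nat.card (((S : Subgroup N).map N.subtype).map f) := by
          rw [Subgroup.card_map_of_injective (MulAut.conj g).injective,
            Subgroup.card_map_of_injective N.subtype_injective]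
      _ ≤ Nat.card ((T : Subgroup G) ⊓ N : Subgroup G) := Subgroup.card_le_of_le hle
      _ = _ := by
          rw [← Subgroup.inf_subgroupOf_right,
            Nat.card_congr (Subgroup.subgroupOfEquivOfLe (inf_le_right (a := (T : Subgroup G)))).toEquiv]
  exact (Subgroup.eq_of_le_of_card_ge hS hc).ge

variable [Fintype F]

theorem neg_one_mem_base : (-1 : GL (Fin 2) F) ∈ H52.TwoBase.base F :=
  H52.TwoBase.C2_le H52.TwoBase.negOne_mem

/-- The statement for one Sylow subgroup. -/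
theorem exists_sylow (hF : Odd (Fintype.card F)) :
    ∃ S : Sylow 2 (Cfsg.Lie.G2 F), ∀ x ∈ (S : Subgroup (Cfsg.Lie.G2 F)),
      x ^ 2 ∈ ⁅(S : Subgroup (Cfsg.Lie.G2 F)), (S : Subgroup (Cfsg.Lie.G2 F))⁆ := by
  classical
  have h2 : (2 : F) ≠ 0 := H52.TwoBase.two_ne_zero_of_odd hF
  set T := H52.TwoBase.base F with hT
  have hcard : Nat.card T = 2 ^ (Nat.card (GL (Fin 2) F)).factorization 2 := by
    rw [H52.TwoBase.card_base h2, H52.TwoBase.card_C2, H52.TwoBase.factorization_GL_two hF, pow_succ']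
  let TS : Sylow 2 (GL (Fin 2) F × GL (Fin 2) F) := Sylow.ofCard (T.prod T) (by
    rw [Nat.card_congr (Subgroup.prodEquiv T T).toEquiv, Nat.card_prod, hcard, Nat.card_prod,
      Nat.factorization_mul Nat.card_pos.ne' Nat.card_pos.ne', Finsupp.add_apply, pow_add])
  have hTS : (TS : Subgroup (GL (Fin 2) F × GL (Fin 2) F)) = T.prod T := Sylow.coe_ofCard _ _
  haveI : (Delta F).Normal := MonoidHom.normal_ker _
  obtain ⟨TD, hTD⟩ := sylow_subgroupOf TS (Delta F)
  set P := (TD : Subgroup (Delta F)).map phiG with hP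
  have memP : ∀ x, x ∈ P ↔ ∃ p : Delta F, p.1.1 ∈ T ∧ p.1.2 ∈ T ∧ phiG p = x := by
    intro x
    rw [hP, Subgroup.mem_map]
    simp only [hTD, Subgroup.mem_subgroupOf, hTS, Subgroup.mem_prod, and_assoc]
  set z := phiG (zD F) with hz
  have hzP : z ∈ P := (memP z).2 ⟨zD F, one_mem _, neg_one_mem_base, rfl⟩
  have hz1 : z ≠ 1 := by
    rw [hz, Ne, phiG_eq_one]
    rintro ⟨l, h1, h3⟩
    have e1 := congrFun (congrFun h1 0) 0
    have e3 := congrFun (congrFun h3 0) 0
    simp [zD] at e1 e3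
    exact h2 (by linear_combination e1 - e3)
  -- the only central involution of `P`
  have huniq : ∀ x ∈ P, (∀ y ∈ P, x * y = y * x) → x ≠ 1 → x * x = 1 → x = z := by
    intro x hx hcomm hx1 hxx
    obtain ⟨p, ha, hb, rfl⟩ := (memP x).1 hx
    have key : ∀ (i : Bool) (u : GL (Fin 2) F), u ∈ T → GeneralLinearGroup.det u = 1 →
        (bif i then p.1.1 else p.1.2) * u = u * (bif i then p.1.1 else p.1.2) := by
      intro i u hu hdu
      let q : Delta F := ⟨(bif i then (u, 1) else (1, u)), mem_Delta.2 (by cases i <;> simp [hdu])⟩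
      have hq : phiG q ∈ P := (memP _).2 ⟨q, by cases i <;> simp [q, hu, one_mem], by cases i <;> simp [q, hu, one_mem], rfl⟩
      have h1 : phiG ⁅p, q⁆ = 1 := by
        rw [map_commutatorElement]
        exact commutatorElement_eq_one_iff_mul_comm.2 (hcomm _ hq)
      obtain ⟨l, e1, e2⟩ := phiG_eq_one.1 h1
      have hl : l = 1 := by
        cases i
        · have : (1 : Matrix (Fin 2) (Fin 2) F) = l • 1 := by simpa [q, commutatorElement_def] using e1
          simpa using (congrFun (congrFun this 0) 0).symm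
        · have : (1 : Matrix (Fin 2) (Fin 2) F) = l • 1 := by simpa [q, commutatorElement_def] using e2
          simpa using (congrFun (congrFun this 0) 0).symm
      rw [hl, one_smul, ← Units.val_one, Units.val_inj] at e1 e2
      cases i
      · exact commutatorElement_eq_one_iff_mul_comm.1 (by simpa [q, commutatorElement_def] using e2)
      · exact commutatorElement_eq_one_iff_mul_comm.1 (by simpa [q, commutatorElement_def] using e1)
    have hscal : ∀ g : GL (Fin 2) F, (∀ u ∈ T, GeneralLinearGroup.det u = 1 → g * u = u * g) →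
        ∃ l : F, (g : Matrix (Fin 2) (Fin 2) F) = l • 1 := by
      intro g hg
      refine eq_scalar_of_comm fun M => ?_
      have hM : M ∈ spanGL (one1 T) := by rw [H52.TwoBase.span_base h2]; trivial
      induction hM using Submodule.span_induction with
      | mem y hy =>
        obtain ⟨u, hu, rfl⟩ := hy
        exact congrArg Units.val (hg u hu.1 hu.2)
      | zero => simp
      | add y w _ _ hy hw => rw [Matrix.mul_add, Matrix.add_mul, hy, hw]
      | smul c y _ hy => rw [mul_smul_comm, smul_mul_assoc, hy]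
    obtain ⟨l, hl⟩ := hscal p.1.1 (key true)
    obtain ⟨m, hm⟩ := hscal p.1.2 (key false)
    have hlm : l * l = m * m := by
      have := congrArg Units.val (mem_Delta.1 p.2)
      rw [GeneralLinearGroup.val_det_apply, GeneralLinearGroup.val_det_apply, hl, hm] at this
      simpa [Matrix.det_smul, pow_two] using this
    rcases mul_self_eq_mul_self_iff.1 hlm with rfl | rfl
    · exact absurd (phiG_eq_one.2 ⟨_, hl, hm⟩) hx1
    · rw [← mul_inv_eq_one, hz, ← map_inv, ← map_mul, phiG_eq_one]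
      refine ⟨-m, ?_, ?_⟩
      · simp [zD, hl]
      · simp [zD, hm]
  have hzc : ∀ y ∈ P, y * z = z * y := by
    intro y hy
    obtain ⟨p, -, -, rfl⟩ := (memP y).1 hy
    rw [hz, ← map_mul, ← map_mul]
    congr 1
    refine Subtype.ext (Prod.ext ?_ ?_)
    · simp [zD]
    · simp [zD]
  have hzz : z * z = 1 := by
    rw [hz, ← map_mul, phiG_eq_one]
    exact ⟨1, by simp [zD], by simp [zD]⟩
  -- `P` is a Sylow subgroup
  have hPp : IsPGroup 2 P := TD.2.map phiG
  obtain ⟨S, hS⟩ := hPp.exists_le_sylow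
  let PR := TD.mapSurjective (phiG (F := F)).rangeRestrict_surjective
  have hPR : (PR : Subgroup (phiG (F := F)).range).map (phiG (F := F)).range.subtype = P := by
    rw [Sylow.coe_mapSurjective, Subgroup.map_map, hP]
    rfl
  have hmax : (S : Subgroup (Cfsg.Lie.G2 F)) ⊓ (phiG (F := F)).range ≤ P := by
    have h1 : (PR : Subgroup (phiG (F := F)).range) ≤ (S : Subgroup (Cfsg.Lie.G2 F)).subgroupOf (phiG (F := F)).range := by
      intro x hx
      exact hS (hPR ▸ ⟨x, hx, rfl⟩)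
    have h3 := PR.3 (S.2.comap_of_injective _ (Subgroup.subtype_injective _)) h1
    intro x hx
    have hmem : (⟨x, hx.2⟩ : (phiG (F := F)).range) ∈ (S : Subgroup (Cfsg.Lie.G2 F)).subgroupOf (phiG (F := F)).range := hx.1
    exact hPR ▸ ⟨_, h3.le hmem, rfl⟩
  have heq : (S : Subgroup (Cfsg.Lie.G2 F)) = P := by
    by_contra hne
    haveI : Group.IsNilpotent (S : Subgroup (Cfsg.Lie.G2 F)) := S.2.isNilpotent
    have hlt : P.subgroupOf S < ⊤ := lt_top_iff_ne_top.2 fun e => hne (le_antisymm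
      (fun x hx => (Subgroup.eq_top_iff' _).1 e ⟨x, hx⟩) hS)
    obtain ⟨g, hgN, hgP⟩ := SetLike.exists_of_lt (normalizerCondition_of_isNilpotent _ hlt)
    have hconj : ∀ y, y ∈ P → (g : Cfsg.Lie.G2 F) * y * (g : Cfsg.Lie.G2 F)⁻¹ ∈ P := fun y hy =>
      (Subgroup.mem_normalizer_iff.1 hgN ⟨y, hS hy⟩).1 hy
    have hconj' : ∀ y, y ∈ P → (g : Cfsg.Lie.G2 F)⁻¹ * y * (g : Cfsg.Lie.G2 F) ∈ P := fun y hy => by
      have := (Subgroup.mem_normalizer_iff.1 (inv_mem hgN) ⟨y, hS hy⟩).1 hy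
      simpa [Subgroup.mem_subgroupOf] using this
    have hgz : (g : Cfsg.Lie.G2 F) * z * (g : Cfsg.Lie.G2 F)⁻¹ = z := by
      refine huniq _ (hconj z hzP) (fun y hy => ?_) (fun e => hz1 (conj_eq_one_iff.1 e)) ?_
      · have h1 := congrArg (fun t => (g : Cfsg.Lie.G2 F) * t * (g : Cfsg.Lie.G2 F)⁻¹) (hzc _ (hconj' y hy))
        simpa [mul_assoc] using h1.symm
      · rw [show (g : Cfsg.Lie.G2 F) * z * (g : Cfsg.Lie.G2 F)⁻¹ * ((g : Cfsg.Lie.G2 F) * z * (g : Cfsg.Lie.G2 F)⁻¹) =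
          (g : Cfsg.Lie.G2 F) * (z * z) * (g : Cfsg.Lie.G2 F)⁻¹ by group, hzz, mul_one, mul_inv_cancel]
    exact hgP (hmax ⟨g.2, mem_range_of_comm h2 (mul_inv_eq_iff_eq_mul.1 hgz)⟩)
  -- squares
  refine ⟨S, fun x hx => ?_⟩
  rw [heq] at hx ⊢
  obtain ⟨p, ha, hb, rfl⟩ := (memP x).1 hx
  set a := p.1.1 with hadef
  set b := p.1.2 with hbdef
  have hu : GeneralLinearGroup.det (a⁻¹ * b) = 1 := by
    rw [map_mul, map_inv, ← mem_Delta.1 p.2, inv_mul_cancel]
  let p₁ : Delta F := ⟨(a, a), mem_Delta.2 rfl⟩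
  let p₂ : Delta F := ⟨(1, a⁻¹ * b), mem_Delta.2 (by rw [map_one]; exact hu.symm)⟩
  have hp : p = p₁ * p₂ := Subtype.ext (Prod.ext (by simp [p₁, p₂, hadef]) (by simp [p₁, p₂, hbdef]))
  have hp₁ : phiG p₁ ∈ P := (memP _).2 ⟨p₁, ha, ha, rfl⟩
  have hp₂ : phiG p₂ ∈ P := (memP _).2 ⟨p₂, one_mem _, mul_mem (inv_mem ha) hb, rfl⟩
  rw [pow_two, hp, map_mul]
  refine H52.SylowSquares.sq_of_mul hp₁ hp₂ ?_ ?_
  · -- the diagonal part
    obtain ⟨t, e, hD', he, l, hl⟩ : ∃ t : GL (Fin 2) F, ∃ e : Delta F, phiG e ∈ ⁅P, P⁆ ∧ (e.1 = (t, t) ∧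
        ∃ l : F, ((a * a * t⁻¹ : GL (Fin 2) F) : Matrix (Fin 2) (Fin 2) F) = l • 1) := by
      rcases ha with hc | hc
      · let q₁ : Delta F := ⟨(a, a), mem_Delta.2 rfl⟩
        let q₂ : Delta F := ⟨(H52.TwoBase.R, H52.TwoBase.R), mem_Delta.2 rfl⟩
        refine ⟨⁅a, (H52.TwoBase.R : GL (Fin 2) F)⁆, ⁅q₁, q₂⁆, ?_, rfl, ?_⟩
        · rw [map_commutatorElement]
          exact Subgroup.commutator_mem_commutator hp₁ ((memP _).2 ⟨q₂, H52.TwoBase.R_mem, H52.TwoBase.R_mem, rfl⟩)
        · obtain ⟨x, y, hxy⟩ := H52.TwoBase.mem_Ct.1 hc.1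
          refine ⟨x ^ 2 + y ^ 2, ?_⟩
          have hswap : a * (H52.TwoBase.R * a * H52.TwoBase.R) = a * a * ⁅a, (H52.TwoBase.R : GL (Fin 2) F)⁆⁻¹ := by
            rw [commutatorElement_inv, commutatorElement_def, H52.TwoBase.R_inv]
            calc a * (H52.TwoBase.R * a * H52.TwoBase.R)
                = a * ((H52.TwoBase.R * a * H52.TwoBase.R) * a) * a⁻¹ := by group
              _ = a * (a * (H52.TwoBase.R * a * H52.TwoBase.R)) * a⁻¹ := by
                  rw [H52.TwoBase.Ct_comm (H52.TwoBase.R_conj_mem hc).1 hc.1]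
              _ = _ := by group
          rw [← hswap, Units.val_mul, H52.TwoBase.R_conj_coe hxy, hxy, H52.TwoBase.M_mul, ← H52.TwoBase.M_scalar,
            H52.TwoBase.M_inj]
          constructor <;> ring
      · refine ⟨1, 1, by rw [map_one]; exact one_mem _, rfl, ?_⟩
        obtain ⟨x, y, hxy⟩ := H52.TwoBase.mem_Ct.1 hc.1
        refine ⟨x ^ 2 + y ^ 2, ?_⟩
        have r : ∀ g : GL (Fin 2) F, H52.TwoBase.R * (H52.TwoBase.R * g) = g := fun g => by
          rw [← mul_assoc, H52.TwoBase.R_sq, one_mul]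
        rw [show a * a * 1⁻¹ = (a * H52.TwoBase.R) * (H52.TwoBase.R * (a * H52.TwoBase.R) * H52.TwoBase.R) by
          simp [mul_assoc, H52.TwoBase.R_sq, r]]
        rw [Units.val_mul, H52.TwoBase.R_conj_coe hxy, hxy, H52.TwoBase.M_mul, ← H52.TwoBase.M_scalar,
          H52.TwoBase.M_inj]
        constructor <;> ring
    have h1 : phiG (p₁ * p₁ * e⁻¹) = 1 := by
      rw [phiG_eq_one]
      refine ⟨l, ?_, ?_⟩ <;>
        simpa [p₁, he, Units.val_mul] using hl
    rw [map_mul, map_inv, mul_inv_eq_one, map_mul] at h1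
    rw [h1]
    exact hD'
  · -- the part of determinant one
    let ι : one1 T →* Delta F :=
      { toFun := fun u => ⟨(1, u), mem_Delta.2 (by rw [map_one]; exact (MonoidHom.mem_ker.1 u.2.2).symm)⟩
        map_one' := rfl
        map_mul' := fun u v => Subtype.ext (Prod.ext (one_mul 1).symm rfl) }
    have hmem : a⁻¹ * b ∈ one1 T := ⟨Subgroup.mul_mem _ (Subgroup.inv_mem _ ha) hb, MonoidHom.mem_ker.2 hu⟩
    have hA : (⊤ : Subgroup (one1 T)).map (phiG.comp ι) ≤ P := by
      rintro _ ⟨u, -, rfl⟩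
      exact (memP _).2 ⟨ι u, one_mem _, u.2.1, rfl⟩
    have hsq : (⟨_, hmem⟩ : one1 T) * ⟨_, hmem⟩ ∈ ⁅(⊤ : Subgroup (one1 T)), (⊤ : Subgroup (one1 T))⁆ := by
      rw [← Subgroup.mem_map_iff_mem (one1 T).subtype_injective, Subgroup.map_commutator, ← MonoidHom.range_eq_map,
        Subgroup.range_subtype]
      exact H52.SylowSquares.sq_base _ hmem
    have h := H52.SylowSquares.sq_map (S := P) (A := (⊤ : Subgroup (one1 T))) (phiG.comp ι) hA
      (a := (⟨a⁻¹ * b, hmem⟩ : one1 T)) hsq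
    have e : ι ⟨a⁻¹ * b, hmem⟩ = p₂ := Subtype.ext rfl
    rw [MonoidHom.comp_apply, e] at h
    exact h

end Cfsg.Agent.H87.Oct
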