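import Mathlib
import Cfsg.Prelude.Def_RootSubgroups
import Cfsg.Agent.Thompson.BaerSuzuki
import Cfsg.Agent.Cores.PCore

/-! Basic facts on sets of root involutions. -/

namespace Cfsg.Agent.H87.Inv

open Subgroup

variable {G : Type*} [Group G] {D : Set G}

/-- `a, b ∈ D` with product of order four. -/
def Four (D : Set G) (a b : G) : Prop := a ∈ D ∧ b ∈ D ∧ orderOf (a * b) = 4

theorem eq_one_of_odd {c : G} (hc : c * c = 1) {n : ℕ} (hn : Odd n) (h : c ^ n = 1) : c = 1 := by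
  obtain ⟨k, rfl⟩ := hn
  rwa [pow_succ, pow_mul, pow_two, hc, one_pow, one_mul] at h

theorem pow_conj (r a : G) (har : a * r * a⁻¹ = r⁻¹) (k : ℕ) : r ^ k * a * (r ^ k)⁻¹ = r ^ (2 * k) * a := by
  have h : a * (r ^ k)⁻¹ * a⁻¹ = r ^ k := by
    rw [← inv_inj, show (a * (r ^ k)⁻¹ * a⁻¹)⁻¹ = a * r ^ k * a⁻¹ by group, ← conj_pow, har, inv_pow]
  calc r ^ k * a * (r ^ k)⁻¹ = r ^ k * (a * (r ^ k)⁻¹ * a⁻¹) * a := by group
    _ = r ^ (2 * k) * a := by rw [h, ← pow_add, two_mul]

section InD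

variable (hD : Cfsg.IsRootInvolutionSet D)
include hD

theorem sq_eq {a : G} (ha : a ∈ D) : a * a = 1 := by
  have := pow_orderOf_eq_one a
  rwa [hD.orderOf_eq a ha, pow_two] at this

theorem inv_eq {a : G} (ha : a ∈ D) : a⁻¹ = a := inv_eq_of_mul_eq_one_left (sq_eq hD ha)

theorem ne_one {a : G} (ha : a ∈ D) : a ≠ 1 := by
  intro e
  have := hD.orderOf_eq a ha
  simp [e] at this

theorem mul_inv_eq {a b : G} (ha : a ∈ D) (hb : b ∈ D) : (a * b)⁻¹ = b * a := by
  rw [mul_inv_rev, inv_eq hD ha, inv_eq hD hb]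

theorem self_mul_cancel {a : G} (ha : a ∈ D) (x : G) : a * (a * x) = x := by
  rw [← mul_assoc, sq_eq hD ha, one_mul]

theorem odd_not_commute {a b : G} (h : Cfsg.OddAdj D a b) : ¬ Commute a b := by
  intro hc
  have h1 : (a * b) * (a * b) = 1 := by
    rw [← pow_two, hc.mul_pow, pow_two, pow_two, sq_eq hD h.1, sq_eq hD h.2.1, one_mul]
  have := eq_one_of_odd h1 h.2.2.2 (pow_orderOf_eq_one _)
  exact h.2.2.1 ((eq_inv_of_mul_eq_one_left this).trans (inv_eq hD h.2.1))

theorem odd_symm {a b : G} (h : Cfsg.OddAdj D a b) : Cfsg.OddAdj D b a :=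
  ⟨h.2.1, h.1, h.2.2.1.symm, by rw [← mul_inv_eq hD h.1 h.2.1, orderOf_inv]; exact h.2.2.2⟩

theorem odd_conj {a b : G} (h : Cfsg.OddAdj D a b) (g : G) :
    Cfsg.OddAdj D (g * a * g⁻¹) (g * b * g⁻¹) := by
  refine ⟨hD.conj_mem a h.1 g, hD.conj_mem b h.2.1 g, fun e => h.2.2.1 (by simpa using e), ?_⟩
  rw [show g * a * g⁻¹ * (g * b * g⁻¹) = MulAut.conj g (a * b) by simp [mul_assoc],
    MulEquiv.orderOf_eq]
  exact h.2.2.2

theorem four_not_commute {a b : G} (h : Four D a b) : ¬ Commute a b := by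
  intro hc
  have h1 : (a * b) ^ 2 = 1 := by
    rw [hc.mul_pow, pow_two, pow_two, sq_eq hD h.1, sq_eq hD h.2.1, one_mul]
  have := orderOf_dvd_of_pow_eq_one h1
  rw [h.2.2] at this
  norm_num at this

theorem four_symm {a b : G} (h : Four D a b) : Four D b a :=
  ⟨h.2.1, h.1, by rw [← mul_inv_eq hD h.1 h.2.1, orderOf_inv]; exact h.2.2⟩

theorem four_not_odd {a b : G} (h : Four D a b) : ¬ Cfsg.OddAdj D a b := fun h' => by
  have := h'.2.2.2
  rw [h.2.2] at this
  exact absurd this (by decide)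

theorem cases' {a b : G} (ha : a ∈ D) (hb : b ∈ D) : Commute a b ∨ Cfsg.OddAdj D a b ∨ Four D a b := by
  rcases eq_or_ne a b with rfl | hne
  · exact Or.inl (Commute.refl a)
  rcases hD.pair a ha b hb with h | h | h
  · exact Or.inl h
  · exact Or.inr (Or.inl ⟨ha, hb, hne, h⟩)
  · exact Or.inr (Or.inr ⟨ha, hb, h.1⟩)

theorem four_of_not {a b : G} (ha : a ∈ D) (hb : b ∈ D) (h1 : ¬ Commute a b) (h2 : ¬ Cfsg.OddAdj D a b) :
    Four D a b :=
  ((cases' hD ha hb).resolve_left h1).resolve_left h2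

/-- The data of a product of order four. -/
theorem four_data {a b : G} (h : Four D a b) :
    (a * b) ^ 2 ∈ D ∧ Commute ((a * b) ^ 2) a ∧ Commute ((a * b) ^ 2) b ∧ b * a * b = a * (a * b) ^ 2 ∧
      a * (a * b) ^ 2 ∈ D ∧ (b * a) ^ 2 = (a * b) ^ 2 := by
  obtain ⟨ha, hb, h4⟩ := h
  have hc : (a * b) ^ 2 ∈ D := by
    rcases hD.pair a ha b hb with h' | h' | h'
    · exact absurd h' (four_not_commute hD ⟨ha, hb, h4⟩)
    · rw [h4] at h'; exact absurd h' (by decide)
    · exact h'.2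
  have hinv : (b * a) ^ 2 = (a * b) ^ 2 := by
    rw [← mul_inv_eq hD ha hb, inv_pow, inv_eq hD hc]
  have hbab : b * a * b = a * (a * b) ^ 2 := by
    rw [pow_two, show a * (a * b * (a * b)) = a * a * (b * (a * b)) by simp [mul_assoc], sq_eq hD ha,
      one_mul, mul_assoc]
  refine ⟨hc, ?_, ?_, hbab, hbab ▸ (inv_eq hD hb).symm ▸ ?_, hinv⟩
  · show (a * b) ^ 2 * a = a * (a * b) ^ 2
    conv_rhs => rw [← hinv]
    simp [pow_two, mul_assoc]
  · show (a * b) ^ 2 * b = b * (a * b) ^ 2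
    conv_lhs => rw [← hinv]
    simp [pow_two, mul_assoc]
  · simpa [inv_eq hD hb] using hD.conj_mem a ha b

/-- An involution centralizing an odd pair `d, y` has `y c ∉ D`. -/
theorem center_false {c d y : G} (hc : c * c = 1) (hc1 : c ≠ 1) (hcd : Commute c d) (hcy : Commute c y)
    (hdy : Cfsg.OddAdj D d y) (hyc : y * c ∈ D) : False := by
  have hcp : Commute (d * y) c := (hcd.mul_right hcy).symm
  rcases cases' hD hdy.1 hyc with h | h | h
  · refine odd_not_commute hD hdy ?_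
    have h2 := h.mul_right hcd.symm
    rwa [mul_assoc, hc, mul_one] at h2
  · obtain ⟨-, -, -, hodd⟩ := h
    rw [← mul_assoc] at hodd
    apply hc1
    have hn : Odd (orderOf (d * y * c) * orderOf (d * y)) := hodd.mul hdy.2.2.2
    refine eq_one_of_odd hc hn ?_
    have h1 : (d * y * c) ^ (orderOf (d * y * c) * orderOf (d * y)) = 1 := by
      rw [pow_mul, pow_orderOf_eq_one, one_pow]
    rwa [hcp.mul_pow, mul_comm, pow_mul (d * y), pow_orderOf_eq_one, one_pow, one_mul, mul_comm] at h1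
  · have h4 := pow_orderOf_eq_one (d * (y * c))
    rw [h.2.2, ← mul_assoc, hcp.mul_pow, show c ^ 4 = (c * c) * (c * c) by simp [pow_succ, mul_assoc],
      hc, one_mul, mul_one] at h4
    have h2 := orderOf_dvd_of_pow_eq_one h4
    have h3 : orderOf (d * y) = 1 := by
      have hodd := hdy.2.2.2
      have hle := Nat.le_of_dvd (by norm_num) h2
      interval_cases hn : orderOf (d * y) <;> simp_all (config := { decide := true })
    rw [orderOf_eq_one_iff] at h3
    exact hdy.2.2.1 ((eq_inv_of_mul_eq_one_left h3).trans (inv_eq hD hdy.2.1))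

/-- An odd partner of `d` is an odd partner of `e` or `d e` when these three are members. -/
theorem third {d e x : G} (hde : Commute d e) (he : e ∈ D) (hmem : d * e ∈ D)
    (hx : Cfsg.OddAdj D x d) : Cfsg.OddAdj D x e ∨ Cfsg.OddAdj D x (d * e) := by
  by_contra hcon
  push Not at hcon
  obtain ⟨hd, hx'⟩ : d ∈ D ∧ x ∈ D := ⟨hx.2.1, hx.1⟩
  have key : ∀ u ∈ D, ¬ Cfsg.OddAdj D x u → Commute (u * x * u) x := by
    intro u hu h
    rcases cases' hD hx' hu with h' | h' | h'
    · rw [← h'.eq, mul_assoc, sq_eq hD hu, mul_one]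
    · exact absurd h' h
    · obtain ⟨-, h2, -, h3, -, -⟩ := four_data hD h'
      rw [h3]
      exact (Commute.refl x).mul_left h2
  have h1 := key e he hcon.1
  have h2 := key (d * e) hmem hcon.2
  have h3 : d * e * x * (d * e) = d * (e * x * e) * d := by
    conv_lhs => arg 2; rw [hde.eq]
    group
  rw [h3] at h2
  set x' := e * x * e with hx'def
  have h4 : Commute x' (d * x * d) := by
    have := congrArg (fun t => d * t * d) h2.eq
    simp only [mul_assoc] at this
    rw [self_mul_cancel hD hd] at this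
    show x' * (d * x * d) = d * x * d * x'
    calc x' * (d * x * d) = x' * (d * (x * d)) := by group
      _ = d * (x * (d * (x' * (d * d)))) := this
      _ = _ := by rw [sq_eq hD hd]; group
  have h5 : Commute x' ((x * d) * (x * d)) := by
    have := h1.mul_right h4
    rwa [show x * (d * x * d) = x * d * (x * d) by group] at this
  have h6 : Commute x' (x * d) := by
    obtain ⟨k, hk⟩ := hx.2.2.2
    have h7 : ((x * d) * (x * d)) ^ (k + 1) = x * d := by
      rw [← pow_two, ← pow_mul, show 2 * (k + 1) = orderOf (x * d) + 1 by omega, pow_succ,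
        pow_orderOf_eq_one, one_mul]
    rw [← h7]; exact h5.pow_right _
  have h8 : Commute x' d := by
    have := h1.mul_right h6
    rwa [self_mul_cancel hD hx'] at this
  apply odd_not_commute hD hx
  have h9 := congrArg (fun t => e * t * e) h8.eq
  have hde' : e * d * e = d := by rw [← hde.eq, mul_assoc, sq_eq hD he, mul_one]
  have hxx : e * x' * e = x := by
    rw [hx'def, ← mul_assoc, ← mul_assoc, sq_eq hD he, one_mul, mul_assoc, sq_eq hD he, mul_one]
  show x * d = d * x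
  calc x * d = (e * x' * e) * (e * d * e) := by rw [hxx, hde']
    _ = e * (x' * d) * e := by
      rw [show e * x' * e * (e * d * e) = e * x' * (e * e) * d * e by group, sq_eq hD he]; group
    _ = e * (d * x') * e := h9
    _ = (e * d * e) * (e * x' * e) := by
      rw [show e * d * e * (e * x' * e) = e * d * (e * e) * x' * e by group, sq_eq hD he]; group
    _ = d * x := by rw [hxx, hde']

theorem odd_conj_exists {a b : G} (h : Cfsg.OddAdj D a b) : ∃ g : G, b = g * a * g⁻¹ := by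
  obtain ⟨k, hk⟩ := h.2.2.2
  refine ⟨(a * b) ^ k, ?_⟩
  rw [pow_conj (a * b) a ?_ k]
  · have h1 : (a * b) ^ (2 * k) = (a * b)⁻¹ := by
      apply eq_inv_of_mul_eq_one_left
      rw [← pow_succ, ← hk, pow_orderOf_eq_one]
    rw [h1, mul_inv_eq hD h.1 h.2.1, mul_assoc, sq_eq hD h.1, mul_one]
  · rw [inv_eq hD h.1, mul_inv_eq hD h.1 h.2.1, self_mul_cancel hD h.1]

theorem reach_conj {a b : G} (h : Relation.ReflTransGen (Cfsg.OddAdj D) a b) : ∃ g : G, b = g * a * g⁻¹ := by
  induction h with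
  | refl => exact ⟨1, by simp⟩
  | tail _ hbc ih =>
    obtain ⟨g, rfl⟩ := ih
    obtain ⟨g', e⟩ := odd_conj_exists hD hbc
    exact ⟨g' * g, by rw [e]; group⟩

theorem reach_symm {a b : G} (h : Relation.ReflTransGen (Cfsg.OddAdj D) a b) :
    Relation.ReflTransGen (Cfsg.OddAdj D) b a := by
  induction h with
  | refl => exact Relation.ReflTransGen.refl
  | tail _ hbc ih => exact (Relation.ReflTransGen.single (odd_symm hD hbc)).trans ih

/-- Two involutions with product of `2`-power order generate a `2`-group. -/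
theorem isPGroup_pair {a b : G} (ha : a ∈ D) (hb : b ∈ D) (h : ¬ Cfsg.OddAdj D a b) :
    IsPGroup 2 (closure ({a, b} : Set G)) := by
  have hpow : ∃ k : ℕ, (a * b) ^ (2 ^ k) = 1 := by
    rcases cases' hD ha hb with h' | h' | h'
    · exact ⟨1, by rw [pow_one, h'.mul_pow, pow_two, pow_two, sq_eq hD ha, sq_eq hD hb, one_mul]⟩
    · exact absurd h' h
    · exact ⟨2, by rw [show (2 : ℕ) ^ 2 = orderOf (a * b) from h'.2.2.symm, pow_orderOf_eq_one]⟩
  obtain ⟨k, hk⟩ := hpow
  have hR : IsPGroup 2 (zpowers (a * b)) := by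
    rintro ⟨x, hx⟩
    obtain ⟨m, rfl⟩ := hx
    refine ⟨k, Subtype.ext ?_⟩
    show ((a * b) ^ m) ^ (2 ^ k) = 1
    rw [← zpow_natCast, ← zpow_mul, mul_comm, zpow_mul, zpow_natCast, hk, one_zpow]
  have hA : IsPGroup 2 (zpowers a) := by
    rintro ⟨x, hx⟩
    obtain ⟨m, rfl⟩ := hx
    refine ⟨1, Subtype.ext ?_⟩
    show (a ^ m) ^ (2 ^ 1) = 1
    rw [pow_one, ← zpow_natCast, ← zpow_mul, mul_comm, zpow_mul, zpow_natCast, pow_two, sq_eq hD ha, one_zpow]
  have hsub : zpowers a ≤ normalizer ((zpowers (a * b) : Subgroup G) : Set G) := by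
    rw [zpowers_le]
    have key : ∀ n ∈ zpowers (a * b), a * n * a⁻¹ ∈ zpowers (a * b) := by
      rintro n ⟨m, rfl⟩
      refine ⟨-m, ?_⟩
      show (a * b) ^ (-m) = a * (a * b) ^ m * a⁻¹
      rw [← conj_zpow, inv_eq hD ha, self_mul_cancel hD ha, zpow_neg, ← inv_zpow, mul_inv_eq hD ha hb]
    rw [mem_normalizer_iff]
    refine fun n => ⟨key n, fun hn => ?_⟩
    have := key _ hn
    rw [inv_eq hD ha] at this
    simpa [mul_assoc, self_mul_cancel hD ha, sq_eq hD ha] using this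
  refine (IsPGroup.to_sup_of_normal_right' hA hR hsub).to_le ((closure_le _).2 ?_)
  rintro x (rfl | rfl)
  · exact mem_sup_left (mem_zpowers x)
  · have h2 : a * (a * x) ∈ zpowers a ⊔ zpowers (a * x) :=
      mul_mem (mem_sup_left (mem_zpowers a)) (mem_sup_right (mem_zpowers (a * x)))
    rwa [self_mul_cancel hD ha x] at h2

variable [Finite G]

/-- A member of `D` with no odd product with its conjugates lies in `O₂(G)`. -/
theorem mem_pCore_of_no_odd {a : G} (ha : a ∈ D) (h : ∀ g : G, ¬ Cfsg.OddAdj D a (g * a * g⁻¹)) :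
    a ∈ Cfsg.pCore 2 G := by
  haveI : Fact (Nat.Prime 2) := ⟨Nat.prime_two⟩
  obtain ⟨N, hN, hNp, haN⟩ := Thompson.baer_suzuki (p := 2) fun g => isPGroup_pair hD ha (hD.conj_mem a ha g) (h g)
  haveI := hN
  exact Cores.le_pCore hNp haN

theorem not_odd_of_mem_pCore {a b : G} (ha : a ∈ Cfsg.pCore 2 G) : ¬ Cfsg.OddAdj D a b := by
  intro h
  haveI : Fact (Nat.Prime 2) := ⟨Nat.prime_two⟩
  obtain ⟨g, hg⟩ := odd_conj_exists hD h
  have hb : b ∈ Cfsg.pCore 2 G := hg ▸ (Cfsg.pCore_normal 2 G).conj_mem a ha g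
  obtain ⟨k, hk⟩ := Cores.pCore_isPGroup (G := G) (p := 2) ⟨a * b, mul_mem ha hb⟩
  have hk' : (a * b) ^ (2 ^ k) = 1 := congrArg Subtype.val hk
  obtain ⟨j, -, hj⟩ := (Nat.dvd_prime_pow Nat.prime_two).1 (orderOf_dvd_of_pow_eq_one hk')
  have hodd := h.2.2.2
  rw [hj] at hodd
  rcases Nat.eq_zero_or_pos j with rfl | hjp
  · rw [pow_zero, orderOf_eq_one_iff] at hj
    exact h.2.2.1 ((eq_inv_of_mul_eq_one_left hj).trans (inv_eq hD h.2.1))
  · exact absurd hodd (by simp [Nat.odd_pow_iff hjp.ne', show ¬ Odd 2 by decide])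

end InD

end Cfsg.Agent.H87.Inv
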