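import Mathlib
import Cfsg.Agent.H87.Inv

/-! Members with the same odd partners; squares of products of order four. -/

namespace Cfsg.Agent.H87.Inv

open Subgroup
open scoped commutatorElement

variable {G : Type*} [Group G] {D : Set G}

/-- The odd partners of `a`. -/
def OddSet (D : Set G) (a : G) : Set G := {y | Cfsg.OddAdj D a y}

variable (hD : Cfsg.IsRootInvolutionSet D)
include hD

theorem oddSet_conj (g a : G) : OddSet D (g * a * g⁻¹) = (fun y => g * y * g⁻¹) '' OddSet D a := by
  ext y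
  constructor
  · intro h
    refine ⟨g⁻¹ * y * g, ?_, by group⟩
    have := odd_conj hD h g⁻¹
    simpa [OddSet, mul_assoc] using this
  · rintro ⟨z, hz, rfl⟩
    exact odd_conj hD hz g

theorem oddSet_conj_eq {a b : G} (g : G) (h : OddSet D a = OddSet D b) :
    OddSet D (g * a * g⁻¹) = OddSet D (g * b * g⁻¹) := by
  rw [oddSet_conj hD, oddSet_conj hD, h]

theorem fix_conj {y d : G} (hy : y ∈ D) (h : Commute y d) : y * d * y = d := by
  rw [h.eq, mul_assoc, sq_eq hD hy, mul_one]

variable [Finite G] (hc : Cfsg.IsConnectedSet (Cfsg.OddAdj D) D)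
include hc

theorem oddSet_eq_of_subset {a b : G} (ha : a ∈ D) (hb : b ∈ D) (h : OddSet D a ⊆ OddSet D b) :
    OddSet D a = OddSet D b := by
  obtain ⟨g, rfl⟩ := reach_conj hD (hc a ha b hb)
  refine Set.eq_of_subset_of_ncard_le h ?_ (Set.toFinite _)
  rw [oddSet_conj hD, Set.ncard_image_of_injective _ (fun u v h => by simpa using h)]

/-- If `c` commutes with `e`, `c e ∈ D` and `e`, `c e` have the same odd partners, so does `c`. -/
theorem oddSet_of_line {c e : G} (hcD : c ∈ D) (he : e ∈ D) (hce : Commute c e) (hm : c * e ∈ D)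
    (h : OddSet D (c * e) = OddSet D e) : OddSet D c = OddSet D e := by
  refine oddSet_eq_of_subset hD hc hcD he fun x hx => ?_
  rcases third hD hce he hm (odd_symm hD hx) with h' | h'
  · exact odd_symm hD h'
  · rw [← h]; exact odd_symm hD h'

/-- Members with the same odd partners commute. -/
theorem commute_of_oddSet_eq {a b : G} (ha : a ∈ D) (hb : b ∈ D) (h : OddSet D a = OddSet D b) :
    Commute a b := by
  haveI : Fact (Nat.Prime 2) := ⟨Nat.prime_two⟩
  set E : Set G := {f | f ∈ D ∧ OddSet D f = OddSet D a} with hE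
  have hnodd : ∀ f ∈ E, ∀ g ∈ E, ¬ Cfsg.OddAdj D f g := by
    intro f hf g hg h'
    have h'' : g ∈ OddSet D g := by rw [hg.2, ← hf.2]; exact h'
    exact h''.2.2.1 rfl
  rcases cases' hD ha hb with h' | h' | h4
  · exact h'
  · exact absurd h' (hnodd a ⟨ha, rfl⟩ b ⟨hb, h.symm⟩)
  exfalso
  obtain ⟨hcD, hca, hcb, hbab, hacD, -⟩ := four_data hD h4
  set c := (a * b) ^ 2 with hcdef
  have hbEa : OddSet D (a * c) = OddSet D a := by
    rw [← hbab]
    have h0 := oddSet_conj_eq hD b h
    rw [inv_eq hD hb] at h0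
    rw [h0, sq_eq hD hb, one_mul, h]
  have hcE : c ∈ E := ⟨hcD, oddSet_of_line hD hc hcD ha hca (hca.eq ▸ hacD) (by rw [hca.eq]; exact hbEa)⟩
  set Q := closure E with hQ
  have hQE : ∀ q ∈ Q, ∀ f ∈ E, q * f * q⁻¹ ∈ E := by
    intro q hq
    induction hq using closure_induction'' with
    | one => simp
    | mem g hg =>
      intro f hf
      refine ⟨hD.conj_mem f hf.1 g, ?_⟩
      rw [oddSet_conj_eq hD g (hf.2.trans hg.2.symm), show g * g * g⁻¹ = g by group, hg.2]
    | inv_mem g hg =>
      intro f hf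
      rw [inv_eq hD hg.1]
      refine ⟨hD.conj_mem f hf.1 g, ?_⟩
      rw [oddSet_conj_eq hD g (hf.2.trans hg.2.symm), show g * g * g⁻¹ = g by group, hg.2]
    | mul x y _ _ hx hy =>
      intro f hf
      have := hx _ (hy f hf)
      simpa [mul_assoc] using this
  have hQp : IsPGroup 2 Q := by
    let S : Set Q := Q.subtype ⁻¹' E
    have hS : closure S = ⊤ := closure_closure_coe_preimage
    suffices (⊤ : Subgroup Q) ≤ Cfsg.pCore 2 Q from
      fun x => by
        obtain ⟨k, hk⟩ := Cores.pCore_isPGroup (G := Q) (p := 2) ⟨x, this (mem_top x)⟩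
        exact ⟨k, congrArg Subtype.val hk⟩
    rw [← hS, closure_le]
    intro x hx
    obtain ⟨N, hN, hNp, hxN⟩ := Thompson.baer_suzuki (p := 2) (x := x) fun q => by
      have hq : (q : G) * x * (q : G)⁻¹ ∈ E := hQE q q.2 x hx
      have h1 := isPGroup_pair hD hx.1 hq.1 (hnodd x hx _ hq)
      refine ((h1.comap_subtype (K := Q)).to_le ?_)
      rw [closure_le]
      rintro z (rfl | rfl)
      · exact subset_closure (Set.mem_insert _ _)
      · exact subset_closure (Set.mem_insert_of_mem _ rfl)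
    haveI := hN
    exact Cores.le_pCore hNp hxN
  have haQ : a ∈ Q := subset_closure ⟨ha, rfl⟩
  have hbQ : b ∈ Q := subset_closure ⟨hb, h.symm⟩
  have hle : Q ≤ ⁅Q, Q⁆ := by
    rw [hQ, closure_le]
    intro f hf
    obtain ⟨g, hg⟩ := reach_conj hD (hc c hcD f hf.1)
    have hgE : (fun y => g * y * g⁻¹) '' E = E := by
      have hsub : (fun y => g * y * g⁻¹) '' E ⊆ E := by
        rintro _ ⟨y, hy, rfl⟩
        exact ⟨hD.conj_mem y hy.1 g, by rw [oddSet_conj_eq hD g (hy.2.trans hcE.2.symm), ← hg, hf.2]⟩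
      exact Set.eq_of_subset_of_ncard_le hsub
        (le_of_eq (Set.ncard_image_of_injective _ (fun u v h => by simpa using h)).symm) (Set.toFinite _)
    have hgQ : Q.map (MulAut.conj g).toMonoidHom = Q := by
      rw [hQ, MonoidHom.map_closure]
      congr 1
    have hcQ : c ∈ ⁅Q, Q⁆ := by
      have e : c = ⁅a, b⁆ := by
        rw [hcdef, commutatorElement_def, inv_eq hD ha, inv_eq hD hb, pow_two]; group
      rw [e]; exact commutator_mem_commutator haQ hbQ
    show f ∈ ⁅Q, Q⁆
    rw [← hgQ, ← map_commutator]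
    exact ⟨c, hcQ, hg.symm⟩
  haveI : Group.IsNilpotent Q := hQp.isNilpotent
  obtain ⟨n, hn⟩ := (isNilpotent_iff_lowerCentralSeries Q).1 inferInstance
  have hall : ∀ m, Q ≤ Q.lowerCentralSeries m := by
    intro m
    induction m with
    | zero => exact le_rfl
    | succ m ih => exact hle.trans (commutator_mono ih le_rfl)
  have := hall n haQ
  rw [hn, mem_bot] at this
  exact ne_one hD ha this

omit hc in
/-- The square of `e x` lies on a line with `x` and has product of order four with `a`. -/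
theorem sq_maps {a x e : G} (hax : Cfsg.OddAdj D a x) (hea : Commute a e) (hm : a * e ∈ D) (h : Four D e x) :
    Commute x ((e * x) ^ 2) ∧ x * (e * x) ^ 2 ∈ D ∧ Four D ((e * x) ^ 2) a := by
  obtain ⟨hfD, hfe, hfx, hxex, hef, -⟩ := four_data hD h
  obtain ⟨-, -, -, -, hxf, hsym⟩ := four_data hD (four_symm hD h)
  rw [← hsym] at hxf
  refine ⟨hfx.symm, hxf, four_of_not hD hfD hax.1 (fun hfa => ?_) (fun hodd => ?_)⟩
  · exact center_false hD (sq_eq hD hfD) (ne_one hD hfD) hfa hfx hax hxf
  · have hne : ¬ Cfsg.OddAdj D a e := fun h => odd_not_commute hD h hea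
    rcases third hD hfe h.1 (hfe.eq ▸ hef) (odd_symm hD hodd) with h' | h'
    · exact hne h'
    · refine center_false hD (sq_eq hD h.1) (ne_one hD h.1) hea.symm hfe.symm (odd_symm hD hodd) ?_
      exact hfe.eq ▸ hef

omit hc [Finite G] in
/-- The map `e ↦ (e x)²` on these members is injective. -/
theorem sq_injective {a x e₁ e₂ : G} (hax : Cfsg.OddAdj D a x) (h1a : Commute a e₁) (h1m : a * e₁ ∈ D)
    (h2a : Commute a e₂) (h2m : a * e₂ ∈ D) (h1 : Four D e₁ x) (h2 : Four D e₂ x)
    (e : (e₁ * x) ^ 2 = (e₂ * x) ^ 2) : e₁ = e₂ := by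
  by_contra hne
  have he1 := h1.1
  have he2 := h2.1
  obtain ⟨-, -, -, -, -, hs1⟩ := four_data hD h1
  obtain ⟨-, -, -, -, -, hs2⟩ := four_data hD h2
  obtain ⟨-, -, hf1, hb1, -, -⟩ := four_data hD (four_symm hD h1)
  obtain ⟨-, -, -, hb2, -, -⟩ := four_data hD (four_symm hD h2)
  rw [hs1] at hb1 hf1
  rw [hs2, ← e] at hb2
  set f := (e₁ * x) ^ 2
  have hfD := (four_data hD h1).1
  set z := e₁ * e₂ with hz
  have hzx : Commute z x := by
    show e₁ * e₂ * x = x * (e₁ * e₂)
    have h3 : e₁ * (e₂ * x * e₂) * e₁ = x := by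
      rw [hb2, show e₁ * (x * f) * e₁ = e₁ * x * (f * e₁) by group, hf1.eq,
        show e₁ * x * (e₁ * f) = (e₁ * x * e₁) * f by group, hb1, mul_assoc, sq_eq hD hfD, mul_one]
    calc e₁ * e₂ * x = e₁ * (e₂ * x * e₂) * e₁ * (e₁ * e₂) := by
          rw [show e₁ * (e₂ * x * e₂) * e₁ * (e₁ * e₂) = e₁ * (e₂ * x * e₂) * (e₁ * e₁) * e₂ by group,
            sq_eq hD he1, mul_one, show e₁ * (e₂ * x * e₂) * e₂ = e₁ * e₂ * x * (e₂ * e₂) by group,
            sq_eq hD he2, mul_one]
      _ = _ := by rw [h3]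
  have hza : Commute z a := (h1a.mul_right h2a).symm
  have hz1 : z ≠ 1 := fun h => hne ((eq_inv_of_mul_eq_one_left h).trans (inv_eq hD he2))
  have hae1 : Cfsg.OddAdj D x (a * e₁) :=
    (third hD h1a he1 h1m (odd_symm hD hax)).resolve_left (four_not_odd hD (four_symm hD h1))
  rcases cases' hD he1 he2 with h' | h' | h'
  · have hzz : z * z = 1 := by
      rw [← pow_two, hz, h'.mul_pow, pow_two, pow_two, sq_eq hD he1, sq_eq hD he2, one_mul]
    refine center_false hD hzz hz1 hzx ?_ hae1 ?_
    · exact hza.mul_right ((Commute.refl e₁).mul_left h'.symm)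
    · rw [show a * e₁ * z = a * (e₁ * e₁) * e₂ by rw [hz]; group, sq_eq hD he1, mul_one]
      exact h2m
  · refine center_false hD (sq_eq hD hax.1) (ne_one hD hax.1) h1a h2a h' ?_
    rw [← h2a.eq]; exact h2m
  · obtain ⟨hkD, hk1, -, hb, -, -⟩ := four_data hD h'
    rw [← hz] at hkD hk1 hb
    refine center_false hD (sq_eq hD hkD) (ne_one hD hkD) (hzx.pow_left 2) ((hza.pow_left 2).mul_right hk1) hae1 ?_
    rw [mul_assoc, ← hb]
    have := hD.conj_mem _ h1m e₂
    rw [inv_eq hD he2] at this
    rwa [show e₂ * (a * e₁) * e₂ = a * (e₂ * e₁ * e₂) by rw [← mul_assoc, ← h2a.eq]; group] at this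

/-- On a line `a, b` with different odd partners, `b` is the square of a product of order four with `a`. -/
theorem exists_sq {a b : G} (ha : a ∈ D) (hb : b ∈ D) (hab : Commute a b) (hm : a * b ∈ D)
    (hne : OddSet D a ≠ OddSet D b) : ∃ f, Four D a f ∧ (a * f) ^ 2 = b := by
  obtain ⟨x, hxa, hxb⟩ : ∃ x, x ∈ OddSet D a ∧ x ∉ OddSet D b := by
    by_contra hcon
    push Not at hcon
    exact hne (oddSet_eq_of_subset hD hc ha hb hcon)
  have hbx : Four D b x := by
    refine four_of_not hD hb hxa.2.1 (fun h => ?_) hxb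
    exact center_false hD (sq_eq hD hb) (ne_one hD hb) h hab.symm (odd_symm hD hxa) hm
  let X' : Set G := {e | Commute a e ∧ a * e ∈ D ∧ Four D e x}
  let Φ : Set G := {f | Commute x f ∧ x * f ∈ D ∧ Four D f a}
  have h1 : ∀ e ∈ X', (e * x) ^ 2 ∈ Φ := fun e he => sq_maps hD hxa he.1 he.2.1 he.2.2
  have h2 : ∀ f ∈ Φ, (f * a) ^ 2 ∈ X' := fun f hf => sq_maps hD (odd_symm hD hxa) hf.1 hf.2.1 hf.2.2
  let ψ : X' → X' := fun e => ⟨((((e : G) * x) ^ 2) * a) ^ 2, h2 _ (h1 _ e.2)⟩
  have hinj : Function.Injective ψ := by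
    intro e e' h
    apply Subtype.ext
    have hf := h1 _ e.2
    have hf' := h1 _ e'.2
    exact sq_injective hD hxa e.2.1 e.2.2.1 e'.2.1 e'.2.2.1 e.2.2.2 e'.2.2.2
      (sq_injective hD (odd_symm hD hxa) hf.1 hf.2.1 hf'.1 hf'.2.1 hf.2.2 hf'.2.2 (congrArg Subtype.val h))
  obtain ⟨e, he⟩ := (Finite.injective_iff_surjective.1 hinj) ⟨b, hab, hm, hbx⟩
  refine ⟨((e : G) * x) ^ 2, four_symm hD (h1 _ e.2).2.2, ?_⟩
  rw [(four_data hD (h1 _ e.2).2.2).2.2.2.2.2]
  exact congrArg Subtype.val he

/-- No `y` commuting with `d` has product of order four with an `e` having the same odd partners as `d`. -/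
theorem commute_of_oddSet_eq' {d e y : G} (hd : d ∈ D) (he : e ∈ D) (hA : OddSet D d = OddSet D e)
    (hy : y ∈ D) (hyd : Commute y d) : Commute y e := by
  by_contra hye
  have hno : ¬ Cfsg.OddAdj D y e := fun h => by
    have h' : y ∈ OddSet D d := by rw [hA]; exact odd_symm hD h
    exact odd_not_commute hD h' hyd.symm
  have h4 := four_of_not hD hy he hye hno
  obtain ⟨hcD, hce, hcy, hbab, hm, -⟩ := four_data hD (four_symm hD h4)
  set c := (e * y) ^ 2 with hcdef
  have hec : OddSet D (c * e) = OddSet D e := by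
    rw [hce.eq, ← hbab]
    have h0 := oddSet_conj_eq hD y hA
    rw [inv_eq hD hy, fix_conj hD hy hyd] at h0
    rw [← h0, hA]
  have hAc : OddSet D c = OddSet D e := oddSet_of_line hD hc hcD he hce (hce.eq ▸ hm) hec
  have hAy : OddSet D y ≠ OddSet D e := fun h => hye (commute_of_oddSet_eq hD hc hy he h)
  have hcym : c * y ∈ D := by
    obtain ⟨-, -, -, -, hm', hs⟩ := four_data hD h4
    rw [← hs] at hm'
    rw [hcy.eq]
    exact hm'
  obtain ⟨f, hf4, hfy⟩ := exists_sq hD hc hcD hy hcy hcym (fun h => hAy (h.symm.trans hAc))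
  obtain ⟨-, -, hyf, hfcf, -, -⟩ := four_data hD hf4
  rw [hfy] at hyf hfcf
  have hcf : c * f * c = y * f := by
    have h1 : y * f = (c * f) * c * (f * f) := by rw [← hfy, pow_two]; group
    rw [h1, sq_eq hD hf4.2.1, mul_one]
  rcases cases' hD he hf4.2.1 with h | h | h
  · -- `f` fixes `e`
    apply hAy
    have h1 : OddSet D (c * y) = OddSet D e := by
      rw [← hfcf]
      have h0 := oddSet_conj_eq hD f hAc
      rw [inv_eq hD hf4.2.1, fix_conj hD hf4.2.1 h.symm] at h0
      exact h0
    refine oddSet_eq_of_subset hD hc hy he fun x hx => ?_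
    rcases third hD hcy.symm hcD (hcy.eq ▸ hcym) (odd_symm hD hx) with h' | h'
    · rw [← hAc]; exact odd_symm hD h'
    · rw [← h1, hcy.eq]; exact odd_symm hD h'
  · have : f ∈ OddSet D c := by rw [hAc]; exact h
    exact four_not_odd hD hf4 this
  · obtain ⟨hhD, hhe, hhf, -, -, hsh⟩ := four_data hD h
    set k := (e * f) ^ 2 with hkdef
    have hefe : e * f * e = k * f := by
      rw [hkdef, pow_two, show e * f * (e * f) * f = e * f * e * (f * f) by group, sq_eq hD hf4.2.1, mul_one]
    have hye' : y * e = e * c * y := by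
      rw [← hbab, mul_assoc, sq_eq hD hy, mul_one]
    have hX1 : (c * e * f) * (c * e * f) = c * k * c * y := by
      calc (c * e * f) * (c * e * f) = c * (e * f * (c * e)) * f := by group
        _ = c * (e * f * (e * c)) * f := by rw [hce.eq]
        _ = c * (e * f * e) * c * f := by group
        _ = c * (k * f) * c * f := by rw [hefe]
        _ = c * k * (f * c * f) := by group
        _ = c * k * c * y := by rw [hfcf]; group
    have hX2 : (c * e * f) * (c * e * f) = k * c := by
      calc (c * e * f) * (c * e * f) = (e * c * f) * (c * e * f) := by rw [hce.eq]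
        _ = e * (c * f * c) * e * f := by group
        _ = e * (f * y) * e * f := by rw [hcf, hyf.eq]
        _ = e * f * (y * e) * f := by group
        _ = e * f * (e * c * y) * f := by rw [hye']
        _ = (e * f * e) * c * (y * f) := by group
        _ = k * f * c * (f * y) := by rw [hefe, hyf.eq]
        _ = k * (f * c * f) * y := by group
        _ = k * c := by rw [hfcf, ← mul_assoc, mul_assoc _ y y, sq_eq hD hy, mul_one]
    have hkc : k * c * k = y := by
      have h3 := hX1.symm.trans hX2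
      have h5 : c * k * c = k * c * y := by
        calc c * k * c = c * k * c * y * y := by rw [mul_assoc _ y y, sq_eq hD hy, mul_one]
          _ = k * c * y := by rw [h3]
      calc k * c * k = k * c * k * (c * c) := by rw [sq_eq hD hcD, mul_one]
        _ = k * (c * k * c) * c := by group
        _ = k * k * c * (y * c) := by rw [h5]; group
        _ = y := by rw [sq_eq hD hhD, one_mul, ← hcy.eq, ← mul_assoc, sq_eq hD hcD, one_mul]
    apply hAy
    rw [← hkc]
    have h0 := oddSet_conj_eq hD k hAc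
    rw [inv_eq hD hhD, fix_conj hD hhD hhe] at h0
    exact h0

omit [Finite G] hc in
theorem commute_mem_union {d y : G} (hd : d ∈ D) :
    y ∈ Cfsg.commutingMembers D d ∪ Cfsg.fourPartners D d ↔ y ∈ D ∧ y ∉ OddSet D d := by
  constructor
  · rintro (⟨hy, h⟩ | ⟨hy, h⟩)
    · exact ⟨hy, fun h' => odd_not_commute hD h' (Commute.symm h)⟩
    · exact ⟨hy, four_not_odd hD ⟨hd, hy, h⟩⟩
  · rintro ⟨hy, h⟩
    rcases cases' hD hd hy with h' | h' | h'
    · exact Or.inl ⟨hy, h'.eq.symm⟩
    · exact absurd h' h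
    · exact Or.inr ⟨hy, h'.2.2⟩

/-- The same commuting members is the same odd partners. -/
theorem commutingMembers_eq_iff {d e : G} (hd : d ∈ D) (he : e ∈ D) :
    Cfsg.commutingMembers D d = Cfsg.commutingMembers D e ↔ OddSet D d = OddSet D e := by
  constructor
  · intro h
    have hed : Commute e d := (show e ∈ Cfsg.commutingMembers D d by rw [h]; exact ⟨he, rfl⟩).2
    have hsub : ∀ u ∈ D, ∀ v ∈ D, Cfsg.commutingMembers D u = Cfsg.commutingMembers D v → Commute v u →
        OddSet D u ⊆ OddSet D v := by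
      intro u hu v hv h hvu x hx
      rcases cases' hD hv hx.2.1 with h' | h' | h'
      · exact absurd (show x ∈ Cfsg.commutingMembers D u by rw [h]; exact ⟨hx.2.1, h'.eq.symm⟩).2.symm
          (odd_not_commute hD hx)
      · exact h'
      · exfalso
        obtain ⟨hcD, hcv, hcx, -, -, hs⟩ := four_data hD h'
        obtain ⟨-, -, -, -, hm', -⟩ := four_data hD (four_symm hD h')
        rw [hs] at hm'
        have hcu : Commute ((v * x) ^ 2) u :=
          (show (v * x) ^ 2 ∈ Cfsg.commutingMembers D u by rw [h]; exact ⟨hcD, hcv.eq⟩).2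
        exact center_false hD (sq_eq hD hcD) (ne_one hD hcD) hcu hcx hx hm'
    exact Set.Subset.antisymm (hsub d hd e he h hed) (hsub e he d hd h.symm hed.symm)
  · intro h
    have hsub : ∀ u ∈ D, ∀ v ∈ D, OddSet D u = OddSet D v →
        Cfsg.commutingMembers D u ⊆ Cfsg.commutingMembers D v :=
      fun u hu v hv h y hy => ⟨hy.1, (commute_of_oddSet_eq' hD hc hu hv h hy.1 hy.2).eq⟩
    exact Set.Subset.antisymm (hsub d hd e he h) (hsub e he d hd h.symm)

end Cfsg.Agent.H87.Inv
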