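import Cfsg.Agent.PGroups.NormalSq
import Mathlib.GroupTheory.Sylow
import Mathlib.GroupTheory.GroupAction.ConjAct
import Mathlib.Algebra.Group.Action.End

/-!
Miller's theorem: the number of cyclic subgroups of order `p ^ s`, `s ≥ 2`, is a multiple of `p` when the
Sylow `p`-subgroups are not cyclic and `p` is odd.
-/

set_option autoImplicit false

namespace Cfsg.Agent.H87.CyclicCount

open Subgroup

variable {G : Type*} [Group G] [Finite G]

theorem card_zpowers_eq (x : G) :
    Nat.card {y : G // zpowers y = zpowers x} = (orderOf x).totient := by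
  classical
  have e : {y : G // zpowers y = zpowers x} ≃ {y : ↥(zpowers x) // orderOf y = orderOf x} :=
    { toFun := fun y => ⟨⟨y.1, le_of_eq y.2 (mem_zpowers y.1)⟩, by
        rw [← Subgroup.orderOf_coe, Subgroup.coe_mk, ← Nat.card_zpowers, y.2, Nat.card_zpowers]⟩
      invFun := fun y => ⟨y.1.1, Subgroup.eq_of_le_of_card_ge (zpowers_le.mpr y.1.2) (by
        rw [Nat.card_zpowers, Nat.card_zpowers, Subgroup.orderOf_coe, y.2])⟩
      left_inv := fun _ => rfl
      right_inv := fun _ => rfl }
  haveI : Fintype ↥(zpowers x) := Fintype.ofFinite _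
  rw [Nat.card_congr e, Nat.card_eq_fintype_card, Fintype.card_subtype]
  exact IsCyclic.card_orderOf_eq_totient (by rw [← Nat.card_eq_fintype_card, Nat.card_zpowers])

/-- A set closed under taking other generators of the same cyclic subgroup is a union of fibres. -/
theorem card_eq_mul (q : G → Prop) (hq : ∀ x y, q x → zpowers y = zpowers x → q y) (n : ℕ)
    (hn : ∀ x, q x → orderOf x = n) :
    Nat.card {x // q x} = Nat.card {Y : Subgroup G // ∃ x, q x ∧ zpowers x = Y} * n.totient := by
  classical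
  let f : {x // q x} → {Y : Subgroup G // ∃ x, q x ∧ zpowers x = Y} := fun x => ⟨zpowers x.1, x.1, x.2, rfl⟩
  haveI : Fintype {Y : Subgroup G // ∃ x, q x ∧ zpowers x = Y} := Fintype.ofFinite _
  rw [← Nat.card_congr (Equiv.sigmaFiberEquiv f), Nat.card_sigma]
  have h : ∀ Y, Nat.card {x // f x = Y} = n.totient := by
    rintro ⟨Y, x, hx, hxY⟩
    rw [← hn x hx, ← card_zpowers_eq x]
    exact Nat.card_congr
      { toFun := fun y => ⟨y.1.1, (congrArg Subtype.val y.2).trans hxY.symm⟩
        invFun := fun y => ⟨⟨y.1, hq x y.1 hx y.2⟩, Subtype.ext (y.2.trans hxY)⟩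
        left_inv := fun _ => rfl
        right_inv := fun _ => rfl }
  rw [Finset.sum_congr rfl (fun Y _ => h Y), Finset.sum_const, Finset.card_univ, smul_eq_mul,
    Nat.card_eq_fintype_card]

/-- A set closed under taking other generators is counted by a divisor of all the totients. -/
theorem dvd_card (q : G → Prop) (hq : ∀ x y, q x → zpowers y = zpowers x → q y) (d : ℕ)
    (hd : ∀ x, q x → d ∣ (orderOf x).totient) : d ∣ Nat.card {x // q x} := by
  classical
  let f : {x // q x} → Subgroup G := fun x => zpowers x.1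
  haveI : Fintype (Subgroup G) := Fintype.ofFinite _
  rw [← Nat.card_congr (Equiv.sigmaFiberEquiv f), Nat.card_sigma]
  refine Finset.dvd_sum fun Y _ => ?_
  rcases isEmpty_or_nonempty {x // f x = Y} with h | ⟨⟨⟨x, hx⟩, hxY⟩⟩
  · simp
  · have : {y // f y = Y} ≃ {y : G // zpowers y = zpowers x} :=
      { toFun := fun y => ⟨y.1.1, y.2.trans hxY.symm⟩
        invFun := fun y => ⟨⟨y.1, hq x y.1 hx y.2⟩, y.2.trans hxY⟩
        left_inv := fun _ => rfl
        right_inv := fun _ => rfl }
    rw [Nat.card_congr this, card_zpowers_eq]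
    exact hd x hx

variable {p : ℕ} [hp : Fact p.Prime]

omit [Finite G] in
/-- If `g e = c e g` with `c` central, then powers of `e g` are given by a binomial coefficient. -/
theorem mul_pow_of_central {g e c : G} (hc : c ∈ center G) (h : g * e = c * e * g) (n : ℕ) :
    (e * g) ^ n = c ^ n.choose 2 * e ^ n * g ^ n := by
  have hcc : ∀ x : G, Commute c x := fun x => (Subgroup.mem_center_iff.mp hc x).symm
  have hg : ∀ k : ℕ, g ^ k * e = c ^ k * e * g ^ k := by
    intro k
    induction k with
    | zero => simp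
    | succ k ih =>
      calc g ^ (k + 1) * e = g * (g ^ k * e) := by rw [pow_succ', mul_assoc]
        _ = g * c ^ k * e * g ^ k := by rw [ih]; group
        _ = c ^ k * (g * e) * g ^ k := by rw [← ((hcc g).pow_left k).eq]; group
        _ = c ^ (k + 1) * e * g ^ (k + 1) := by rw [h, pow_succ c, pow_succ' g]; group
  induction n with
  | zero => simp
  | succ n ih =>
    calc (e * g) ^ (n + 1) = c ^ n.choose 2 * e ^ n * (g ^ n * e) * g := by rw [pow_succ, ih]; group
      _ = c ^ n.choose 2 * (e ^ n * c ^ n) * e * g ^ n * g := by rw [hg n]; group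
      _ = c ^ n.choose 2 * (c ^ n * e ^ n) * e * g ^ n * g := by rw [((hcc (e ^ n)).pow_left n).eq]
      _ = c ^ (n + 1).choose 2 * e ^ (n + 1) * g ^ (n + 1) := by
        rw [Nat.choose_succ_succ, Nat.choose_one_right, pow_succ g, pow_succ e, add_comm n, pow_add]
        group

/-- Translation by a normal elementary abelian subgroup of order `p ^ 2` keeps `p`-th powers. -/
theorem mul_pow_prime (hG : IsPGroup p G) (hp2 : p ≠ 2) (E : Subgroup G) [E.Normal]
    (hexp : ∀ a ∈ E, a ^ p = 1) (hcard : Nat.card E = p ^ 2) (e g : G) (he : e ∈ E) :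
    (e * g) ^ p = g ^ p := by
  have hEne : E ≠ ⊥ := fun h => by
    rw [h, Subgroup.card_bot] at hcard
    exact (Nat.one_lt_pow two_ne_zero hp.out.one_lt).ne hcard
  obtain ⟨z, hzE, hzc, hzo⟩ := PGroups.exists_mem_center_orderOf_eq hG E hEne
  haveI hZn : (zpowers z).Normal := PGroups.normal_of_le_center (zpowers_le.mpr hzc)
  have hEb : Nat.card (E.map (QuotientGroup.mk' (zpowers z))) = p := by
    have h1 := Subgroup.card_mul_index ((zpowers z).subgroupOf E)
    rw [Nat.card_congr (Subgroup.subgroupOfEquivOfLe (zpowers_le.mpr hzE)).toEquiv, Nat.card_zpowers, hzo,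
      hcard, pow_two] at h1
    have h2 : ((zpowers z).subgroupOf E).index = p := Nat.eq_of_mul_eq_mul_left hp.out.pos h1
    have h3 := Subgroup.index_ker ((QuotientGroup.mk' (zpowers z)).comp E.subtype)
    rw [← MonoidHom.comap_ker, QuotientGroup.ker_mk', MonoidHom.range_comp, Subgroup.range_subtype] at h3
    rw [← h3]
    exact h2
  haveI : (E.map (QuotientGroup.mk' (zpowers z))).Normal :=
    Subgroup.Normal.map inferInstance _ (QuotientGroup.mk'_surjective _)
  have hcen := PGroups.le_center_of_card_eq (hG.to_quotient (zpowers z)) _ hEb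
  set c := g * e * g⁻¹ * e⁻¹ with hc
  have hcz : c ∈ zpowers z := by
    rw [← QuotientGroup.eq_one_iff (N := zpowers z)]
    have := Subgroup.mem_center_iff.mp (hcen (Subgroup.mem_map_of_mem _ he)) (QuotientGroup.mk' _ g)
    simp only [QuotientGroup.mk'_apply] at this
    simp only [hc, QuotientGroup.mk_mul, QuotientGroup.mk_inv, this, mul_inv_cancel_right, mul_inv_cancel]
  have hcp : c ^ p = 1 := hexp c ((zpowers_le.mpr hzE) hcz)
  rw [mul_pow_of_central ((zpowers_le.mpr hzc) hcz) (g := g) (e := e) (by rw [hc]; group) p, hexp e he]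
  obtain ⟨k, hk⟩ := hp.out.dvd_choose_self two_ne_zero
    (lt_of_le_of_ne hp.out.two_le (Ne.symm hp2))
  rw [hk, pow_mul, hcp, one_pow, one_mul, one_mul]

/-- In a non-cyclic `p`-group, `p` odd, the number of elements of order `p ^ s`, `s ≥ 2`, is a multiple
of `p ^ s`. -/
theorem pgroup_dvd (hG : IsPGroup p G) (hp2 : p ≠ 2) (hnc : ¬ IsCyclic G) (s : ℕ) (hs : 1 < s) :
    p ^ s ∣ Nat.card {x : G // orderOf x = p ^ s} := by
  classical
  obtain ⟨E, -, hEn, -, hexp, hcard⟩ := PGroups.exists_normal_elementary_sq_le hG hp2 (⊤ : Subgroup G)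
    (fun h => hnc (isCyclic_of_surjective _ (Subgroup.topEquiv (G := G)).surjective))
  haveI := hEn
  obtain ⟨t, rfl⟩ : ∃ t, s = t + 2 := ⟨s - 2, by omega⟩
  let π := QuotientGroup.mk' E
  -- the condition only depends on the coset
  have hiff : ∀ x : G, orderOf x = p ^ (t + 2) ↔ orderOf (x ^ p) = p ^ (t + 1) := by
    intro x
    constructor
    · intro h
      rw [orderOf_pow x, h, Nat.gcd_eq_right (dvd_pow_self p (by omega)),
        show p ^ (t + 2) = p ^ (t + 1) * p from pow_succ p (t + 1), Nat.mul_div_cancel _ hp.out.pos]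
    · intro h
      apply orderOf_eq_prime_pow (n := t + 1)
      · intro hh
        have h2 : (x ^ p) ^ p ^ t = 1 := by
          rw [← pow_mul, ← pow_succ']; exact hh
        have := orderOf_dvd_of_pow_eq_one h2
        rw [h] at this
        have := Nat.le_of_dvd (pow_pos hp.out.pos t) this
        exact absurd this (not_le.mpr (Nat.pow_lt_pow_right hp.out.one_lt (by omega)))
      · rw [pow_succ', pow_mul, ← h]
        exact pow_orderOf_eq_one _
  have hinv : ∀ x y : G, π x = π y → orderOf x = p ^ (t + 2) → orderOf y = p ^ (t + 2) := by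
    intro x y hxy hx
    have he : y * x⁻¹ ∈ E := by
      rw [← QuotientGroup.eq_one_iff (N := E), QuotientGroup.mk_mul, QuotientGroup.mk_inv]
      exact mul_inv_eq_one.mpr hxy.symm
    rw [hiff] at hx ⊢
    rw [show y = y * x⁻¹ * x by group, mul_pow_prime hG hp2 E hexp hcard _ _ he]
    exact hx
  let q : G ⧸ E → Prop := fun w => ∃ x, π x = w ∧ orderOf x = p ^ (t + 2)
  have hq : ∀ a b, q a → zpowers b = zpowers a → q b := by
    rintro _ b ⟨x, rfl, hx⟩ hb
    obtain ⟨i, hi⟩ := Subgroup.mem_zpowers_iff.mp (hb ▸ mem_zpowers b : b ∈ zpowers (π x))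
    by_cases hpi : (p : ℤ) ∣ i
    · -- a generator cannot be a `p`-th power unless the image is trivial
      exfalso
      obtain ⟨j, rfl⟩ := hpi
      have hxne : π x ^ p ≠ π x ^ (p * p) ∨ π x ≠ 1 := by
        right
        intro h1
        have hxE : x ∈ E := (QuotientGroup.eq_one_iff x).mp h1
        have := orderOf_dvd_of_pow_eq_one (hexp x hxE)
        rw [hx] at this
        have := Nat.le_of_dvd hp.out.pos this
        exact absurd this (not_le.mpr (by
          calc p = p ^ 1 := (pow_one p).symm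
            _ < p ^ (t + 2) := Nat.pow_lt_pow_right hp.out.one_lt (by omega)))
      have hne : π x ≠ 1 := by
        rcases hxne with h | h
        · exact fun h1 => h (by simp [h1])
        · exact h
      obtain ⟨k, hk⟩ := IsPGroup.iff_orderOf.mp (hG.to_quotient E) (π x)
      have hk0 : k ≠ 0 := fun h0 => hne (orderOf_eq_one_iff.mp (by rw [hk, h0, pow_zero]))
      have hmem : π x ∈ zpowers ((π x) ^ p) := by
        have h1 : π x ∈ zpowers b := by rw [hb]; exact mem_zpowers _
        refine (zpowers_le.mpr ?_) h1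
        rw [← hi, zpow_mul, zpow_natCast]
        exact zpow_mem (mem_zpowers _) j
      have hle := Nat.card_le_card_of_injective (Subgroup.inclusion (zpowers_le.mpr hmem))
        (Subgroup.inclusion_injective _)
      rw [Nat.card_zpowers, Nat.card_zpowers, orderOf_pow (π x), hk,
        Nat.gcd_eq_right (dvd_pow_self p hk0)] at hle
      exact absurd hle (not_le.mpr (Nat.div_lt_self (pow_pos hp.out.pos k) hp.out.one_lt))
    · refine ⟨x ^ i, by rw [map_zpow, hi], ?_⟩
      have : (i.natAbs).Coprime p := by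
        rw [Nat.coprime_comm, hp.out.coprime_iff_not_dvd]
        exact fun h => hpi (Int.natCast_dvd.mpr h)
      rw [show orderOf (x ^ i) = orderOf (x ^ i.natAbs) by
        rcases Int.natAbs_eq i with h | h
        · conv_lhs => rw [h, zpow_natCast]
        · conv_lhs => rw [h, zpow_neg, zpow_natCast, orderOf_inv]]
      rw [Nat.Coprime.orderOf_pow (by rw [hx]; exact (this.pow_right _).symm), hx]
  have hdiv : p ^ t ∣ Nat.card {w // q w} := by
    refine dvd_card q hq _ ?_
    rintro _ ⟨x, rfl, hx⟩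
    have h1 : π (x ^ p ^ t) ≠ 1 := by
      intro h
      have h2 : (x ^ p ^ t) ^ p = 1 := hexp _ ((QuotientGroup.eq_one_iff _).mp h)
      rw [← pow_mul, ← pow_succ] at h2
      have := Nat.le_of_dvd (pow_pos hp.out.pos _) (orderOf_dvd_of_pow_eq_one h2)
      rw [hx] at this
      exact absurd this (not_le.mpr (Nat.pow_lt_pow_right hp.out.one_lt (by omega)))
    obtain ⟨k, hk⟩ := IsPGroup.iff_orderOf.mp (hG.to_quotient E) (π x)
    have hkt : t < k := by
      by_contra hle
      refine h1 ?_
      rw [map_pow]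
      exact orderOf_dvd_iff_pow_eq_one.mp (hk ▸ Nat.pow_dvd_pow p (not_lt.mp hle))
    rw [hk, Nat.totient_prime_pow hp.out (by omega)]
    exact Dvd.dvd.mul_right (Nat.pow_dvd_pow p (by omega)) _
  have hmul : Nat.card {x : G // orderOf x = p ^ (t + 2)} = Nat.card {w // q w} * p ^ 2 := by
    let f : {x : G // orderOf x = p ^ (t + 2)} → {w // q w} := fun x => ⟨π x.1, x.1, rfl, x.2⟩
    haveI : Fintype {w // q w} := Fintype.ofFinite _
    rw [← Nat.card_congr (Equiv.sigmaFiberEquiv f), Nat.card_sigma]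
    have h : ∀ w, Nat.card {x // f x = w} = p ^ 2 := by
      rintro ⟨_, x, rfl, hx⟩
      rw [← hcard]
      exact Nat.card_congr
        { toFun := fun y => ⟨y.1.1 * x⁻¹, by
            rw [← QuotientGroup.eq_one_iff (N := E), QuotientGroup.mk_mul, QuotientGroup.mk_inv]
            exact mul_inv_eq_one.mpr (congrArg Subtype.val y.2)⟩
          invFun := fun e => ⟨⟨e.1 * x, hinv x _ (by
              simp only [π, map_mul, QuotientGroup.mk'_apply, (QuotientGroup.eq_one_iff e.1).mpr e.2, one_mul]) hx⟩,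
            Subtype.ext (by
              simp only [f, π, map_mul, QuotientGroup.mk'_apply, (QuotientGroup.eq_one_iff e.1).mpr e.2, one_mul])⟩
          left_inv := fun y => by ext; simp
          right_inv := fun e => by ext; simp }
    rw [Finset.sum_congr rfl (fun w _ => h w), Finset.sum_const, Finset.card_univ, smul_eq_mul,
      Nat.card_eq_fintype_card]
  rw [hmul, pow_add]
  exact mul_dvd_mul_right hdiv _

/-- Miller: if the Sylow `p`-subgroups are not cyclic, `p` odd, the number of elements of order `p ^ s`,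
`s ≥ 2`, is a multiple of `p ^ s`. -/
theorem group_dvd (hp2 : p ≠ 2) (P : Sylow p G) (hnc : ¬ IsCyclic ↥(P : Subgroup G)) (s : ℕ) (hs : 1 < s) :
    p ^ s ∣ Nat.card {x : G // orderOf x = p ^ s} := by
  classical
  have hT := card_eq_mul (fun x : G => orderOf x = p ^ s)
    (fun x y hx h => by rw [← Nat.card_zpowers, h, Nat.card_zpowers, hx]) (p ^ s) (fun _ h => h)
  have hB := card_eq_mul (fun x : G => orderOf x = p ^ s ∧ x ∈ (P : Subgroup G))
    (fun x y hx h => ⟨by rw [← Nat.card_zpowers, h, Nat.card_zpowers, hx.1],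
      (zpowers_le.mpr hx.2) (h ▸ mem_zpowers y)⟩) (p ^ s) (fun _ h => h.1)
  let X := {Y : Subgroup G // ∃ x, orderOf x = p ^ s ∧ zpowers x = Y}
  letI act : MulAction ↥(P : Subgroup G) X :=
    { smul := fun g Y => ⟨Y.1.map (MulAut.conj (g : G)).toMonoidHom, by
        obtain ⟨x, hx, hY⟩ := Y.2
        exact ⟨MulAut.conj (g : G) x, by rw [MulEquiv.orderOf_eq, hx], by
          rw [← hY, MonoidHom.map_zpowers]; rfl⟩⟩
      one_smul := fun Y => Subtype.ext (by
        change Y.1.map _ = Y.1
        ext z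
        simp [Subgroup.mem_map])
      mul_smul := fun g h Y => Subtype.ext (by
        change Y.1.map _ = (Y.1.map _).map _
        rw [Subgroup.map_map]
        congr 1
        ext z
        simp [mul_assoc]) }
  have hsmul : ∀ (g : ↥(P : Subgroup G)) (Y : X),
      (g • Y).1 = Y.1.map (MulAut.conj (g : G)).toMonoidHom := fun _ _ => rfl
  let C : SubMulAction ↥(P : Subgroup G) X :=
    { carrier := {Y | ¬ Y.1 ≤ (P : Subgroup G)}
      smul_mem' := fun g Y hY hle => hY fun z hz => by
        have : (g : G) * z * (g : G)⁻¹ ∈ (g • Y).1 := ⟨z, hz, rfl⟩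
        simpa [mul_assoc] using mul_mem (mul_mem (inv_mem g.2) (hle this)) g.2 }
  have hfix : MulAction.fixedPoints ↥(P : Subgroup G) ↥C = ∅ := by
    ext ⟨Y, hY⟩
    simp only [Set.mem_empty_iff_false, iff_false]
    intro hfx
    have hn : (P : Subgroup G) ≤ normalizer (Y.1 : Set G) := by
      intro g hg
      have h1 : Y.1.map (MulAut.conj g).toMonoidHom = Y.1 :=
        congrArg Subtype.val (congrArg Subtype.val (hfx ⟨g, hg⟩))
      rw [Subgroup.mem_normalizer_iff]
      intro z
      constructor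
      · intro hz; rw [← h1]; exact ⟨z, hz, rfl⟩
      · intro hz
        rw [← h1] at hz
        obtain ⟨w, hw, hwe⟩ := hz
        simp only [MulEquiv.coe_toMonoidHom, MulAut.conj_apply, mul_left_inj, mul_right_inj] at hwe
        exact hwe ▸ hw
    obtain ⟨x, hx, hxY⟩ := Y.2
    have hYp : IsPGroup p Y.1 := IsPGroup.of_card (n := s) (by rw [← hxY, Nat.card_zpowers, hx])
    have hsup := IsPGroup.to_sup_of_normal_right' P.isPGroup' hYp hn
    have heq := P.is_maximal' hsup le_sup_left
    exact hY (heq ▸ le_sup_right)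
  have hC : p ∣ Nat.card ↥C := by
    have h := P.isPGroup'.card_modEq_card_fixedPoints ↥C
    rw [hfix] at h
    simpa [Nat.modEq_zero_iff_dvd] using h
  have hP : p ∣ Nat.card {Y : Subgroup G // ∃ x, (orderOf x = p ^ s ∧ x ∈ (P : Subgroup G)) ∧ zpowers x = Y} := by
    have h1 := pgroup_dvd P.isPGroup' hp2 hnc s hs
    have e : {x : ↥(P : Subgroup G) // orderOf x = p ^ s} ≃ {x : G // orderOf x = p ^ s ∧ x ∈ (P : Subgroup G)} :=
      { toFun := fun x => ⟨x.1.1, by rw [Subgroup.orderOf_coe]; exact x.2, x.1.2⟩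
        invFun := fun x => ⟨⟨x.1, x.2.2⟩, by rw [← Subgroup.orderOf_coe]; exact x.2.1⟩
        left_inv := fun _ => rfl
        right_inv := fun _ => rfl }
    rw [Nat.card_congr e, hB, Nat.totient_prime_pow hp.out (n := s) (by omega)] at h1
    obtain ⟨k, rfl⟩ : ∃ k, s = k + 1 := ⟨s - 1, by omega⟩
    rw [Nat.add_sub_cancel, mul_left_comm, pow_succ] at h1
    have h2 := (mul_dvd_mul_iff_left (pow_ne_zero k hp.out.ne_zero)).mp h1
    exact ((hp.out.dvd_mul).mp h2).resolve_right fun h => by
      have hp2le := hp.out.two_le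
      have := Nat.le_of_dvd (by omega) h
      omega
  have hsplit : Nat.card X = Nat.card {Y : X // Y.1 ≤ (P : Subgroup G)} + Nat.card ↥C := by
    rw [← Nat.card_sum]
    exact (Nat.card_congr (Equiv.sumCompl fun Y : X => Y.1 ≤ (P : Subgroup G))).symm
  have hsub : Nat.card {Y : X // Y.1 ≤ (P : Subgroup G)} =
      Nat.card {Y : Subgroup G // ∃ x, (orderOf x = p ^ s ∧ x ∈ (P : Subgroup G)) ∧ zpowers x = Y} :=
    Nat.card_congr
      { toFun := fun Y => ⟨Y.1.1, by
          obtain ⟨⟨Y0, x, hx, hxY⟩, hle⟩ := Y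
          exact ⟨x, ⟨hx, hle (hxY ▸ mem_zpowers x)⟩, hxY⟩⟩
        invFun := fun Y => ⟨⟨Y.1, by obtain ⟨x, hx, h⟩ := Y.2; exact ⟨x, hx.1, h⟩⟩, by
          obtain ⟨x, hx, h⟩ := Y.2
          exact h ▸ zpowers_le.mpr hx.2⟩
        left_inv := fun _ => rfl
        right_inv := fun _ => rfl }
  have hX : p ∣ Nat.card X := by
    rw [hsplit, hsub]; exact dvd_add hP hC
  rw [hT, Nat.totient_prime_pow hp.out (by omega)]
  obtain ⟨k, rfl⟩ : ∃ k, s = k + 1 := ⟨s - 1, by omega⟩
  rw [Nat.add_sub_cancel]
  calc p ^ (k + 1) = p * p ^ k := pow_succ' p k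
    _ ∣ _ := mul_dvd_mul hX (dvd_mul_right _ _)

end Cfsg.Agent.H87.CyclicCount
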