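import Cfsg.Agent.H87.MultiTransStem
import Cfsg.Agent.H87.M12PairData
import Cfsg.Agent.Golay.Stabilisers
import Cfsg.Agent.S2034

/-!
The upper bound for the multiplier of the dodecad group: it acts three-fold transitively on twelve
points, with point stabilisers perfect and multiplier-free.
-/

set_option autoImplicit false

namespace Cfsg.Agent.H87.M12Upper

open Cfsg Cfsg.Agent.Golay MulAction
open scoped Pointwise commutatorElement

/-- The twelve points. -/
abbrev Pts : Type := {p : GolayPt // p ∈ Spor.squareDodecad}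

theorem apply_mem (g : ↥Spor.M12) {p : GolayPt} (hp : p ∈ Spor.squareDodecad) :
    (g : Equiv.Perm GolayPt) p ∈ Spor.squareDodecad := by
  have h : (g : Equiv.Perm GolayPt) • Spor.squareDodecad = Spor.squareDodecad := g.2.2
  have := Finset.smul_mem_smul_finset (a := (g : Equiv.Perm GolayPt)) hp
  rwa [h] at this

instance instAction : MulAction ↥Spor.M12 Pts where
  smul g p := ⟨(g : Equiv.Perm GolayPt) p, apply_mem g p.2⟩
  one_smul _ := rfl
  mul_smul _ _ _ := rfl

theorem card_pts : Fintype.card Pts = 12 := by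
  rw [Fintype.card_coe, ← ptSet_squareMask, card_ptSet]
  decide +kernel

theorem five : MultiTrans.Five Pts := by
  intro a b c d
  obtain ⟨e, -, he⟩ := Finset.exists_mem_notMem_of_card_lt_card
    (s := ({a, b, c, d} : Finset Pts)) (t := Finset.univ) (by
      rw [Finset.card_univ, card_pts]
      exact lt_of_le_of_lt Finset.card_le_four (by norm_num))
  simp only [Finset.mem_insert, Finset.mem_singleton, not_or] at he
  exact ⟨e, he⟩

theorem exists_emb {a b c : Pts} (hab : a ≠ b) (hac : a ≠ c) (hbc : b ≠ c) :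
    ∃ x : Fin 5 ↪ GolayPt, (∀ i, x i ∈ Spor.squareDodecad) ∧ x 0 = a ∧ x 1 = b ∧ x 2 = c := by
  obtain ⟨d, hda, hdb, hdc, -⟩ := five a b c a
  obtain ⟨e, hea, heb, hec, hed⟩ := five a b c d
  have hinj : Function.Injective ![a, b, c, d, e] := by
    intro i j hij
    fin_cases i <;> fin_cases j <;> simp at hij <;>
      first
        | rfl
        | exact absurd hij ‹_›
        | exact absurd hij.symm ‹_›
  exact ⟨⟨fun i => (![a, b, c, d, e] i).1, Subtype.val_injective.comp hinj⟩,
    fun i => (![a, b, c, d, e] i).2, rfl, rfl, rfl⟩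

theorem trans3 : MultiTrans.Trans3 ↥Spor.M12 Pts := by
  intro a b c a' b' c' hab hac hbc hab' hac' hbc'
  obtain ⟨x, hx, x0, x1, x2⟩ := exists_emb hab hac hbc
  obtain ⟨y, hy, y0, y1, y2⟩ := exists_emb hab' hac' hbc'
  obtain ⟨α, hα, hαx⟩ := exists_spor_M12_base x hx
  obtain ⟨β, hβ, hβy⟩ := exists_spor_M12_base y hy
  have key : ∀ (i : Fin 5) (p q : Pts), x i = p → y i = q →
      (⟨β * α⁻¹, mul_mem hβ (inv_mem hα)⟩ : ↥Spor.M12) • p = q := by
    intro i p q hp hq
    refine Subtype.ext ?_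
    show (β * α⁻¹) (p : GolayPt) = q
    rw [← hp, ← hq, ← hαx i, ← hβy i, Equiv.Perm.mul_apply, Equiv.Perm.coe_inv,
      Equiv.symm_apply_apply]
  exact ⟨_, key 0 a a' x0 y0, key 1 b b' x1 y1, key 2 c c' x2 y2⟩

theorem mask_facts : squareMask.testBit 0 = true ∧ squareMask.testBit 1 = true := by
  decide +kernel

theorem pt_mem {i : ℕ} (hi : i < 24) (h : squareMask.testBit i = true) :
    pt i ∈ Spor.squareDodecad := by
  rw [← ptSet_squareMask, mem_ptSet, idx_pt i hi, h]

/-- The first base point. -/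
def p0 : Pts := ⟨pt 0, pt_mem (by norm_num) mask_facts.1⟩

/-- The second base point. -/
def p1 : Pts := ⟨pt 1, pt_mem (by norm_num) mask_facts.2⟩

theorem p0_ne_p1 : p0 ≠ p1 := fun h => by
  have h2 := congrArg (fun p : Pts => idx p.1) h
  simp only [p0, p1, idx_pt 0 (by norm_num : 0 < 24), idx_pt 1 (by norm_num : 1 < 24)] at h2
  exact absurd h2 (by norm_num)

/-- The stabiliser of the first base point is the smaller group. -/
def stabEquiv : ↥(stabilizer ↥Spor.M12 p0) ≃* ↥Spor.M11 where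
  toFun x := ⟨x.1.1, x.1.2, by
    show (x.1 : Equiv.Perm GolayPt) (some 0) = some 0
    rw [← pt_values.2]
    exact congrArg Subtype.val x.2⟩
  invFun y := ⟨⟨y.1, y.2.1⟩, Subtype.ext (by
    show (y : Equiv.Perm GolayPt) (pt 0) = pt 0
    rw [pt_values.2]
    exact y.2.2)⟩
  left_inv _ := rfl
  right_inv _ := rfl
  map_mul' _ _ := rfl

theorem stab_iso (a : Pts) : Nonempty (↥Spor.M11 ≃* ↥(stabilizer ↥Spor.M12 a)) := by
  obtain ⟨g, hg⟩ : ∃ g : ↥Spor.M12, g • p0 = a := by
    obtain ⟨c, hc0, hca, -, -⟩ := five p0 a p0 a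
    by_cases h : p0 = a
    · exact ⟨1, (one_smul _ _).trans h⟩
    · obtain ⟨g, h1, -⟩ := MultiTrans.trans2 (G := ↥Spor.M12) trans3 five h (Ne.symm h)
      exact ⟨g, h1⟩
  exact ⟨stabEquiv.symm.trans (MulAction.stabilizerEquivStabilizer hg.symm)⟩

theorem isPerfect_M11 : Group.IsPerfect ↥Spor.M11 := by
  haveI := isSimpleGroup_spor_M11
  refine Group.isPerfect_def.2 ((Subgroup.Normal.eq_bot_or_eq_top inferInstance).resolve_left ?_)
  intro hb
  letI : CommGroup ↥Spor.M11 := { (inferInstance : Group ↥Spor.M11) with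
    mul_comm := fun a b => by
      have h : ⁅a, b⁆ ∈ commutator ↥Spor.M11 :=
        Subgroup.commutator_mem_commutator (Subgroup.mem_top a) (Subgroup.mem_top b)
      rw [hb, Subgroup.mem_bot] at h
      exact commutatorElement_eq_one_iff_mul_comm.1 h }
  have hp : (Nat.card ↥Spor.M11).Prime := IsSimpleGroup.prime_card
  rw [card_spor_M11] at hp
  exact absurd hp (by norm_num)

/-- The two point stabiliser. -/
abbrev Pair : Subgroup ↥Spor.M12 := stabilizer ↥Spor.M12 p0 ⊓ stabilizer ↥Spor.M12 p1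

/-- The fixed mask of the two base points. -/
abbrev pairMask : ℕ := 0 ||| 2 ^ 0 ||| 2 ^ 1

theorem pair_check :
    checkChain [squareMask] pairMask (m12Chain.drop 2) = true ∧
    checkComm [squareMask] pairMask M12Pair.pairComms = true ∧
    inStab [squareMask] pairMask M12Pair.pairW = true ∧
    checkSLP (idTbl :: M12Pair.pairComms.map (fun n => n.2.2)) M12Pair.squareProg = true ∧
    ((idTbl :: M12Pair.pairComms.map (fun n => n.2.2)) ++ M12Pair.squareProg.map (fun n => n.1)).contains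
      (tblMul M12Pair.pairW M12Pair.pairW) = true ∧
    checkSLP (M12Pair.pairW :: idTbl :: M12Pair.pairComms.map (fun n => n.2.2)) M12Pair.coverProg = true ∧
    ((m12Chain.drop 2).all fun l => l.2.all fun t =>
      ((M12Pair.pairW :: idTbl :: M12Pair.pairComms.map (fun n => n.2.2)) ++
        M12Pair.coverProg.map (fun n => n.1)).contains t) = true := by
  decide +kernel

theorem validT_of_inStab {E : List ℕ} {F t : ℕ} (h : inStab E F t = true) : validT t = true := by
  simp only [inStab, Bool.and_eq_true] at h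
  exact validT_of_inM24 h.1.1

theorem mem_pair_iff {σ : Equiv.Perm GolayPt} :
    σ ∈ stabGrp [squareMask] pairMask ↔
      ∃ x : ↥Pair, (x.1.1) = σ := by
  rw [pairMask, stabGrp_or _ _ (by norm_num : (1 : ℕ) < 24), stabGrp_or _ _ (by norm_num : (0 : ℕ) < 24),
    stabGrp_squareMask]
  constructor
  · rintro ⟨⟨h, h0⟩, h1⟩
    exact ⟨⟨⟨σ, h⟩, Subtype.ext h0, Subtype.ext h1⟩, rfl⟩
  · rintro ⟨x, rfl⟩
    exact ⟨⟨x.1.2, congrArg Subtype.val x.2.1⟩, congrArg Subtype.val x.2.2⟩

set_option maxHeartbeats 1000000 in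
theorem pair_facts :
    ∃ w : ↥Pair,
      w ^ 2 ∈ commutator ↥Pair ∧
      ∀ x : ↥Pair,
        x ∈ commutator _ ∨ w⁻¹ * x ∈ commutator _ := by
  obtain ⟨hL, hc, hw, hp1, hw2, hp2, hcov⟩ := pair_check
  obtain ⟨w, hwval⟩ := mem_pair_iff.1 (mem_stabGrp_of_inStab hw)
  set f : ↥Pair →* Equiv.Perm GolayPt := Spor.M12.subtype.comp Pair.subtype with hf
  have hfi : Function.Injective f := fun u v h => Subtype.ext (Subtype.ext h)
  set D := (commutator ↥Pair).map f with hD
  have hk : ∀ A ∈ idTbl :: M12Pair.pairComms.map (fun n => n.2.2),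
      validT A = true ∧ mkPerm A ∈ D := by
    intro A hA
    rcases List.mem_cons.1 hA with rfl | hA
    · exact ⟨idTbl_spec.1, idTbl_spec.2 ▸ one_mem _⟩
    · obtain ⟨⟨a, b, c⟩, hn, rfl⟩ := List.mem_map.1 hA
      have hn' := List.all_eq_true.1 hc _ hn
      simp only [Bool.and_eq_true] at hn'
      obtain ⟨⟨⟨ha, hb⟩, hcm⟩, heq⟩ := hn'
      have hva := validT_of_inStab ha
      have hvb := validT_of_inStab hb
      have hvc := validT_of_inStab hcm
      refine ⟨hvc, ?_⟩
      obtain ⟨u, hu⟩ := mem_pair_iff.1 (mem_stabGrp_of_inStab ha)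
      obtain ⟨v, hv⟩ := mem_pair_iff.1 (mem_stabGrp_of_inStab hb)
      have he : mkPerm a * mkPerm b = mkPerm c * (mkPerm b * mkPerm a) := by
        rw [← (tblMul_spec hva hvb).2, ← (tblMul_spec hvb hva).2,
          ← (tblMul_spec hvc (tblMul_spec hvb hva).1).2, eq_of_beq heq]
      refine ⟨⁅u, v⁆, Subgroup.commutator_mem_commutator (Subgroup.mem_top _) (Subgroup.mem_top _), ?_⟩
      rw [map_commutatorElement]
      show ⁅(u.1 : Equiv.Perm GolayPt), (v.1 : Equiv.Perm GolayPt)⁆ = mkPerm c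
      rw [hu, hv, commutatorElement_def, he]
      group
  have hwD : w ^ 2 ∈ commutator ↥Pair := by
    obtain ⟨y, hy, he⟩ := (checkSLP_mem _ _ hp1 hk _ (List.contains_iff_mem.1 hw2)).2
    have h2 : y = w ^ 2 := hfi (by
      rw [he, (tblMul_spec (validT_of_inStab hw) (validT_of_inStab hw)).2, map_pow, pow_two]
      show _ = (w.1 : Equiv.Perm GolayPt) * (w.1 : Equiv.Perm GolayPt)
      rw [hwval])
    exact h2 ▸ hy
  refine ⟨w, hwD, ?_⟩
  set H := (commutator ↥Pair ⊔ Subgroup.zpowers w).map f with hH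
  have hk2 : ∀ A ∈ M12Pair.pairW :: idTbl :: M12Pair.pairComms.map (fun n => n.2.2),
      validT A = true ∧ mkPerm A ∈ H := by
    intro A hA
    rcases List.mem_cons.1 hA with rfl | hA
    · exact ⟨validT_of_inStab hw, w, Subgroup.mem_sup_right (Subgroup.mem_zpowers w), hwval⟩
    · exact ⟨(hk A hA).1, Subgroup.map_mono le_sup_left (hk A hA).2⟩
  have hle : H ≤ stabGrp [squareMask] pairMask := by
    rintro _ ⟨x, -, rfl⟩
    exact mem_pair_iff.2 ⟨x, rfl⟩
  have hHeq : H = stabGrp [squareMask] pairMask := by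
    refine eq_stabGrp_of_mem hL hle fun l hl t ht => ?_
    have := List.all_eq_true.1 (List.all_eq_true.1 hcov l hl) t ht
    exact (checkSLP_mem _ _ hp2 hk2 t (List.contains_iff_mem.1 this)).2
  intro x
  have hx : f x ∈ H := by
    rw [hHeq]
    exact mem_pair_iff.2 ⟨x, rfl⟩
  obtain ⟨y, hy, hye⟩ := Subgroup.mem_map.1 hx
  rw [← hfi hye]
  obtain ⟨d, hd, z, hz, rfl⟩ := Subgroup.mem_sup_of_normal_left.1 hy
  obtain ⟨i, rfl⟩ := Subgroup.mem_zpowers_iff.1 hz
  obtain ⟨j, rfl | rfl⟩ := Int.even_or_odd' i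
  · refine Or.inl (mul_mem hd ?_)
    rw [zpow_mul, zpow_ofNat]
    exact zpow_mem hwD j
  · refine Or.inr ?_
    have hj : w ^ (2 * j) ∈ commutator ↥Pair := by
      rw [zpow_mul, zpow_ofNat]; exact zpow_mem hwD j
    have : w⁻¹ * (d * w ^ (2 * j + 1)) = (w⁻¹ * d * w) * w ^ (2 * j) := by group
    rw [this]
    refine mul_mem ?_ hj
    have := (inferInstance : (commutator ↥Pair).Normal).conj_mem d hd w⁻¹
    simpa using this

/-- The upper bound. -/
theorem exists_surjection {Γ : Type} [Group Γ] [Finite Γ] (σ : Γ →* ↥Spor.M12)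
    (hσ : Cfsg.IsStemExtension σ) :
    ∃ π : Multiplicative (ZMod 2) →* σ.ker, Function.Surjective π := by
  obtain ⟨w, hw2, hcov⟩ := pair_facts
  exact MultiTrans.exists_surjection_two isPerfect_M11 Cfsg.Agent.S2034.result stab_iso trans3
    five p0_ne_p1 w hw2 hcov hσ

end Cfsg.Agent.H87.M12Upper
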