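import Cfsg.Agent.H87.AltEightLocal.AltShape
import Cfsg.Agent.PGroups.AltEightSylow.EAct
import Cfsg.Agent.PGroups.AltEightSylow.Quot

/-!
The alternating case: the centraliser of `z` has trivial odd core and the alternating shape, and `z` is fused
with an involution of the meet of `E` and the extraspecial subgroup.
-/

set_option autoImplicit false
set_option linter.style.haveILetI false

namespace Cfsg.Agent.H87.AltEightLocal

open Subgroup PGroups.AltEightSylow

/-- The alternating shape is preserved by isomorphisms. -/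
theorem shapeAlt_congr {K K' : Type*} [Group K] [Group K'] [Finite K] (e : K ≃* K') {d : Emb K} {d' : Emb K'}
    (hd : ∀ x, d'.hom x = e (d.hom x)) (h : d.ShapeAlt) : d'.ShapeAlt := by
  haveI : Finite K' := Finite.of_equiv K e.toEquiv
  have hmap : (Cfsg.pCore 2 K).map e.toMonoidHom = Cfsg.pCore 2 K' := Cores.pCore_map_mulEquiv e
  have hc : ∀ k : K, e k ∈ Cfsg.pCore 2 K' ↔ k ∈ Cfsg.pCore 2 K := fun k => by
    rw [← hmap]; exact mem_map_iff_mem e.injective
  have hT : ∀ k : K, e k ∈ d'.T ↔ k ∈ d.T := fun k =>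
    ⟨fun ⟨x, hx⟩ => ⟨x, e.injective ((hd x).symm.trans hx)⟩, fun ⟨x, hx⟩ => ⟨x, (hd x).trans (congrArg e hx)⟩⟩
  have hE : ∀ k : K, e k ∈ d'.E ↔ k ∈ d.E := fun k =>
    ⟨fun ⟨x, hx, hxe⟩ => ⟨x, hx, e.injective ((hd x).symm.trans hxe)⟩,
      fun ⟨x, hx, hxe⟩ => ⟨x, hx, (hd x).trans (congrArg e hxe)⟩⟩
  have hconj : ∀ x y : M64, IsConj (d.hom x) (d.hom y) → IsConj (d'.hom x) (d'.hom y) := fun x y hxy => by
    rw [hd, hd]; exact MonoidHom.map_isConj e.toMonoidHom hxy
  obtain ⟨q⟩ := h.quot
  exact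
    { card := by rw [← Nat.card_congr e.toEquiv]; exact h.card
      pCore_card := by rw [← hmap, card_map_of_injective (f := e.toMonoidHom) e.injective]; exact h.pCore_card
      pCore_mem := fun x => by rw [hd, hc]; exact h.pCore_mem x
      quot := ⟨(QuotientGroup.congr _ _ e hmap).symm.trans q⟩
      fpf := fun X => by
        haveI : Fact (Nat.Prime 3) := ⟨Nat.prime_three⟩
        let Y : Sylow 3 K := X.comapOfInjective e.toMonoidHom e.injective (by
          rw [MonoidHom.range_eq_top.2 e.surjective]; exact le_top)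
        ext k'
        obtain ⟨k, rfl⟩ := e.surjective k'
        have hk : k ∈ Cfsg.pCore 2 K ⊓ centralizer ((Y : Subgroup K) : Set K) ↔ k ∈ zpowers d.z := by
          rw [h.fpf Y]
        rw [mem_inf, hc, mem_zpowers_z]
        rw [mem_inf, mem_zpowers_z] at hk
        have hz : d'.z = e d.z := hd _
        rw [hz, e.injective.eq_iff, MulEquiv.map_eq_one_iff, ← hk]
        refine and_congr Iff.rfl ⟨fun hX r hr => e.injective ?_, fun hY r' hr' => ?_⟩
        · rw [map_mul, map_mul]; exact hX (e r) hr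
        · obtain ⟨r, rfl⟩ := e.surjective r'
          rw [← map_mul, ← map_mul]; exact congrArg e (hY r hr')
      norm_E := by
        ext k'
        obtain ⟨k, rfl⟩ := e.surjective k'
        rw [hT, ← h.norm_E, mem_normalizer_iff, mem_normalizer_iff]
        refine ⟨fun hk a => ?_, fun hk a' => ?_⟩
        · show a ∈ d.E ↔ k * a * k⁻¹ ∈ d.E
          rw [← hE a, ← hE (k * a * k⁻¹), map_mul, map_mul, map_inv]
          exact hk (e a)
        · obtain ⟨a, rfl⟩ := e.surjective a'
          show e a ∈ d'.E ↔ e k * e a * (e k)⁻¹ ∈ d'.E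
          rw [← map_inv, ← map_mul, ← map_mul, hE, hE]
          exact hk a
      V_normal := fun i hi k' x hx => by
        obtain ⟨k, rfl⟩ := e.surjective k'
        obtain ⟨y, hy, hye⟩ := h.V_normal i hi k x hx
        exact ⟨y, hy, by rw [hd, hd, ← map_inv, ← map_mul, ← map_mul, hye]⟩
      six_fused := fun i hi x y hx hy => hconj x y (h.six_fused i hi x y hx hy) }

/-- The alternating case of the recognition. -/
theorem alt_case {G : Type*} [Group G] [Finite G] (d : Emb G) (hcore2 : Cfsg.pCore 2 G = ⊥)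
    (hO : Cfsg.oddCore d.Cz = ⊥) (hs : d.dK.ShapeAlt)
    (hnwc : ∃ i : Fin 16, i.val ∈ [1, 4, 10, 11, 14, 15] ∧ IsConj d.z (d.el i)) :
    Nonempty (G ≃* alternatingGroup (Fin 8)) ∨ Nonempty (G ≃* alternatingGroup (Fin 9)) := by
  have hbij : Function.Bijective (QuotientGroup.mk' (Cfsg.oddCore d.Cz)) :=
    ⟨(MonoidHom.ker_eq_bot_iff _).1 (by rw [QuotientGroup.ker_mk', hO]), QuotientGroup.mk'_surjective _⟩
  have h : d.dC.ShapeAlt := shapeAlt_congr (MulEquiv.ofBijective _ hbij).symm
    (fun x => ((MulEquiv.ofBijective _ hbij).symm_apply_apply (d.dC.hom x)).symm.trans (by rw [d.dK_hom]; rfl)) hs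
  obtain ⟨i, hi, hconj⟩ := hnwc
  obtain ⟨g, hg⟩ := isConj_iff.1 hconj
  refine alt_recognition d hcore2 d.dC (fun x => rfl) h ⟨g, M64.of i.val, ?_, ?_, hg⟩
  · rw [inMask_of (by omega)]
    have key : ([1, 4, 10, 11, 14, 15] : List ℕ).all (fun n => mQ.testBit n) = true := by decide +kernel
    exact List.all_eq_true.1 key _ hi
  · intro e
    have h5 : i.val = 5 := by
      have := congrArg (fun w : M64 => (w.lab : ℕ)) e
      simpa [M64.of_lab_val (show i.val < 64 by omega), M64.z_lab] using this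
    rw [h5] at hi
    simp at hi

end Cfsg.Agent.H87.AltEightLocal
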