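import Cfsg.Agent.H87.AltEightSpShape
import Cfsg.Agent.PGroups.AltEightSylow.Quot
import Cfsg.Prelude.Def_Transfer

/-!
In the symplectic case the centraliser of `z` is the model of the centraliser in `PSp₄(3)`.
-/

set_option autoImplicit false
set_option linter.style.haveILetI false

namespace Cfsg.Agent.H87.AltEightLocal

open Subgroup PGroups.AltEightSylow

variable {G : Type*} [Group G] [Finite G]

/-- The symplectic shape gives an embedding of the model onto the centraliser. -/
theorem sp_emb (d : Emb G) (hsol : Group.IsSolvable d.Cz) (hO : Cfsg.oddCore d.Cz = ⊥) (hs : d.dK.ShapeSp) :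
    Nonempty (H31.UFour.Emb d.z) := by
  haveI := hsol
  haveI : Group.IsSolvable d.Kz := Group.isSolvable_of_surjective (QuotientGroup.mk'_surjective _)
  have hbij : Function.Bijective (QuotientGroup.mk' (Cfsg.oddCore d.Cz)) :=
    ⟨(MonoidHom.ker_eq_bot_iff _).1 (by rw [QuotientGroup.ker_mk', hO]), QuotientGroup.mk'_surjective _⟩
  obtain ⟨e, he⟩ := exists_model_iso hs d.dK_z_central (cen_core d.dK_oddCore)
  set q := MulEquiv.ofBijective _ hbij with hq
  refine ⟨{ hom := d.Cz.subtype.comp (e.trans q.symm).toMonoidHom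
            inj := d.Cz.subtype_injective.comp (e.trans q.symm).injective
            range_eq := ?_
            map_z := ?_ }⟩
  · rw [MonoidHom.range_comp, MonoidHom.range_eq_top.2 (e.trans q.symm).surjective, ← MonoidHom.range_eq_map,
      range_subtype]
  · show ((q.symm (e H31.UFour.M.z) : d.Cz) : G) = d.z
    rw [he, show q.symm d.dK.z = d.dC.hom M64.z from (q.symm_apply_eq).2 rfl]
    rfl

/-- Without a proper 2-residual there is no subgroup of index two. -/
theorem index_ne_two {G : Type*} [Group G] (hres : Cfsg.pResidual 2 G = ⊤) (H : Subgroup G) : H.index ≠ 2 := by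
  intro h2
  haveI := Subgroup.normal_of_index_eq_two h2
  refine absurd (Subgroup.index_eq_one.2 ?_) (by rw [h2]; norm_num : H.index ≠ 1)
  rw [eq_top_iff, ← hres, Cfsg.pResidual, closure_le]
  intro x hx
  obtain ⟨m, hm⟩ : Odd (orderOf x) := Nat.coprime_two_right.1 hx
  have hxx : x = (x * x) ^ (m + 1) := by
    rw [← pow_two, ← pow_mul, show 2 * (m + 1) = orderOf x + 1 by omega, pow_succ, pow_orderOf_eq_one, one_mul]
  rw [SetLike.mem_coe, hxx]
  refine H.pow_mem ?_ _
  exact (Subgroup.mul_mem_iff_of_index_two h2).2 Iff.rfl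

end Cfsg.Agent.H87.AltEightLocal
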