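import Cfsg.Agent.H31.UFour.Transport

/-!
A homomorphism from the model of the centraliser of a 2-central involution of `PSp₄(3)`, given the images of
generators of one `SL₂(3)` and an involution exchanging the two factors.
-/

set_option autoImplicit false
set_option linter.style.haveILetI false

namespace Cfsg.Agent.H87.AltEightSpModel

open H31.UFour

/-- Coordinates of a label of `SL₂(3)`: exponents of `I`, `J`, `-1` and of the element of order three. -/
def dec (a : ℕ) : Bool × Bool × Bool × ℕ :=
  let c := [0, 1, 22, 8, 17, 14, 13, 2, 20, 19, 11, 3, 4, 5, 18, 12, 21, 10, 9, 6, 16, 23, 15, 7].getD a 0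
  (c.testBit 0, c.testBit 1, c.testBit 2, c / 8)

/-- Left multiplication by `I` on coordinates. -/
def stepI : Bool × Bool × Bool × ℕ → Bool × Bool × Bool × ℕ
  | (x, y, f, k) => (!x, y, xor f x, k)

/-- Left multiplication by the element of order three on coordinates. -/
def stepR : Bool × Bool × Bool × ℕ → Bool × Bool × Bool × ℕ
  | (false, false, f, k) => (false, false, f, (k + 1) % 3)
  | (true, false, f, k) => (false, true, f, (k + 1) % 3)
  | (false, true, f, k) => (true, true, f, (k + 1) % 3)
  | (true, true, f, k) => (true, false, f, (k + 1) % 3)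

lemma dec_step : ((List.range 24).all fun a => dec (slMul 1 a) == stepI (dec a) &&
    dec (slMul 3 a) == stepR (dec a)) = true := by
  decide +kernel

lemma sl_assoc : ((List.range 24).all fun a => (List.range 24).all fun b => (List.range 24).all fun c =>
    slMul (slMul a b) c == slMul a (slMul b c)) = true := by
  decide +kernel

/-- Labels reached from the generators. -/
def reach : ℕ → List ℕ
  | 0 => [0]
  | n + 1 => ((reach n).flatMap fun a => [a, slMul 1 a, slMul 3 a]).dedup

lemma reach_all : ((List.range 24).all fun a => (reach 6).contains a) = true := by decide +kernel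

lemma sl_twelve : ((List.range 24).all fun a => slMul a 12 == (a + 12) % 24 && slMul 12 a == (a + 12) % 24 &&
    slMul 0 a == a) = true := by
  decide +kernel

lemma lab_parts : ((List.range 24).all fun a => (List.range 24).all fun b => (List.range 2).all fun s =>
    pa (lab a b s) == a % 12 && pb (lab a b s) == (bif Nat.blt a 12 then b else (b + 12) % 24) &&
      ps (lab a b s) == s) = true := by
  decide +kernel

/-- Generators of the model. -/
def gensM : List ℕ := [lab 1 0 0, lab 3 0 0, lab 0 1 0, lab 0 3 0, lab 0 0 1]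

/-- Descent along commutators with the generators. -/
def desc : ℕ → ℕ → ℕ
  | 0, k => k
  | n + 1, k => (((gensM.map fun g => nmul (nmul (nmul g k) (ninv g)) (ninv k)).find? fun c => !(c == 0)).elim k
      (desc n))

lemma desc_all : ((List.range 576).all fun k => k == 0 || desc 8 k == 24) = true := by decide +kernel

variable {K : Type*} [Group K]

/-- An optional factor. -/
def pw (x : K) (b : Bool) : K := bif b then x else 1

/-- The generators of an `SL₂(3)` in a group. -/
structure SLData (i j r z : K) : Prop where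
  ii : i * i = z
  jj : j * j = z
  zz : z * z = 1
  ji : j * i = z * (i * j)
  r3 : r ^ 3 = 1
  ri : r * i = j * r
  rj : r * j = i * j * r
  zi : z * i = i * z
  zj : z * j = j * z
  zr : z * r = r * z

/-- The element with given coordinates. -/
def word (i j r z : K) : Bool × Bool × Bool × ℕ → K
  | (x, y, f, k) => pw i x * pw j y * pw z f * r ^ k

/-- The image of a label. -/
def slFun (i j r z : K) (a : ℕ) : K := word i j r z (dec a)

namespace SLData

variable {i j r z : K} (h : SLData i j r z)

include h

lemma mul_I (c : Bool × Bool × Bool × ℕ) : i * word i j r z c = word i j r z (stepI c) := by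
  obtain ⟨x, y, f, k⟩ := c
  cases x
  · simp [word, stepI, pw, mul_assoc]
  · have e : ∀ w : K, i * (i * w) = z * w := fun w => by rw [← mul_assoc, h.ii]
    cases y <;> cases f <;> simp [word, stepI, pw, mul_assoc, e]
    · rw [← mul_assoc, h.zz, one_mul]
    · rw [← mul_assoc, h.zj, mul_assoc]
    · rw [← mul_assoc z j, h.zj, mul_assoc j z, ← mul_assoc z z, h.zz, one_mul]

lemma mul_R (c : Bool × Bool × Bool × ℕ) : r * word i j r z c = word i j r z (stepR c) := by
  obtain ⟨x, y, f, k⟩ := c
  have hk : r * r ^ k = r ^ ((k + 1) % 3) := by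
    rw [← pow_succ']
    conv_lhs => rw [← Nat.mod_add_div (k + 1) 3, pow_add, pow_mul, h.r3, one_pow, mul_one]
  have e1 : ∀ w : K, r * (i * w) = j * (r * w) := fun w => by rw [← mul_assoc, h.ri, mul_assoc]
  have e2 : ∀ w : K, r * (j * w) = i * (j * (r * w)) := fun w => by rw [← mul_assoc, h.rj]; simp [mul_assoc]
  have e3 : ∀ w : K, r * (z * w) = z * (r * w) := fun w => by rw [← mul_assoc, ← h.zr, mul_assoc]
  have e4 : ∀ w : K, j * (i * (j * w)) = i * w := fun w => by
    rw [← mul_assoc j i, h.ji, mul_assoc z (i * j), mul_assoc i j, ← mul_assoc j j, h.jj, ← mul_assoc i z, ← h.zi,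
      mul_assoc z i, ← mul_assoc z z, h.zz, one_mul]
  cases x <;> cases y <;> cases f <;> simp [word, stepR, pw, mul_assoc, e1, e2, e3, e4, hk]

lemma slFun_zero : slFun i j r z 0 = 1 := by
  rw [slFun, show dec 0 = (false, false, false, 0) by decide +kernel]
  simp [word, pw]

lemma slFun_twelve : slFun i j r z 12 = z := by
  rw [slFun, show dec 12 = (false, false, true, 0) by decide +kernel]
  simp [word, pw]

lemma slFun_one : slFun i j r z 1 = i := by
  rw [slFun, show dec 1 = (true, false, false, 0) by decide +kernel]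
  simp [word, pw]

lemma slFun_three : slFun i j r z 3 = r := by
  rw [slFun, show dec 3 = (false, false, false, 1) by decide +kernel]
  simp [word, pw]

lemma slFun_mul {a b : ℕ} (ha : a < 24) (hb : b < 24) :
    slFun i j r z (slMul a b) = slFun i j r z a * slFun i j r z b := by
  have hr := reach_all
  simp only [List.all_eq_true, List.mem_range, List.contains_iff_mem] at hr
  have hs := sl_assoc
  simp only [List.all_eq_true, List.mem_range, beq_iff_eq] at hs
  have hd := dec_step
  simp only [List.all_eq_true, List.mem_range, Bool.and_eq_true, beq_iff_eq] at hd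
  have ht := sl_twelve
  simp only [List.all_eq_true, List.mem_range, Bool.and_eq_true, beq_iff_eq] at ht
  suffices key : ∀ n, ∀ c ∈ reach n, c < 24 ∧
      ∀ d < 24, slFun i j r z (slMul c d) = slFun i j r z c * slFun i j r z d from
    (key 6 a (hr a ha)).2 b hb
  intro n
  induction n with
  | zero =>
    intro c hc
    obtain rfl : c = 0 := by simpa [reach] using hc
    exact ⟨by norm_num, fun d hd' => by rw [(ht d hd').2, h.slFun_zero, one_mul]⟩
  | succ n ih =>
    intro c hc
    simp only [reach, List.mem_dedup, List.mem_flatMap, List.mem_cons, List.not_mem_nil, or_false] at hc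
    obtain ⟨c', hc', hcases⟩ := hc
    obtain ⟨h24, hmul⟩ := ih c' hc'
    have hI : ∀ d < 24, slFun i j r z (slMul 1 d) = i * slFun i j r z d := fun d hd' => by
      rw [slFun, slFun, (hd d hd').1, h.mul_I]
    have hR : ∀ d < 24, slFun i j r z (slMul 3 d) = r * slFun i j r z d := fun d hd' => by
      rw [slFun, slFun, (hd d hd').2, h.mul_R]
    rcases hcases with rfl | rfl | rfl
    · exact ih c hc'
    · refine ⟨(slMul_facts ⟨1, by norm_num⟩ ⟨c', h24⟩).1, fun d hd' => ?_⟩
      rw [hs 1 (by norm_num) c' h24 d hd', hI _ (slMul_facts ⟨c', h24⟩ ⟨d, hd'⟩).1, hI _ h24, hmul d hd', mul_assoc]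
    · refine ⟨(slMul_facts ⟨3, by norm_num⟩ ⟨c', h24⟩).1, fun d hd' => ?_⟩
      rw [hs 3 (by norm_num) c' h24 d hd', hR _ (slMul_facts ⟨c', h24⟩ ⟨d, hd'⟩).1, hR _ h24, hmul d hd', mul_assoc]

lemma commute_slFun {x : K} (hi : Commute i x) (hr : Commute r x) (a : ℕ) : Commute (slFun i j r z a) x := by
  have hj : Commute j x := by
    rw [show j = r * i * r⁻¹ by rw [h.ri, mul_inv_cancel_right]]
    exact (hr.mul_left hi).mul_left hr.inv_left
  have hz : Commute z x := by rw [← h.ii]; exact hi.mul_left hi
  have hp : ∀ (u : K) (b : Bool), Commute u x → Commute (pw u b) x := fun u b hu => by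
    cases b
    exacts [Commute.one_left x, hu]
  obtain ⟨x', y, f, k, e⟩ : ∃ x' y f k, dec a = (x', y, f, k) := ⟨_, _, _, _, rfl⟩
  rw [slFun, e]
  exact (((hp i x' hi).mul_left (hp j y hj)).mul_left (hp z f hz)).mul_left (hr.pow_left k)

end SLData

/-- The image of a label of the model. -/
def mFun (i j r z w : K) (n : ℕ) : K :=
  slFun i j r z (pa n) * (w * slFun i j r z (pb n) * w) * pw w (ps n == 1)

/-- The homomorphism from the model. -/
theorem exists_hom {i j r z w : K} (h : SLData i j r z) (hw : w * w = 1) (hwz : w * z = z * w) (hz1 : z ≠ 1)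
    (h₁ : Commute i (w * i * w)) (h₂ : Commute i (w * r * w)) (h₃ : Commute r (w * i * w))
    (h₄ : Commute r (w * r * w)) :
    ∃ φ : M →* K, Function.Injective φ ∧ φ M.z = z := by
  set g := slFun i j r z with hg
  have hwr : ∀ u v : K, w * u * w * (w * v * w) = w * (u * v) * w := fun u v => by
    rw [show w * u * w * (w * v * w) = w * u * (w * w) * v * w by group, hw]; group
  have hswap : ∀ u v : K, Commute u v → Commute (w * u * w) (w * v * w) := fun u v e => by
    show w * u * w * (w * v * w) = w * v * w * (w * u * w)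
    rw [hwr, hwr, e.eq]
  have hww : ∀ u : K, w * (w * u * w) * w = u := fun u => by
    rw [show w * (w * u * w) * w = w * w * u * (w * w) by group, hw, one_mul, mul_one]
  have hgi : ∀ a, Commute (g a) (w * i * w) := h.commute_slFun h₁ h₃
  have hgr : ∀ a, Commute (g a) (w * r * w) := h.commute_slFun h₂ h₄
  have hcomm : ∀ a b, Commute (g a) (w * g b * w) := by
    intro a b
    have e1 : Commute i (w * g a * w) := by
      have := (hswap _ _ (hgi a)).symm
      rwa [hww] at this
    have e2 : Commute r (w * g a * w) := by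
      have := (hswap _ _ (hgr a)).symm
      rwa [hww] at this
    have := hswap _ _ (h.commute_slFun e1 e2 b)
    rw [hww] at this
    exact this.symm
  have ht := sl_twelve
  simp only [List.all_eq_true, List.mem_range, Bool.and_eq_true, beq_iff_eq] at ht
  have hp := lab_parts
  simp only [List.all_eq_true, List.mem_range, Bool.and_eq_true, beq_iff_eq] at hp
  have hlab : ∀ a < 24, ∀ b < 24, ∀ s < 2, mFun i j r z w (lab a b s) =
      g a * (w * g b * w) * pw w (s == 1) := by
    intro a ha b hb s hs
    obtain ⟨⟨e1, e2⟩, e3⟩ := hp a ha b hb s hs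
    rw [mFun, e1, e2, e3]
    rcases lt_or_ge a 12 with hlt | hge
    · rw [Nat.mod_eq_of_lt hlt, show Nat.blt a 12 = true by rw [Nat.blt_eq]; exact hlt, cond_true]
    · rw [show Nat.blt a 12 = false by rw [← Bool.not_eq_true, Nat.blt_eq]; omega, cond_false]
      have ea : g a = g (a % 12) * z := by
        rw [← h.slFun_twelve, hg, ← h.slFun_mul (by omega) (by norm_num), (ht (a % 12) (by omega)).1.1]
        congr 1; omega
      have eb : g ((b + 12) % 24) = z * g b := by
        rw [← h.slFun_twelve, hg, ← h.slFun_mul (by norm_num) hb, (ht b hb).1.2]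
      rw [ea, show slFun i j r z ((b + 12) % 24) = z * g b from eb]
      have : w * (z * g b) * w = z * (w * g b * w) := by rw [← mul_assoc w z, hwz]; group
      rw [this]
      simp only [hg]
      group
  have hmul : ∀ x y : M, mFun i j r z w (x * y).val = mFun i j r z w x.val * mFun i j r z w y.val := by
    intro x y
    obtain ⟨x1, -, x2, x3⟩ := parts_lt x.val_lt
    obtain ⟨y1, -, y2, y3⟩ := parts_lt y.val_lt
    rw [M.mul_val, nmul]
    rcases (show ps x.val = 0 ∨ ps x.val = 1 by omega) with e | e
    · rw [e, beq_self_eq_true, cond_true, Nat.zero_add, Nat.mod_eq_of_lt y3,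
        hlab _ (slMul_facts ⟨_, x1⟩ ⟨_, y1⟩).1 _ (slMul_facts ⟨_, x2⟩ ⟨_, y2⟩).1 _ y3,
        mFun, mFun, e, hg, h.slFun_mul x1 y1, h.slFun_mul x2 y2, ← hwr]
      have hc := (hcomm (pa y.val) (pb x.val)).eq
      rw [hg] at hc
      simp only [pw, Nat.zero_ne_one, beq_iff_eq, cond_false, mul_one, Nat.reduceBEq]
      rw [show slFun i j r z (pa x.val) * (w * slFun i j r z (pb x.val) * w) *
          (slFun i j r z (pa y.val) * (w * slFun i j r z (pb y.val) * w) * bif ps y.val == 1 then w else 1) =
        slFun i j r z (pa x.val) * ((w * slFun i j r z (pb x.val) * w) * slFun i j r z (pa y.val)) *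
          (w * slFun i j r z (pb y.val) * w) * (bif ps y.val == 1 then w else 1) by group, ← hc]
      group
    · rw [e, show ((1 : ℕ) == 0) = false from rfl, cond_false,
        hlab _ (slMul_facts ⟨_, x1⟩ ⟨_, y2⟩).1 _ (slMul_facts ⟨_, x2⟩ ⟨_, y1⟩).1 _ (Nat.mod_lt _ (by norm_num)),
        mFun, mFun, e, hg, h.slFun_mul x1 y2, h.slFun_mul x2 y1, ← hwr]
      have hc := (hcomm (pb y.val) (pb x.val)).eq
      rw [hg] at hc
      have hc2 := (hcomm (pa y.val) (pb y.val)).eq
      rw [hg] at hc2
      have hs : pw w ((1 + ps y.val) % 2 == 1) = w * pw w (ps y.val == 1) := by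
        rcases (show ps y.val = 0 ∨ ps y.val = 1 by omega) with e' | e' <;> simp [e', pw, hw]
      rw [hs, show pw w ((1 : ℕ) == 1) = w from rfl]
      generalize slFun i j r z (pa x.val) = a₁ at *
      generalize slFun i j r z (pb x.val) = b₁ at *
      generalize slFun i j r z (pa y.val) = a₂ at *
      generalize slFun i j r z (pb y.val) = b₂ at *
      generalize pw w (ps y.val == 1) = s at *
      calc a₁ * b₂ * (w * b₁ * w * (w * a₂ * w)) * (w * s)
          = a₁ * (b₂ * (w * b₁ * w)) * (w * a₂ * (w * w)) * s := by group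
        _ = a₁ * (w * b₁ * w) * b₂ * (w * a₂) * s := by rw [hc, hw]; group
        _ = a₁ * (w * b₁ * w) * (w * w) * b₂ * w * a₂ * s := by rw [hw]; group
        _ = a₁ * (w * b₁ * w) * w * (a₂ * (w * b₂ * w)) * s := by rw [hc2]; group
        _ = _ := by group
  have hlt : ∀ n : ℕ, n < 576 → (M.mk n).val = n := fun n hn => M.val_mk hn
  let φ : M →* K := MonoidHom.mk' (fun x => mFun i j r z w x.val) hmul
  have hz' : φ M.z = z := by
    show mFun i j r z w M.z.val = z
    rw [M.z_val, mFun]
    simp [pa, pb, ps, h.slFun_zero, h.slFun_twelve, pw]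
    rw [hwz, mul_assoc, hw, mul_one]
  refine ⟨φ, (injective_iff_map_eq_one φ).2 fun x hx => ?_, hz'⟩
  by_contra hne
  have hd := desc_all
  simp only [List.all_eq_true, List.mem_range, Bool.or_eq_true, beq_iff_eq] at hd
  have key : ∀ (n : ℕ) (k : M), φ k = 1 → ∃ k' : M, φ k' = 1 ∧ k'.val = desc n k.val := by
    intro n
    induction n with
    | zero => exact fun k hk => ⟨k, hk, rfl⟩
    | succ n ih =>
      intro k hk
      rw [desc]
      cases hf : ((gensM.map fun g => nmul (nmul (nmul g k.val) (ninv g)) (ninv k.val)).find? fun c => !(c == 0)) with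
      | none => exact ⟨k, hk, rfl⟩
      | some c =>
        obtain ⟨g', hg', rfl⟩ := List.mem_map.1 (List.mem_of_find?_eq_some hf)
        have hg576 : g' < 576 := by
          have hb : gensM.all (fun g => Nat.blt g 576) = true := by decide +kernel
          simpa using List.all_eq_true.1 hb g' hg'
        obtain ⟨k', h1, h2⟩ := ih (M.mk g' * k * (M.mk g')⁻¹ * k⁻¹) (by simp [hk])
        refine ⟨k', h1, h2.trans ?_⟩
        simp only [M.mul_val, M.inv_val, hlt g' hg576]
        rfl
  obtain ⟨k, h1, h2⟩ := key 8 x hx
  rw [(hd x.val x.val_lt).resolve_left fun e => hne (M.val_inj.1 (e.trans M.one_val.symm)), ← M.z_val, M.val_inj] at h2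
  rw [h2, hz'] at h1
  exact hz1 h1

end Cfsg.Agent.H87.AltEightSpModel
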