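import Cfsg.Agent.H87.AltEightSpModel
import Cfsg.Agent.H87.AltEightLocal.QShape

/-!
A group of symplectic shape is isomorphic to the model of the centraliser of a 2-central involution of
`PSp₄(3)`.
-/

set_option autoImplicit false
set_option linter.style.haveILetI false

namespace Cfsg.Agent.H87.AltEightLocal

open Subgroup PGroups.AltEightSylow Equiv

/-- The pairs of meets used for moving labels modulo the centre. -/
def moves : List (ℕ × ℕ) :=
  [(26, 43), (43, 49), (27, 27), (33, 33), (30, 30), (36, 36), (58, 58), (63, 63)]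

/-- The rotation of the first ruling. -/
def rotA : Perm (Fin 3) := finRotate 3 ^ 2

/-- The rotation of the second ruling. -/
def rotB : Perm (Fin 3) := finRotate 3

lemma rot_facts : rotA ^ 3 = 1 ∧ rotB ^ 3 = 1 ∧ rotA ≠ 1 ∧
    (∀ p q : Perm (Fin 3), p ^ 3 = 1 → q ^ 3 = 1 → p ≠ 1 → q = 1 ∨ q = p ∨ q = p * p) := by
  refine ⟨?_, ?_, ?_, ?_⟩ <;> decide +kernel

/-- Each of the labels is a product of two meets whose rotated product is the target, modulo the centre. -/
lemma move_facts : (moves.all fun m => (List.finRange 3).any fun i => (List.finRange 3).any fun b =>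
    (List.finRange 3).any fun i' => (List.finRange 3).any fun b' =>
      (m.1 == mulN (pt i b) (pt i' b') || m.1 == mulN 5 (mulN (pt i b) (pt i' b'))) &&
      (m.2 == mulN (pt (rotA i) (rotB b)) (pt (rotA i') (rotB b')) ||
        m.2 == mulN 5 (mulN (pt (rotA i) (rotB b)) (pt (rotA i') (rotB b'))))) = true := by
  decide +kernel

/-- The quaternion subgroups of the extraspecial subgroup and the involution exchanging them. -/
lemma quat_facts : ([26, 27, 30, 31, 33, 36, 43, 46, 49, 52, 58, 63].all fun n => mQ.testBit n) = true ∧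
    mulN 26 26 = 5 ∧ mulN 43 43 = 5 ∧ mulN 46 46 = 5 ∧ mulN 2 2 = 0 ∧ mQ.testBit 2 = false ∧
    (([26, 31, 43, 46, 49, 52].all fun n => ([27, 33, 30, 36, 58, 63].contains (conjN 2 n))) = true) ∧
    ([26, 31, 43, 46, 49, 52].all fun a => [27, 33, 30, 36, 58, 63].all fun b => cmB a b) = true ∧
    mulN 26 43 ∈ [49, 52] ∧ mulN 26 46 ∈ [49, 52] ∧
    mulN 43 26 = mulN 5 (mulN 26 43) ∧ mulN 46 26 = mulN 5 (mulN 26 46) := by
  refine ⟨?_, ?_, ?_, ?_, ?_, ?_, ?_, ?_, ?_, ?_, ?_, ?_⟩ <;> decide +kernel

lemma mem_mQ_of {n : ℕ} (hn : n < 64) (h : mQ.testBit n = true) : inMask mQ (M64.of n) := (inMask_of hn).2 h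

lemma hom_mul_lab {K : Type*} [Group K] (d : Emb K) {a b c : ℕ} (ha : a < 64) (hb : b < 64) (hc : c < 64)
    (h : mulN a b = c) : d.hom (M64.of a) * d.hom (M64.of b) = d.hom (M64.of c) := by
  rw [← map_mul, hom_eq d, M64.mul_lab, M64.of_lab_val ha, M64.of_lab_val hb, M64.of_lab_val hc, h]

lemma mem_zpowers_pow_two {K : Type*} [Group K] {u : K} (hu : u ^ 3 = 1) (a : ℕ) :
    u ^ 2 ^ a = u ∨ u ^ 2 ^ a = u⁻¹ := by
  induction a with
  | zero => left; simp
  | succ a ih =>
    have h2 : u ^ 2 = u⁻¹ := eq_inv_of_mul_eq_one_left (by rw [← pow_succ]; exact hu)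
    rcases ih with e | e
    · right; rw [pow_succ, pow_mul, e, h2]
    · left; rw [pow_succ, pow_mul, e, inv_pow, h2, inv_inv]

variable {K : Type*} [Group K] [Finite K] {d : Emb K}

/-- An embedding of the model onto a group of symplectic shape. -/
theorem exists_model_iso (h : d.ShapeSp) (hz : ∀ k : K, k * d.z = d.z * k)
    (hc : centralizer (Cfsg.pCore 2 K : Set K) ≤ Cfsg.pCore 2 K) :
    ∃ e : H31.UFour.M ≃* K, e H31.UFour.M.z = d.z := by
  classical
  have hQ : CoreQ d := h.pCore_mem
  obtain ⟨hA, hB⟩ := kerA hQ hz hc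
  have hrange : Nat.card (alp hQ hz).range = 3 := by
    have hcard := (alp hQ hz).ker.card_eq_card_quotient_mul_card_subgroup
    rw [hA, h.card, Nat.card_congr (QuotientGroup.quotientKerEquivRange (alp hQ hz)).toEquiv] at hcard
    omega
  -- an element of order three inducing the two rotations
  obtain ⟨r, hr3, hra, hrb⟩ : ∃ r : K, r ^ 3 = 1 ∧ alp hQ hz r = rotA ∧ bet hQ hz r = rotB := by
    obtain ⟨_, ⟨k₀, rfl⟩, hk₀⟩ := (bot_or_exists_ne_one (alp hQ hz).range).resolve_left
      (fun e => by rw [e, card_bot] at hrange; omega)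
    have hk3 : alp hQ hz k₀ ^ 3 = 1 := by
      have := pow_card_eq_one' (x := (⟨_, k₀, rfl⟩ : (alp hQ hz).range))
      rw [hrange] at this
      simpa using congrArg Subtype.val this
    obtain ⟨k₁, hk₁⟩ : ∃ k, alp hQ hz k = rotA := by
      rcases rot_facts.2.2.2 _ _ hk3 rot_facts.1 hk₀ with e | e | e
      · exact absurd e rot_facts.2.2.1
      · exact ⟨k₀, e.symm⟩
      · exact ⟨k₀ * k₀, by rw [map_mul, e]⟩
    obtain ⟨l, hl⟩ := hB (rotB * (bet hQ hz k₁)⁻¹)
    have hl' : bet hQ hz (l : K) = rotB * (bet hQ hz k₁)⁻¹ := hl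
    have hla : alp hQ hz (l : K) = 1 := l.2
    set k := (l : K) * k₁ with hk
    have hka : alp hQ hz k = rotA := by rw [hk, map_mul, hla, hk₁, one_mul]
    have hkb : bet hQ hz k = rotB := by rw [hk, map_mul, hl', inv_mul_cancel_right]
    obtain ⟨a, ha⟩ := exists_odd_pow k
    set u := k ^ 2 ^ a with hu
    have hua : alp hQ hz u = rotA ^ 2 ^ a := by rw [hu, map_pow, hka]
    have hub : bet hQ hz u = rotB ^ 2 ^ a := by rw [hu, map_pow, hkb]
    have hu3 : u ^ 3 = 1 := by
      refine odd_kernel hQ hz hc (ha.of_dvd_nat (orderOf_pow_dvd 3)) ?_ ?_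
      · rw [map_pow, hua, ← pow_mul, mul_comm, pow_mul, rot_facts.1, one_pow]
      · rw [map_pow, hub, ← pow_mul, mul_comm, pow_mul, rot_facts.2.1, one_pow]
    rcases mem_zpowers_pow_two rot_facts.1 a with e | e <;>
      rcases mem_zpowers_pow_two rot_facts.2.1 a with e' | e'
    · exact ⟨u, hu3, hua.trans e, hub.trans e'⟩
    · exfalso
      have h2 : ∀ n, rotA ^ 2 ^ n = rotA ↔ rotB ^ 2 ^ n = rotB := fun n => by
        have e3 : (∀ p q : Fin 3, (rotA ^ (p.val) = rotA ↔ rotB ^ (p.val) = rotB)) := by decide +kernel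
        have := e3 ⟨2 ^ n % 3, Nat.mod_lt _ (by norm_num)⟩ 0
        rwa [← pow_eq_pow_mod _ rot_facts.1, ← pow_eq_pow_mod _ rot_facts.2.1] at this
      exact absurd ((h2 a).1 e) (by rw [e']; decide +kernel)
    · exfalso
      have h2 : ∀ n, rotA ^ 2 ^ n = rotA ↔ rotB ^ 2 ^ n = rotB := fun n => by
        have e3 : (∀ p q : Fin 3, (rotA ^ (p.val) = rotA ↔ rotB ^ (p.val) = rotB)) := by decide +kernel
        have := e3 ⟨2 ^ n % 3, Nat.mod_lt _ (by norm_num)⟩ 0
        rwa [← pow_eq_pow_mod _ rot_facts.1, ← pow_eq_pow_mod _ rot_facts.2.1] at this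
      exact absurd ((h2 a).2 e') (by rw [e]; decide +kernel)
    · exact ⟨u⁻¹, by rw [inv_pow, hu3, inv_one], by rw [map_inv, hua, e, inv_inv],
        by rw [map_inv, hub, e', inv_inv]⟩
  have hodd : Odd (orderOf r) := (by decide : Odd 3).of_dvd_nat (orderOf_dvd_of_pow_eq_one hr3)
  have hzc := z_central_of d hz
  have hz5 : d.hom (M64.of 5) = d.z := rfl
  have hzz := z_sq d
  -- the action modulo the centre
  have hmove : ∀ m ∈ moves, r * d.hom (M64.of m.1) * r⁻¹ = d.hom (M64.of m.2) ∨
      r * d.hom (M64.of m.1) * r⁻¹ = d.z * d.hom (M64.of m.2) := by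
    intro m hm
    have hf := move_facts
    simp only [List.all_eq_true, List.any_eq_true, List.mem_finRange, true_and, Bool.and_eq_true,
      Bool.or_eq_true, beq_iff_eq] at hf
    obtain ⟨i, b, i', b', h1, h2⟩ := hf m hm
    have hpt : ∀ i b, ∃ c : Bool, r * d.hom (ptM i b) * r⁻¹ =
        AltEightSpModel.pw d.z c * d.hom (ptM (rotA i) (rotB b)) := fun i b => by
      rcases kap_pt hQ hz r i b with e | e <;> rw [hra, hrb] at e
      · exact ⟨false, by rw [← (kap_spec hQ r (pt_spec i b).2.1).2, e]; simp [AltEightSpModel.pw]⟩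
      · exact ⟨true, by rw [← (kap_spec hQ r (pt_spec i b).2.1).2, e, map_mul]; simp [AltEightSpModel.pw, Emb.z]⟩
    obtain ⟨c, hcq⟩ := hpt i b
    obtain ⟨c', hcq'⟩ := hpt i' b'
    have hprod : ∀ (n : ℕ) (i b i' b' : Fin 3), n = mulN (pt i b) (pt i' b') ∨ n = mulN 5 (mulN (pt i b) (pt i' b')) →
        ∃ c : Bool, d.hom (M64.of n) = AltEightSpModel.pw d.z c * (d.hom (ptM i b) * d.hom (ptM i' b')) := by
      intro n i b i' b' hn
      have hlab : ((ptM i b * ptM i' b').lab : ℕ) = mulN (pt i b) (pt i' b') := by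
        rw [M64.mul_lab, ptM, ptM, M64.of_lab_val (pt_spec i b).1, M64.of_lab_val (pt_spec i' b').1]
      rcases hn with rfl | rfl
      · exact ⟨false, by rw [← map_mul, ← hom_of_lab d _ hlab]; simp [AltEightSpModel.pw]⟩
      · refine ⟨true, ?_⟩
        show _ = d.hom M64.z * _
        rw [← map_mul, ← map_mul, ← hom_of_lab d _ (show ((M64.z * (ptM i b * ptM i' b')).lab : ℕ) =
          mulN 5 (mulN (pt i b) (pt i' b')) by rw [M64.mul_lab, M64.z_lab, hlab])]
    obtain ⟨c₁, e₁⟩ := hprod m.1 i b i' b' h1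
    obtain ⟨c₂, e₂⟩ := hprod m.2 (rotA i) (rotB b) (rotA i') (rotB b') h2
    have hpz : ∀ (c : Bool) (x : K), x * AltEightSpModel.pw d.z c = AltEightSpModel.pw d.z c * x := fun c x => by
      cases c <;> simp [AltEightSpModel.pw, hz x]
    rw [e₁, e₂, show r * (AltEightSpModel.pw d.z c₁ * (d.hom (ptM i b) * d.hom (ptM i' b'))) * r⁻¹ =
      r * AltEightSpModel.pw d.z c₁ * r⁻¹ * ((r * d.hom (ptM i b) * r⁻¹) * (r * d.hom (ptM i' b') * r⁻¹)) by group,
      hcq, hcq', hpz c₁ r, mul_inv_cancel_right, mul_assoc (AltEightSpModel.pw d.z c),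
      ← mul_assoc (d.hom (ptM (rotA i) (rotB b))), hpz c' (d.hom (ptM (rotA i) (rotB b)))]
    simp only [← mul_assoc]
    cases c <;> cases c' <;> cases c₁ <;> cases c₂ <;>
      simp [AltEightSpModel.pw, hzz, ← mul_assoc]
  -- the second factor is centralised
  have hBfix : ∀ n ∈ [27, 33, 30, 36, 58, 63], r * d.hom (M64.of n) * r⁻¹ = d.hom (M64.of n) := by
    intro n hn
    have hm : (n, n) ∈ moves := by
      simp only [List.mem_cons, List.not_mem_nil, or_false] at hn
      rcases hn with rfl | rfl | rfl | rfl | rfl | rfl <;> decide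
    rcases hmove _ hm with e | e
    · exact e
    · exact fix_step (s := d.z) hodd hzz (hzc r) e
  obtain ⟨hqQ, hii, hjj, hjj', h22, h2Q, hswap, hcm, hij, hij', hji, hji'⟩ := quat_facts
  simp only [List.all_eq_true, List.contains_iff_mem] at hswap hcm hqQ
  -- the image of the first generator
  obtain ⟨n, hn, hn'⟩ : ∃ n, (n = 43 ∨ n = 46) ∧ r * d.hom (M64.of 26) * r⁻¹ = d.hom (M64.of n) := by
    rcases hmove (26, 43) (by simp [moves]) with e | e
    · exact ⟨43, Or.inl rfl, e⟩
    · exact ⟨46, Or.inr rfl, e.trans (by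
        rw [← hz5]; exact hom_mul_lab d (by norm_num) (by norm_num) (by norm_num) (by decide +kernel))⟩
  set i₀ := d.hom (M64.of 26) with hi₀
  set j₀ := r * i₀ * r⁻¹ with hj₀
  have hjn : j₀ = d.hom (M64.of n) := hn'
  have hn64 : n < 64 := by omega
  have hi₀i : i₀ * i₀ = d.z := by rw [← hz5]; exact hom_mul_lab d (by norm_num) (by norm_num) (by norm_num) hii
  have hj₀j : j₀ * j₀ = d.z := by
    rw [hjn, ← hz5]; exact hom_mul_lab d hn64 hn64 (by norm_num) (by rcases hn with rfl | rfl <;> assumption)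
  have hjiz : j₀ * i₀ = d.z * (i₀ * j₀) := by
    rw [hjn, hi₀, ← map_mul, ← map_mul, ← hz5, ← map_mul, hom_eq d, M64.mul_lab, M64.mul_lab, M64.mul_lab,
      M64.of_lab_val hn64, M64.of_lab_val (show 26 < 64 by norm_num), M64.of_lab_val (show 5 < 64 by norm_num)]
    rcases hn with rfl | rfl <;> assumption
  have hk : r * j₀ * r⁻¹ = i₀ * j₀ ∨ r * j₀ * r⁻¹ = d.z * (i₀ * j₀) := by
    have h49 : r * d.hom (M64.of 43) * r⁻¹ = d.hom (M64.of 49) ∨
        r * d.hom (M64.of 43) * r⁻¹ = d.z * d.hom (M64.of 49) := hmove (43, 49) (by simp [moves])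
    have hj43 : j₀ = d.hom (M64.of 43) ∨ j₀ = d.z * d.hom (M64.of 43) := by
      rcases hn with rfl | rfl
      · exact Or.inl hjn
      · exact Or.inr (hjn.trans (by
          rw [← hz5]; exact (hom_mul_lab d (by norm_num) (by norm_num) (by norm_num) (by decide +kernel)).symm))
    have hp49 : i₀ * j₀ = d.hom (M64.of 49) ∨ i₀ * j₀ = d.z * d.hom (M64.of 49) := by
      have hm : mulN 26 n ∈ [49, 52] := by rcases hn with rfl | rfl <;> assumption
      simp only [List.mem_cons, List.not_mem_nil, or_false] at hm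
      rw [hjn, hi₀]
      rcases hm with e | e
      · exact Or.inl (hom_mul_lab d (by norm_num) hn64 (by norm_num) e)
      · refine Or.inr ((hom_mul_lab d (by norm_num) hn64 (by norm_num) e).trans ?_)
        rw [← hz5]; exact (hom_mul_lab d (by norm_num) (by norm_num) (by norm_num) (by decide +kernel)).symm
    have hzl : ∀ x : K, d.z * (d.z * x) = x := fun x => by rw [← mul_assoc, hzz, one_mul]
    have hrz : ∀ x : K, r * (d.z * x) * r⁻¹ = d.z * (r * x * r⁻¹) := fun x => by
      rw [← mul_assoc r, hz r]; group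
    rcases hp49 with e3 | e3 <;> rw [e3] <;> rcases hj43 with e1 | e1 <;> rw [e1] <;>
      rcases h49 with e2 | e2 <;> simp only [hrz, e2, hzl, true_or, or_true]
  -- normalised generators
  obtain ⟨i, j, hidef, hjdef, hri, hrj, hi2, hji2⟩ : ∃ i j : K, (i = i₀ ∨ i = d.z * i₀) ∧
      (j = j₀ ∨ j = d.z * j₀) ∧ r * i * r⁻¹ = j ∧ r * j * r⁻¹ = i * j ∧ i * i = d.z ∧ j * i = d.z * (i * j) := by
    rcases hk with e | e
    · exact ⟨i₀, j₀, Or.inl rfl, Or.inl rfl, hj₀.symm, e, hi₀i, hjiz⟩
    · have hzl : ∀ x y : K, d.z * x * (d.z * y) = x * y := fun x y => by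
        rw [← mul_assoc (d.z * x), mul_assoc d.z x, hz x, ← mul_assoc d.z, hzz, one_mul]
      refine ⟨d.z * i₀, d.z * j₀, Or.inr rfl, Or.inr rfl, ?_, ?_, ?_, ?_⟩
      · rw [← mul_assoc r, hz r, hj₀]; group
      · rw [show r * (d.z * j₀) * r⁻¹ = d.z * (r * j₀ * r⁻¹) by rw [← mul_assoc r, hz r]; group, e,
          hzl, ← mul_assoc, hzz, one_mul]
      · rw [hzl, hi₀i]
      · rw [hzl, hzl, hjiz]
  have hj2 : j * j = d.z := by
    rw [← hri, show r * i * r⁻¹ * (r * i * r⁻¹) = r * (i * i) * r⁻¹ by group, hi2, hzc]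
  set w := d.hom (M64.of 2) with hw
  have hww : w * w = 1 := by rw [hw, ← map_one d.hom]; exact hom_mul_lab d (by norm_num) (by norm_num) (by norm_num) h22
  have hwinv : w⁻¹ = w := inv_eq_of_mul_eq_one_right hww
  -- conjugates of the first factor lie in the second
  have hAB : ∀ a ∈ [26, 31, 43, 46, 49, 52], ∃ b ∈ [27, 33, 30, 36, 58, 63],
      w * d.hom (M64.of a) * w = d.hom (M64.of b) := by
    intro a ha
    refine ⟨conjN 2 a, hswap a ha, ?_⟩
    have ha64 : a < 64 := by
      simp only [List.mem_cons, List.not_mem_nil, or_false] at ha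
      omega
    have hb : conjN 2 a < 64 := by
      have hh := hswap a ha
      simp only [List.mem_cons, List.not_mem_nil, or_false] at hh
      omega
    rw [hw, ← map_mul, ← map_mul, hom_eq d, M64.mul_lab, M64.mul_lab, M64.of_lab_val hb, M64.of_lab_val ha64,
      M64.of_lab_val (show 2 < 64 by norm_num), conjN, show invN 2 = 2 by decide +kernel]
  have hmemA : ∀ x, x = i₀ ∨ x = j₀ → ∃ a ∈ [26, 31, 43, 46, 49, 52], x = d.hom (M64.of a) := by
    rintro x (rfl | rfl)
    · exact ⟨26, by simp, hi₀⟩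
    · exact ⟨n, by rcases hn with rfl | rfl <;> simp, hjn⟩
  have hz_comm : ∀ x : K, Commute d.z x := fun x => (hz x).symm
  have hswapc : ∀ u v : K, Commute u v → Commute (w * u * w) (w * v * w) := fun u v e => by
    show w * u * w * (w * v * w) = w * v * w * (w * u * w)
    rw [show w * u * w * (w * v * w) = w * u * (w * w) * v * w by group,
      show w * v * w * (w * u * w) = w * v * (w * w) * u * w by group, hww, mul_one, mul_one, mul_assoc w u,
      e.eq, mul_assoc w v]
  have hr_fix : ∀ a ∈ [26, 31, 43, 46, 49, 52], Commute r (w * d.hom (M64.of a) * w) := by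
    intro a ha
    obtain ⟨b, hb, e⟩ := hAB a ha
    rw [e]
    exact mul_inv_eq_iff_eq_mul.1 (hBfix b hb)
  have hii' : i = i₀ ∨ i = d.z * i₀ := hidef
  have hiA : ∀ x : K, Commute i₀ x → Commute i x := fun x hx => by
    rcases hidef with e | e <;> rw [e]
    exacts [hx, (hz_comm x).mul_left hx]
  have hwz : w * d.z = d.z * w := hz w
  have hwiw : w * i * w = w * i₀ * w ∨ w * i * w = d.z * (w * i₀ * w) := by
    rcases hidef with e | e <;> rw [e]
    · exact Or.inl rfl
    · right; rw [← mul_assoc w, hz w]; group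
  have h26 : 26 ∈ ([26, 31, 43, 46, 49, 52] : List ℕ) := by simp
  have hiwi : Commute i (w * i * w) := by
    refine hiA _ ?_
    obtain ⟨b, hb, e⟩ := hAB 26 h26
    rw [← hi₀] at e
    have hc' : Commute i₀ (w * i₀ * w) := by
      rw [e, hi₀]
      have := hcm 26 h26 b hb
      show d.hom _ * d.hom _ = d.hom _ * d.hom _
      rw [← map_mul, ← map_mul]
      refine congrArg d.hom (M64.cmB_iff.1 ?_)
      have hb64 : b < 64 := by simp only [List.mem_cons, List.not_mem_nil, or_false] at hb; omega
      rwa [M64.of_lab_val (show 26 < 64 by norm_num), M64.of_lab_val hb64]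
    rcases hwiw with e' | e' <;> rw [e']
    exacts [hc', ((hz_comm i₀).symm).mul_right hc']
  have hrwi : Commute r (w * i * w) := by
    have hc' : Commute r (w * i₀ * w) := hr_fix 26 h26
    rcases hwiw with e' | e' <;> rw [e']
    exacts [hc', ((hz_comm r).symm).mul_right hc']
  have hiwr : Commute i (w * r * w) := by
    have := hswapc _ _ hrwi
    rw [show w * (w * i * w) * w = w * w * i * (w * w) by group, hww, one_mul, mul_one] at this
    exact this.symm
  -- the two elements of order three commute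
  have hrwr : Commute r (w * r * w) := by
    set r' := w * r * w with hr'
    have hAfix : ∀ a ∈ [26, 31, 43, 46, 49, 52], Commute r' (d.hom (M64.of a)) := by
      intro a ha
      have := hswapc _ _ (hr_fix a ha)
      rwa [show w * (w * d.hom (M64.of a) * w) * w = w * w * d.hom (M64.of a) * (w * w) by group, hww, one_mul,
        mul_one] at this
    have hrA : ∀ a ∈ [26, 31, 43, 46, 49, 52], ∃ a' ∈ [26, 31, 43, 46, 49, 52], ∃ t : Bool,
        r⁻¹ * d.hom (M64.of a) * r = AltEightSpModel.pw d.z t * d.hom (M64.of a') := by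
      intro a ha
      simp only [List.mem_cons, List.not_mem_nil, or_false] at ha
      have hrot : ∀ p q : ℕ, q < 64 → p < 64 → (r * d.hom (M64.of p) * r⁻¹ = d.hom (M64.of q) ∨
          r * d.hom (M64.of p) * r⁻¹ = d.z * d.hom (M64.of q)) →
          ∃ t : Bool, r⁻¹ * d.hom (M64.of q) * r = AltEightSpModel.pw d.z t * d.hom (M64.of p) := by
        intro p q _ _ hpq
        rcases hpq with e | e
        · refine ⟨false, ?_⟩
          rw [← e]; simp [AltEightSpModel.pw, mul_assoc]
        · refine ⟨true, ?_⟩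
          have : d.hom (M64.of q) = d.z * (r * d.hom (M64.of p) * r⁻¹) := by
            rw [e, ← mul_assoc, hzz, one_mul]
          rw [this, ← mul_assoc r⁻¹, hz r⁻¹]
          simp [AltEightSpModel.pw, mul_assoc]
      have hrot3 : ∀ p q s : ℕ, (r * d.hom (M64.of p) * r⁻¹ = d.hom (M64.of q) ∨
          r * d.hom (M64.of p) * r⁻¹ = d.z * d.hom (M64.of q)) → (r * d.hom (M64.of q) * r⁻¹ = d.hom (M64.of s) ∨
          r * d.hom (M64.of q) * r⁻¹ = d.z * d.hom (M64.of s)) →
          ∃ t : Bool, r⁻¹ * d.hom (M64.of p) * r = AltEightSpModel.pw d.z t * d.hom (M64.of s) := by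
        intro p q s h1 h2
        have e : r⁻¹ * d.hom (M64.of p) * r = r * (r * d.hom (M64.of p) * r⁻¹) * r⁻¹ := by
          have hr2 : r⁻¹ = r * r := inv_eq_of_mul_eq_one_right (by rw [← pow_two, ← pow_succ', hr3])
          conv_lhs => rw [hr2]
          rw [show r * r * d.hom (M64.of p) * r = r * (r * d.hom (M64.of p) * r⁻¹) * (r * r) by group,
            ← hr2]
        have hrz : ∀ x : K, r * (d.z * x) * r⁻¹ = d.z * (r * x * r⁻¹) := fun x => by
          rw [← mul_assoc r, hz r]; group
        rcases h1 with h1 | h1 <;> rcases h2 with h2 | h2 <;> rw [e, h1]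
        · exact ⟨false, by rw [h2]; simp [AltEightSpModel.pw]⟩
        · exact ⟨true, by rw [h2]; simp [AltEightSpModel.pw]⟩
        · exact ⟨true, by rw [hrz, h2]; simp [AltEightSpModel.pw]⟩
        · exact ⟨false, by rw [hrz, h2, ← mul_assoc, hzz]; simp [AltEightSpModel.pw]⟩
      have h46 : d.hom (M64.of 46) = d.z * d.hom (M64.of 43) := by
        rw [← hz5]; exact (hom_mul_lab d (by norm_num) (by norm_num) (by norm_num) (by decide +kernel)).symm
      have h52 : d.hom (M64.of 52) = d.z * d.hom (M64.of 49) := by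
        rw [← hz5]; exact (hom_mul_lab d (by norm_num) (by norm_num) (by norm_num) (by decide +kernel)).symm
      have h1 := hmove (26, 43) (by simp [moves])
      have h2 := hmove (43, 49) (by simp [moves])
      obtain ⟨t, ht⟩ := hrot 26 43 (by norm_num) (by norm_num) h1
      obtain ⟨t', ht'⟩ := hrot 43 49 (by norm_num) (by norm_num) h2
      have hpush : ∀ (x : K), r⁻¹ * (d.z * x) * r = d.z * (r⁻¹ * x * r) := fun x => by
        rw [← mul_assoc r⁻¹, hz r⁻¹]; group
      have h31 : d.hom (M64.of 31) = d.z * d.hom (M64.of 26) := by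
        rw [← hz5]; exact (hom_mul_lab d (by norm_num) (by norm_num) (by norm_num) (by decide +kernel)).symm
      rcases ha with rfl | rfl | rfl | rfl | rfl | rfl
      · obtain ⟨t, ht⟩ := hrot3 26 43 49 h1 h2
        exact ⟨49, by simp, t, ht⟩
      · obtain ⟨t, ht⟩ := hrot3 26 43 49 h1 h2
        exact ⟨49, by simp, !t, by rw [h31, hpush, ht]; cases t <;> simp [AltEightSpModel.pw, ← mul_assoc, hzz]⟩
      · exact ⟨26, by simp, t, ht⟩
      · exact ⟨26, by simp, !t, by rw [h46, hpush, ht]; cases t <;> simp [AltEightSpModel.pw, ← mul_assoc, hzz]⟩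
      · exact ⟨43, by simp, t', ht'⟩
      · exact ⟨43, by simp, !t', by rw [h52, hpush, ht']; cases t' <;> simp [AltEightSpModel.pw, ← mul_assoc, hzz]⟩
    set c := r' * r * r'⁻¹ * r⁻¹ with hcdef
    have hcc : c ∈ centralizer (Cfsg.pCore 2 K : Set K) := by
      intro q hq
      obtain ⟨y, rfl⟩ := core_le d hq
      have hgen : ((members mQ).all fun m => ([0, 5, 26, 31, 43, 46, 49, 52].any fun a =>
          [0, 5, 27, 33, 30, 36, 58, 63].any fun b => mulN a b == m)) = true := by decide +kernel
      simp only [List.all_eq_true, List.any_eq_true, beq_iff_eq] at hgen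
      obtain ⟨a, ha, b, hb, e⟩ := hgen _ (lab_mem y ((hQ y).1 hq))
      have hab : a < 64 ∧ b < 64 := by
        simp only [List.mem_cons, List.not_mem_nil, or_false] at ha hb
        omega
      have hy : d.hom y = d.hom (M64.of a) * d.hom (M64.of b) := by
        rw [← map_mul, hom_eq d, M64.mul_lab, M64.of_lab_val hab.1, M64.of_lab_val hab.2, e]
      rw [hy]
      have h05 : ∀ m : ℕ, m = 0 ∨ m = 5 → ∀ x : K, Commute x (d.hom (M64.of m)) := by
        rintro m (rfl | rfl) x
        · rw [show d.hom (M64.of 0) = 1 from map_one d.hom]; exact Commute.one_right x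
        · rw [hz5]; exact (hz_comm x).symm
      have hca : Commute c (d.hom (M64.of a)) := by
        simp only [List.mem_cons, List.not_mem_nil, or_false] at ha
        rcases ha with e | e | ha
        · exact h05 a (Or.inl e) c
        · exact h05 a (Or.inr e) c
        have ha' : a ∈ [26, 31, 43, 46, 49, 52] := by simp only [List.mem_cons, List.not_mem_nil, or_false]; exact ha
        obtain ⟨a', ha'', t, ht⟩ := hrA a ha'
        have h1 : Commute r' (r⁻¹ * d.hom (M64.of a) * r) := by
          rw [ht]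
          refine Commute.mul_right ?_ (hAfix a' ha'')
          cases t
          exacts [Commute.one_right r', (hz_comm r').symm]
        have h2 : Commute r'⁻¹ (r⁻¹ * d.hom (M64.of a) * r) := h1.inv_left
        have h3 := hAfix a ha'
        refine mul_inv_eq_iff_eq_mul.1 ?_
        calc c * d.hom (M64.of a) * c⁻¹ =
            r' * r * (r'⁻¹ * (r⁻¹ * d.hom (M64.of a) * r)) * r' * r⁻¹ * r'⁻¹ := by rw [hcdef]; group
          _ = r' * d.hom (M64.of a) * r'⁻¹ := by rw [h2.eq]; group
          _ = d.hom (M64.of a) := by rw [h3.eq, mul_inv_cancel_right]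
      have hcb : Commute c (d.hom (M64.of b)) := by
        simp only [List.mem_cons, List.not_mem_nil, or_false] at hb
        rcases hb with e | e | hb
        · exact h05 b (Or.inl e) c
        · exact h05 b (Or.inr e) c
        have hb' : b ∈ [27, 33, 30, 36, 58, 63] := by simp only [List.mem_cons, List.not_mem_nil, or_false]; exact hb
        -- `r` fixes the second factor, which `r'` normalises modulo the first
        have h1 : Commute r (d.hom (M64.of b)) := mul_inv_eq_iff_eq_mul.1 (hBfix b hb')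
        have h2 : Commute r (r'⁻¹ * d.hom (M64.of b) * r') := by
          have hBA : ([27, 33, 30, 36, 58, 63].all fun n =>
              ([26, 31, 43, 46, 49, 52].contains (conjN 2 n))) = true := by decide +kernel
          simp only [List.all_eq_true, List.contains_iff_mem] at hBA
          have hb64 : b < 64 ∧ conjN 2 b < 64 := by
            have hh := hBA b hb'
            simp only [List.mem_cons, List.not_mem_nil, or_false] at hh hb'
            omega
          have hwb : w * d.hom (M64.of b) * w = d.hom (M64.of (conjN 2 b)) := by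
            rw [hw, ← map_mul, ← map_mul, hom_eq d, M64.mul_lab, M64.mul_lab, M64.of_lab_val hb64.1,
              M64.of_lab_val hb64.2, M64.of_lab_val (show 2 < 64 by norm_num), conjN,
              show invN 2 = 2 by decide +kernel]
          have hr'i : r'⁻¹ = w * r⁻¹ * w := by rw [hr', mul_inv_rev, mul_inv_rev, hwinv]; group
          have e : r'⁻¹ * d.hom (M64.of b) * r' = w * (r⁻¹ * d.hom (M64.of (conjN 2 b)) * r) * w := by
            rw [hr'i, hr', ← hwb]; group
          obtain ⟨a', ha', t, ht⟩ := hrA _ (hBA b hb')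
          rw [e, ht, show w * (AltEightSpModel.pw d.z t * d.hom (M64.of a')) * w =
            AltEightSpModel.pw d.z t * (w * d.hom (M64.of a') * w) by
              cases t <;> simp [AltEightSpModel.pw, ← mul_assoc, hz w]]
          refine Commute.mul_right ?_ (hr_fix a' ha')
          cases t
          exacts [Commute.one_right r, (hz_comm r).symm]
        refine mul_inv_eq_iff_eq_mul.1 ?_
        calc c * d.hom (M64.of b) * c⁻¹ =
            r' * (r * (r'⁻¹ * (r⁻¹ * d.hom (M64.of b) * r) * r') * r⁻¹) * r'⁻¹ := by rw [hcdef]; group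
          _ = r' * (r'⁻¹ * d.hom (M64.of b) * r') * r'⁻¹ := by
            rw [show r⁻¹ * d.hom (M64.of b) * r = d.hom (M64.of b) by rw [mul_assoc, ← h1.eq, inv_mul_cancel_left],
              h2.eq, mul_inv_cancel_right]
          _ = d.hom (M64.of b) := by group
      exact ((hca.mul_right hcb).eq).symm
    have hcQ := hc hcc
    obtain ⟨y, hy⟩ := core_le d hcQ
    have hyQ : inMask mQ y := (hQ y).1 (hy ▸ hcQ)
    have hcz : c = 1 ∨ c = d.z := by
      have hcen : ((members mQ).all fun x => x == 0 || x == 5 || (members mQ).any fun y => !cmB y x) = true := by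
        decide +kernel
      simp only [List.all_eq_true, Bool.or_eq_true, List.any_eq_true, beq_iff_eq, Bool.not_eq_true'] at hcen
      rcases hcen _ (lab_mem y hyQ) with (e | e) | ⟨m, hm, hmn⟩
      · exact Or.inl (by rw [← hy, ← map_one d.hom, hom_eq d, e, M64.one_lab])
      · exact Or.inr (by rw [← hy, Emb.z, hom_eq d, e, M64.z_lab])
      · exfalso
        obtain ⟨hm64, hmQ⟩ := mem_members hm
        have h1 := hcc (d.hom (M64.of m)) ((hQ _).2 ((inMask_of hm64).2 hmQ))
        rw [← hy, ← map_mul, ← map_mul] at h1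
        have h2 := M64.cmB_iff.2 (d.inj h1)
        rw [M64.of_lab_val hm64, hmn] at h2
        exact Bool.noConfusion h2
    have hconj : r' * r * r'⁻¹ = c * r := by rw [hcdef, inv_mul_cancel_right]
    have hcr : Commute c r := by
      rcases hcz with e | e <;> rw [e]
      exacts [Commute.one_left r, hz_comm r]
    have hc3 : c ^ 3 = 1 := by
      have : (c * r) ^ 3 = 1 := by rw [← hconj, conj_pow, hr3, mul_one, mul_inv_cancel]
      rwa [hcr.mul_pow, hr3, mul_one] at this
    have hc1 : c = 1 :=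
      eq_one_of_odd Cores.pCore_isPGroup hcQ ((by decide : Odd 3).of_dvd_nat (orderOf_dvd_of_pow_eq_one hc3))
    rw [hc1, one_mul] at hconj
    exact (mul_inv_eq_iff_eq_mul.1 hconj).symm
  have hS : AltEightSpModel.SLData i j r d.z :=
    { ii := hi2, jj := hj2, zz := hzz, ji := hji2, r3 := hr3
      ri := mul_inv_eq_iff_eq_mul.1 hri
      rj := mul_inv_eq_iff_eq_mul.1 hrj
      zi := (hz i).symm, zj := (hz j).symm, zr := (hz r).symm }
  obtain ⟨φ, hφ, hφz⟩ := AltEightSpModel.exists_hom hS hww hwz (PGroups.SmallExtraspecial.two_iff.1 d.z_order).2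
    hiwi hiwr hrwi hrwr
  exact ⟨MulEquiv.ofBijective φ ((Nat.bijective_iff_injective_and_card _).2
    ⟨hφ, by rw [H31.UFour.M.card_M, h.card]⟩), hφz⟩

end Cfsg.Agent.H87.AltEightLocal
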