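import Mathlib
import Cfsg.Agent.H87.RankOne

/-! Basic facts on sets of abstract root subgroups. -/

namespace Cfsg.Agent.H87

open Subgroup
open scoped commutatorElement

variable {G : Type*} [Group G] {S : Set (Subgroup G)}

theorem commute_of_bot {A B : Subgroup G} (h : ⁅A, B⁆ = ⊥) {a b : G} (ha : a ∈ A) (hb : b ∈ B) :
    a * b = b * a := by
  have := commutator_mem_commutator ha hb
  rw [h, mem_bot, commutatorElement_eq_one_iff_mul_comm] at this
  exact this

theorem bot_of_commute {A B : Subgroup G} (h : ∀ a ∈ A, ∀ b ∈ B, a * b = b * a) : ⁅A, B⁆ = ⊥ := by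
  rw [eq_bot_iff, commutator_le]
  intro a ha b hb
  rw [mem_bot, commutatorElement_eq_one_iff_mul_comm]
  exact h a ha b hb

theorem commute_of_mem (hS : Cfsg.IsRootSubgroupSet S) {A : Subgroup G} (hA : A ∈ S) {a b : G}
    (ha : a ∈ A) (hb : b ∈ A) : a * b = b * a := by
  haveI := hS.commutative A hA
  exact congrArg Subtype.val (IsMulCommutative.is_comm.comm (⟨a, ha⟩ : A) ⟨b, hb⟩)

theorem conjBy_eq_of_commute {E : Subgroup G} {g : G} (h : ∀ e ∈ E, g * e = e * g) :
    Cfsg.conjBy E g = E := by
  exact conjBy_eq_self_iff.2 (centralizer_le_normalizer (E : Set G)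
    (mem_centralizer_iff.2 fun e he => (h e he).symm))

theorem exists_partner {A : Subgroup G} (hA : ¬ Cfsg.IsIsolatedIn (Cfsg.FAdj S) S A) (hAS : A ∈ S) :
    ∃ B ∈ S, Cfsg.IsRankOnePair A B := by
  by_contra hcon
  push Not at hcon
  refine hA ⟨hAS, fun B => ⟨fun h => hcon B h.2.1 h.2.2, fun h => hcon B h.1 (rankOne_symm h.2.2)⟩⟩

/-- An element of a member commuting with a nontrivial element of `A` cannot be the partner case. -/
theorem eq_one_of_rankOne_of_commute {A B : Subgroup G} (h : Cfsg.IsRankOnePair A B) {a b : G}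
    (ha : a ∈ A) (hb : b ∈ B) (hc : a * b = b * a) (ha1 : a ≠ 1) : b = 1 := by
  have := eq_left_of_commute h ha ha1 (mem_sup_right hb) hc
  exact eq_one_of_fix (rankOne_symm h) hb this

/-- If `z` centralizes the rank one group `⟨A, B⟩` and `z a` lies in a member `E`, then `E = A` and `z = 1`. -/
theorem eq_of_mul_mem (hS : Cfsg.IsRootSubgroupSet S) {A B E : Subgroup G} (hA : A ∈ S) (hBS : B ∈ S)
    (hE : E ∈ S) (hAB : Cfsg.IsRankOnePair A B) {z a : G}
    (hz : z ∈ centralizer ((A ⊔ B : Subgroup G) : Set G)) (ha : a ∈ A) (ha1 : a ≠ 1) (hza : z * a ∈ E) :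
    E = A ∧ z = 1 := by
  have hzc : ∀ x ∈ A ⊔ B, x * z = z * x := fun x hx => mem_centralizer_iff.1 hz x hx
  have hza1 : z * a ≠ 1 := by
    intro e
    obtain ⟨b, hb, hb1⟩ := B.bot_or_exists_ne_one.resolve_left (right_ne_bot hAB)
    apply hb1
    refine eq_one_of_rankOne_of_commute hAB ha hb ?_ ha1
    have h1 := hzc b (mem_sup_right hb)
    rw [eq_inv_of_mul_eq_one_left e] at h1
    have h2 := (Commute.inv_right_iff (a := b) (b := a)).1 h1
    exact h2.eq.symm
  have hE1 : ∀ x ∈ A, z * a * x = x * (z * a) := by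
    intro x hx
    rw [mul_assoc, commute_of_mem hS hA ha hx, ← mul_assoc, ← hzc x (mem_sup_left hx), mul_assoc]
  have hAE : ⁅A, E⁆ = ⊥ := by
    rcases hS.pair A hA E hE with h | h | h
    · exact h
    · obtain ⟨x, hx, hx1⟩ := A.bot_or_exists_ne_one.resolve_left (left_ne_bot h)
      exact absurd (eq_one_of_rankOne_of_commute h hx hza (hE1 x hx).symm hx1) hza1
    · rw [← h.2.2.2 (z * a) hza hza1, eq_bot_iff, closure_le]
      rintro _ ⟨x, hx, rfl⟩
      simp [← hE1 x hx, mul_assoc]
  have hzb : ∀ b ∈ B, (z * a) * b * (z * a)⁻¹ = a * b * a⁻¹ := by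
    intro b hb
    have : a * b * a⁻¹ ∈ A ⊔ B :=
      mul_mem (mul_mem (mem_sup_left ha) (mem_sup_right hb)) (inv_mem (mem_sup_left ha))
    calc (z * a) * b * (z * a)⁻¹ = z * (a * b * a⁻¹) * z⁻¹ := by group
      _ = (a * b * a⁻¹) * z * z⁻¹ := by rw [hzc _ this]
      _ = a * b * a⁻¹ := by group
  have main : E = A := by
    rcases hS.pair E hE B hBS with h | h | h
    · exfalso
      obtain ⟨b, hb, hb1⟩ := B.bot_or_exists_ne_one.resolve_left (right_ne_bot hAB)
      apply hb1
      refine eq_one_of_rankOne_of_commute hAB ha hb ?_ ha1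
      have := hzb b hb
      rw [commute_of_bot h hza hb, mul_inv_cancel_right] at this
      exact (eq_mul_inv_iff_mul_eq.1 this).symm
    · obtain ⟨b', hb', hb1', e⟩ := exists_conjBy_left h hza hza1
      have e2 : Cfsg.conjBy B (z * a) = Cfsg.conjBy B a := by
        rw [conjBy_mul]
        apply conjBy_eq_self_iff.2
        rw [mem_normalizer_iff]
        intro x
        have hxa : ∀ w ∈ Cfsg.conjBy B a, z * w * z⁻¹ = w := by
          intro w hw
          have : w ∈ A ⊔ B := by
            rw [mem_conjBy] at hw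
            have := mul_mem (mul_mem (mem_sup_left (T := B) ha) (mem_sup_right (S := A) hw))
              (inv_mem (mem_sup_left (T := B) ha))
            simpa [mul_assoc] using this
          rw [← hzc w this, mul_inv_cancel_right]
        constructor
        · intro hx; rw [hxa x hx]; exact hx
        · intro hx
          have h1 := hxa _ hx
          have : z * x * z⁻¹ = x := mul_left_cancel (mul_right_cancel h1)
          rwa [this] at hx
      obtain ⟨b, hb, -, e3⟩ := exists_conjBy_left hAB ha ha1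
      rw [e2, e3] at e
      have e4 : E = Cfsg.conjBy A (b'⁻¹ * b) := by rw [conjBy_mul, e, conjBy_inv_conjBy]
      have hmem : b'⁻¹ * b ∈ B := mul_mem (inv_mem hb') hb
      rw [e4]
      refine eq_left_of_fix hAB ha ha1 ⟨_, mem_sup_right hmem, rfl⟩ ?_
      rw [← e4]
      ext x
      rw [mem_conjBy]
      constructor
      · intro hx
        have := commute_of_bot hAE ha hx
        have hx' : a * (a⁻¹ * x * a) * a⁻¹ = x := by group
        rw [commute_of_bot hAE ha hx, mul_inv_cancel_right] at hx'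
        rw [← hx']; exact hx
      · intro hx
        rw [mul_assoc, ← commute_of_bot hAE ha hx, inv_mul_cancel_left]
        exact hx
    · exfalso
      obtain ⟨b, hb, hb1⟩ := B.bot_or_exists_ne_one.resolve_left (right_ne_bot hAB)
      have hc : a * b * a⁻¹ * b⁻¹ ∈ ⁅E, B⁆ := by
        have := commutator_mem_commutator hza hb
        rw [commutatorElement_def, hzb b hb] at this
        exact this
      have h1 := h.2.1 _ hc (z * a) (mem_sup_left hza)
      have hcm : a * b * a⁻¹ * b⁻¹ ∈ A ⊔ B :=
        mul_mem (mul_mem (mul_mem (mem_sup_left ha) (mem_sup_right hb)) (inv_mem (mem_sup_left ha)))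
          (inv_mem (mem_sup_right hb))
      set c := a * b * a⁻¹ * b⁻¹ with hcdef
      have h2 : c * a = a * c := by
        have h1' : z * (c * a) = z * (a * c) := by
          rw [← mul_assoc, ← hzc c hcm, mul_assoc, h1, mul_assoc]
        exact mul_left_cancel h1'
      have h3 : a * (b * a⁻¹ * b⁻¹) = (b * a⁻¹ * b⁻¹) * a := by
        have e : b * a⁻¹ * b⁻¹ = a⁻¹ * c := by rw [hcdef]; group
        rw [e, mul_assoc a⁻¹ c a, h2]; group
      have h4 : b * a⁻¹ * b⁻¹ ∈ Cfsg.conjBy A b := conj_mem_conjBy b (inv_mem ha)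
      have h5 : b * a⁻¹ * b⁻¹ ≠ 1 := by
        intro e
        apply ha1
        simpa using e
      -- the only fixed point of `b a⁻¹ b⁻¹` is `A^b`
      have hfix : Cfsg.conjBy A (b * a⁻¹ * b⁻¹) = A :=
        eq_left_of_commute hAB ha ha1
          (mul_mem (mul_mem (mem_sup_right hb) (inv_mem (mem_sup_left ha))) (inv_mem (mem_sup_right hb))) h3
      have h6 : Cfsg.conjBy A b⁻¹ = A := by
        refine eq_left_of_fix hAB (inv_mem ha) (by simpa using ha1) ⟨_, mem_sup_right (inv_mem hb), rfl⟩ ?_
        rw [← conjBy_mul]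
        have := congrArg (fun C => Cfsg.conjBy C b⁻¹) hfix
        simpa [← conjBy_mul, mul_assoc] using this
      exact hb1 (inv_eq_one.1 (eq_one_of_fix (rankOne_symm hAB) (inv_mem hb) h6))
  refine ⟨main, ?_⟩
  subst main
  have hzA : z ∈ E := by simpa using mul_mem hza (inv_mem ha)
  refine eq_one_of_fix hAB hzA (conjBy_eq_self_iff.2 ?_)
  rw [mem_normalizer_iff]
  intro x
  constructor
  · intro hx
    rw [← hzc x (mem_sup_right hx), mul_inv_cancel_right]; exact hx
  · intro hx
    have h1 := hzc _ (mem_sup_right hx)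
    have h2 : z * x * z⁻¹ = x := by
      have h1' : z * x = z * (z * x * z⁻¹) := by rw [← h1]; group
      exact (mul_left_cancel h1').symm
    rwa [h2] at hx

/-- A member with a partner meets every other member trivially. -/
theorem eq_of_mem_of_mem (hS : Cfsg.IsRootSubgroupSet S) {A B E : Subgroup G} (hA : A ∈ S) (hB : B ∈ S)
    (hE : E ∈ S) (hAB : Cfsg.IsRankOnePair A B) {a : G} (ha : a ∈ A) (ha1 : a ≠ 1) (haE : a ∈ E) :
    E = A :=
  (eq_of_mul_mem hS hA hB hE hAB (one_mem _) ha ha1 (by simpa using haE)).1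

end Cfsg.Agent.H87
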