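import Mathlib
import Cfsg.Agent.H87.RootBasic

/-! Rank one pairs and commutator pairs in a set of abstract root subgroups; components of the graph of pairs. -/

namespace Cfsg.Agent.H87

open Subgroup
open scoped commutatorElement

variable {G : Type*} [Group G] {S : Set (Subgroup G)}

theorem conjBy_sup (A B : Subgroup G) (g : G) :
    Cfsg.conjBy (A ⊔ B) g = Cfsg.conjBy A g ⊔ Cfsg.conjBy B g := Subgroup.map_sup _ _ _

theorem rankOnePair_conj {A B : Subgroup G} (h : Cfsg.IsRankOnePair A B) (g : G) :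
    Cfsg.IsRankOnePair (Cfsg.conjBy A g) (Cfsg.conjBy B g) := by
  have key : ∀ {C D : Subgroup G}, Cfsg.RankOneCondition C D →
      Cfsg.RankOneCondition (Cfsg.conjBy C g) (Cfsg.conjBy D g) := by
    intro C D hc a ha ha1
    rw [mem_conjBy] at ha
    obtain ⟨b, hb, hb1, e⟩ := hc _ ha (fun e => ha1 (by
      have := congrArg (fun x => g * x * g⁻¹) e
      simpa [mul_assoc] using this))
    refine ⟨g * b * g⁻¹, conj_mem_conjBy g hb, fun e' => hb1 (by simpa using e'), ?_⟩
    rw [← conjBy_mul, ← conjBy_mul, show (g * b * g⁻¹)⁻¹ * g = g * b⁻¹ by group,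
      show a⁻¹ * g = g * (g⁻¹ * a * g)⁻¹ by group, conjBy_mul, conjBy_mul, e]
  haveI := h.nilpotent_left
  haveI := h.nilpotent_right
  exact ⟨fun e => h.ne (conjBy_injective g e),
    Group.nilpotent_of_surjective _ (MonoidHom.subgroupMap_surjective (MulAut.conj g).toMonoidHom A),
    Group.nilpotent_of_surjective _ (MonoidHom.subgroupMap_surjective (MulAut.conj g).toMonoidHom B),
    key h.cond_left, key h.cond_right⟩

/-- Two different unipotent subgroups generate the rank one group. -/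
theorem sup_eq_of_mem_of_mem {A B C D : Subgroup G} (h : Cfsg.IsRankOnePair A B)
    (hC : C ∈ Cfsg.unipotentSubgroups A B) (hD : D ∈ Cfsg.unipotentSubgroups A B) (hne : C ≠ D) :
    C ⊔ D = A ⊔ B := by
  obtain ⟨x, hx, e1, e2⟩ := exists_pair_transport h hC hD hne
  rw [← e1, ← e2, ← conjBy_sup]
  exact conjBy_of_mem hx

theorem unipotent_le {A B C : Subgroup G} (hC : C ∈ Cfsg.unipotentSubgroups A B) : C ≤ A ⊔ B := by
  obtain ⟨x, hx, rfl⟩ := hC
  intro y hy
  rw [mem_conjBy] at hy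
  simpa [mul_assoc] using mul_mem (mul_mem hx (mem_sup_left (T := B) hy)) (inv_mem hx)

theorem rankOne_of_mem_ne {A B C : Subgroup G} (h : Cfsg.IsRankOnePair A B)
    (hC : C ∈ Cfsg.unipotentSubgroups A B) (hne : C ≠ A) : Cfsg.IsRankOnePair A C := by
  obtain ⟨a, ha, rfl⟩ := exists_of_mem_ne h hC hne
  have := rankOnePair_conj h a
  rwa [conjBy_of_mem ha] at this

/-- An element fixing all unipotent subgroups centralizes the rank one group. -/
theorem centralizes_of_fixes {A B : Subgroup G} (h : Cfsg.IsRankOnePair A B) {z : G}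
    (hz : ∀ C ∈ Cfsg.unipotentSubgroups A B, Cfsg.conjBy C z = C) :
    z ∈ centralizer ((A ⊔ B : Subgroup G) : Set G) := by
  have key : ∀ {C D : Subgroup G}, Cfsg.IsRankOnePair C D →
      (∀ E ∈ Cfsg.unipotentSubgroups C D, Cfsg.conjBy E z = E) → ∀ c ∈ C, c * z = z * c := by
    intro C D hp hf c hc
    have hD : Cfsg.conjBy D z = D := hf D (right_mem hp)
    have h1 : z * c * z⁻¹ * c⁻¹ ∈ C :=
      mul_mem (by simpa [hf C (left_mem C D)] using conj_mem_conjBy z hc) (inv_mem hc)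
    have h2 : Cfsg.conjBy D (z * c * z⁻¹ * c⁻¹) = D := by
      have h3 : Cfsg.conjBy (Cfsg.conjBy D c⁻¹) z⁻¹ = Cfsg.conjBy D c⁻¹ :=
        conjBy_inv_eq_self (hf _ (conjBy_right_mem hp (inv_mem hc)))
      rw [show z * c * z⁻¹ * c⁻¹ = z * (c * (z⁻¹ * c⁻¹)) by group, conjBy_mul, conjBy_mul,
        conjBy_mul, h3, conjBy_conjBy_inv, hD]
    exact (mul_inv_eq_iff_eq_mul.1 (mul_inv_eq_one.1 (eq_one_of_fix hp h1 h2))).symm
  have hA := key h hz
  have hB := key (rankOne_symm h) (fun E hE => hz E (unipotent_comm h ▸ hE))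
  have hle : A ⊔ B ≤ centralizer {z} := sup_le
    (fun x hx => mem_centralizer_singleton_iff.2 (hA x hx))
    (fun x hx => mem_centralizer_singleton_iff.2 (hB x hx))
  exact mem_centralizer_iff.2 fun x hx => mem_centralizer_singleton_iff.1 (hle hx)

/-- The centralizer of `A` in the rank one group is `A` times the centre. -/
theorem exists_decomp_of_commute {A B : Subgroup G} (h : Cfsg.IsRankOnePair A B) {g : G}
    (hg : g ∈ A ⊔ B) (hc : ∀ a ∈ A, g * a = a * g) (hab : ∀ x ∈ A, ∀ y ∈ A, x * y = y * x) :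
    ∃ a ∈ A, g * a⁻¹ ∈ centralizer ((A ⊔ B : Subgroup G) : Set G) := by
  have hfix : Cfsg.conjBy A g = A := conjBy_eq_of_commute hc
  have hne : Cfsg.conjBy B g ≠ A := fun e => h.ne (conjBy_injective g (hfix.trans e.symm))
  obtain ⟨a, ha, e⟩ := exists_of_mem_ne h (conjBy_mem_unipotent (right_mem h) hg) hne
  refine ⟨a, ha, centralizes_of_fixes h fun C hC => ?_⟩
  have hgA : ∀ x ∈ A, g * x = x * g := hc
  have hAA : Cfsg.conjBy A (g * a⁻¹) = A := by rw [conjBy_mul, conjBy_of_mem (inv_mem ha), hfix]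
  have hBB : Cfsg.conjBy B (g * a⁻¹) = B := by
    rw [show g * a⁻¹ = a⁻¹ * g from hgA _ (inv_mem ha), conjBy_mul, e, conjBy_inv_conjBy]
  rcases (unipotent_eq h).1 hC with rfl | ⟨x, hx, rfl⟩
  · exact hAA
  · rw [← conjBy_mul, mul_assoc, hgA _ (mul_mem (inv_mem ha) hx), conjBy_mul, e, ← conjBy_mul,
      mul_assoc, hab x hx a ha, inv_mul_cancel_left]

theorem comm_case_symm {A B : Subgroup G} (h : Cfsg.RootCommutatorCase S A B) :
    Cfsg.RootCommutatorCase S B A := by
  obtain ⟨h1, h2, h3, h4⟩ := h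
  refine ⟨commutator_comm A B ▸ h1, fun c hc x hx => h2 c (commutator_comm A B ▸ hc) x (sup_comm A B ▸ hx), ?_, ?_⟩
  · intro b hb hb1
    rw [commutator_comm B A, ← h4 b hb hb1, ← closure_inv ((fun a : G => a * b * a⁻¹ * b⁻¹) '' (A : Set G))]
    congr 1
    ext x
    simp only [Set.mem_image, Set.mem_inv, SetLike.mem_coe]
    constructor
    · rintro ⟨a, ha, rfl⟩; exact ⟨a, ha, by group⟩
    · rintro ⟨a, ha, e⟩; exact ⟨a, ha, by rw [← inv_inv x, ← e]; group⟩
  · intro a ha ha1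
    rw [commutator_comm B A, ← h3 a ha ha1, ← closure_inv ((fun b : G => a * b * a⁻¹ * b⁻¹) '' (B : Set G))]
    congr 1
    ext x
    simp only [Set.mem_image, Set.mem_inv, SetLike.mem_coe]
    constructor
    · rintro ⟨b, hb, rfl⟩; exact ⟨b, hb, by group⟩
    · rintro ⟨b, hb, e⟩; exact ⟨b, hb, by rw [← inv_inv x, ← e]; group⟩

theorem FAdj_symm {A B : Subgroup G} (h : Cfsg.FAdj S A B) : Cfsg.FAdj S B A :=
  ⟨h.2.1, h.1, rankOne_symm h.2.2⟩

theorem reach_symm {A B : Subgroup G} (h : Relation.ReflTransGen (Cfsg.FAdj S) A B) :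
    Relation.ReflTransGen (Cfsg.FAdj S) B A := by
  induction h with
  | refl => exact Relation.ReflTransGen.refl
  | tail _ hbc ih => exact (Relation.ReflTransGen.single (FAdj_symm hbc)).trans ih

section InS

variable (hS : Cfsg.IsRootSubgroupSet S)
include hS

theorem not_commute_of_comm {A B : Subgroup G} (h : Cfsg.RootCommutatorCase S A B) : ⁅A, B⁆ ≠ ⊥ :=
  hS.ne_bot _ h.1

/-- A member inside a rank one group together with one of its rank one partners is a unipotent subgroup. -/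
theorem mem_unipotent_of_le {A B C D : Subgroup G} (hA : A ∈ S) (hC : C ∈ S) (hD : D ∈ S)
    (hAB : Cfsg.IsRankOnePair A B) (hCD : Cfsg.IsRankOnePair C D) (hle : A ⊔ B ≤ C ⊔ D) :
    A ∈ Cfsg.unipotentSubgroups C D := by
  have hAY : A ≤ C ⊔ D := le_sup_left.trans hle
  rcases hS.pair A hA C hC with h | h | h
  · obtain ⟨a, ha, ha1⟩ := A.bot_or_exists_ne_one.resolve_left (left_ne_bot hAB)
    obtain ⟨c, hc, hz⟩ := exists_decomp_of_commute hCD (hAY ha) (fun x hx => commute_of_bot h ha hx)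
      (fun x hx y hy => commute_of_mem hS hC hx hy)
    rcases eq_or_ne c 1 with rfl | hc1
    · exfalso
      obtain ⟨b, hb, hb1⟩ := B.bot_or_exists_ne_one.resolve_left (right_ne_bot hAB)
      rw [inv_one, mul_one] at hz
      exact hb1 (eq_one_of_rankOne_of_commute hAB ha hb
        (mem_centralizer_iff.1 hz b (hle (mem_sup_right hb))).symm ha1)
    · rw [(eq_of_mul_mem hS hC hD hA hCD hz hc hc1 (by simpa using ha)).1]
      exact left_mem C D
  · obtain ⟨x, hx, e⟩ := right_mem (rankOne_symm h)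
    exact ⟨x, (sup_le le_sup_left hAY) hx, e⟩
  · exfalso
    obtain ⟨a, ha, ha1⟩ := A.bot_or_exists_ne_one.resolve_left (left_ne_bot hAB)
    apply not_commute_of_comm hS h
    rw [← h.2.2.1 a ha ha1, eq_bot_iff, closure_le]
    rintro _ ⟨c, hc, rfl⟩
    have hk : a * c * a⁻¹ * c⁻¹ ∈ ⁅A, C⁆ := commutator_mem_commutator ha hc
    have hkY : a * c * a⁻¹ * c⁻¹ ∈ C ⊔ D :=
      mul_mem (mul_mem (mul_mem (hAY ha) (mem_sup_left hc)) (inv_mem (hAY ha))) (inv_mem (mem_sup_left hc))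
    obtain ⟨c', hc', hz⟩ := exists_decomp_of_commute hCD hkY (fun x hx => h.2.1 _ hk x (mem_sup_right hx))
      (fun x hx y hy => commute_of_mem hS hC hx hy)
    rcases eq_or_ne c' 1 with rfl | hc1
    · rw [inv_one, mul_one] at hz
      rcases eq_or_ne c 1 with rfl | hc0
      · simp
      · exact (eq_of_mul_mem hS hC hD (hS.conj_mem C hC a) hCD hz hc hc0
          (by simpa using conj_mem_conjBy a hc)).2
    · exfalso
      have hKC := (eq_of_mul_mem hS hC hD h.1 hCD hz hc' hc1 (by simpa using hk)).1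
      apply not_commute_of_comm hS h
      apply bot_of_commute
      intro x hx y hy
      exact (h.2.1 y (hKC.symm ▸ hy) x (mem_sup_left hx)).symm

/-- A rank one pair has no commutator in `S`. -/
theorem commutator_notMem {A B : Subgroup G} (hA : A ∈ S) (hB : B ∈ S) (h : Cfsg.IsRankOnePair A B) :
    ⁅A, B⁆ ∉ S := by
  intro hK
  set K := ⁅A, B⁆ with hKdef
  have hnorm : ∀ x ∈ A ⊔ B, ∀ k ∈ K, x * k * x⁻¹ ∈ K := by
    have : A ⊔ B ≤ normalizer (K : Set G) := sup_le (normalizer_commutator_ge_left A B) (normalizer_commutator_ge_right A B)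
    intro x hx k hk
    exact ((mem_normalizer_iff.1 (this hx)) k).1 hk
  have hKY : K ≤ A ⊔ B := by
    rw [hKdef, commutator_le]
    intro a ha b hb
    exact mul_mem (mul_mem (mul_mem (mem_sup_left ha) (mem_sup_right hb)) (inv_mem (mem_sup_left ha)))
      (inv_mem (mem_sup_right hb))
  have hfix : ∀ {C D : Subgroup G}, Cfsg.IsRankOnePair C D → C ∈ S → C ≤ A ⊔ B → K ≤ C ⊔ D →
      ∀ k ∈ K, Cfsg.conjBy C k = C := by
    intro C D hCD hC hCY hKle k hk
    have hCnorm : ∀ c ∈ C, c * k * c⁻¹ ∈ K := fun c hc => hnorm c (hCY hc) k hk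
    obtain ⟨c, hc, hc1⟩ := C.bot_or_exists_ne_one.resolve_left (left_ne_bot hCD)
    rcases hS.pair C hC K hK with h' | h' | h'
    · exact eq_left_of_commute hCD hc hc1 (hKle hk) (commute_of_bot h' hc hk)
    · exfalso
      refine hc1 (eq_one_of_fix h' hc (conjBy_eq_self_iff.2 ?_))
      rw [mem_normalizer_iff]
      intro x
      refine ⟨fun hx => hnorm c (hCY hc) x hx, fun hx => ?_⟩
      simpa [mul_assoc] using hnorm _ (inv_mem (hCY hc)) _ hx
    · set w := c * k * c⁻¹ * k⁻¹ with hw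
      have hwm : w ∈ ⁅C, K⁆ := commutator_mem_commutator hc hk
      have hwk : w * k = k * w := h'.2.1 w hwm k (mem_sup_right hk)
      have hwY : w ∈ C ⊔ D := mul_mem (mul_mem (mul_mem (mem_sup_left hc) (hKle hk))
        (inv_mem (mem_sup_left hc))) (inv_mem (hKle hk))
      have hwA : Cfsg.conjBy C w = C :=
        eq_left_of_commute hCD hc hc1 hwY (h'.2.1 w hwm c (mem_sup_left hc)).symm
      refine eq_left_of_fix hCD hc hc1 ⟨k, hKle hk, rfl⟩ ?_
      have e : c * k = w * k * c := by rw [hw]; group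
      rw [← conjBy_mul, e, conjBy_mul, conjBy_of_mem hc, hwk, conjBy_mul, hwA]
  have hcen : ∀ k ∈ K, k ∈ centralizer ((A ⊔ B : Subgroup G) : Set G) := by
    intro k hk
    refine centralizes_of_fixes h fun C hC => ?_
    obtain ⟨x, hx, rfl⟩ := hC
    have h1 := hfix h hA le_sup_left hKY _ (by simpa using hnorm x⁻¹ (inv_mem hx) k hk)
    rw [← conjBy_mul, show k * x = x * (x⁻¹ * k * x) by group, conjBy_mul, h1]
  obtain ⟨a, ha, ha1⟩ := A.bot_or_exists_ne_one.resolve_left (left_ne_bot h)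
  obtain ⟨b, hb, hb1⟩ := B.bot_or_exists_ne_one.resolve_left (right_ne_bot h)
  have hk : a * b * a⁻¹ * b⁻¹ ∈ K := commutator_mem_commutator ha hb
  have := (eq_of_mul_mem hS hB hA (hS.conj_mem B hB a) (rankOne_symm h)
    (by rw [sup_comm]; exact hcen _ hk) hb hb1 (by simpa using conj_mem_conjBy a hb)).2
  exact hb1 (eq_one_of_rankOne_of_commute h ha hb (mul_inv_eq_iff_eq_mul.1 (mul_inv_eq_one.1 this)) ha1)

theorem comm_case_of_mem {A B : Subgroup G} (hA : A ∈ S) (hB : B ∈ S) (h : ⁅A, B⁆ ∈ S) :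
    Cfsg.RootCommutatorCase S A B := by
  rcases hS.pair A hA B hB with h' | h' | h'
  · exact absurd h' (hS.ne_bot _ h)
  · exact absurd h (commutator_notMem hS hA hB h')
  · exact h'

theorem not_rankOne_of_comm {A B : Subgroup G} (hA : A ∈ S) (hB : B ∈ S)
    (h : Cfsg.RootCommutatorCase S A B) : ¬ Cfsg.IsRankOnePair A B :=
  fun h' => commutator_notMem hS hA hB h' h.1

theorem comm_left_ne {A B : Subgroup G} (hA : A ∈ S) (h : Cfsg.RootCommutatorCase S A B) :
    ⁅A, B⁆ ≠ A := by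
  intro e
  apply not_commute_of_comm hS h
  apply bot_of_commute
  intro x hx y hy
  exact h.2.1 x (by rw [e]; exact hx) y (mem_sup_right hy)

/-- In a commutator pair, nontrivial elements do not commute if `A` has a rank one partner. -/
theorem eq_one_of_comm_of_commute {A B P : Subgroup G} (hA : A ∈ S) (hP : P ∈ S)
    (hAP : Cfsg.IsRankOnePair A P) (h : Cfsg.RootCommutatorCase S A B) {a b : G} (ha : a ∈ A)
    (ha1 : a ≠ 1) (hb : b ∈ B) (hc : a * b = b * a) : b = 1 := by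
  by_contra hb1
  have he : Cfsg.conjBy A b = A :=
    eq_of_mem_of_mem hS hA hP (hS.conj_mem A hA b) hAP ha ha1 (mem_conjBy_self_of_commute ha hc.symm)
  have hle : ⁅A, B⁆ ≤ A := by
    rw [← h.2.2.2 b hb hb1, closure_le]
    rintro _ ⟨x, hx, rfl⟩
    have : b * x⁻¹ * b⁻¹ ∈ A := by simpa [he] using conj_mem_conjBy b (inv_mem hx)
    show x * b * x⁻¹ * b⁻¹ ∈ A
    simpa [mul_assoc] using mul_mem hx this
  obtain ⟨k, hk, hk1⟩ := (⁅A, B⁆).bot_or_exists_ne_one.resolve_left (not_commute_of_comm hS h)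
  exact comm_left_ne hS hA h (eq_of_mem_of_mem hS hA hP h.1 hAP (hle hk) hk1 hk)

/-- Same, with the elements' roles exchanged. -/
theorem eq_one_of_comm_of_commute' {A B P : Subgroup G} (hA : A ∈ S) (hP : P ∈ S)
    (hAP : Cfsg.IsRankOnePair A P) (h : Cfsg.RootCommutatorCase S A B) {a b : G} (ha : a ∈ A)
    (hb1 : b ≠ 1) (hb : b ∈ B) (hc : a * b = b * a) : a = 1 := by
  by_contra ha1
  exact hb1 (eq_one_of_comm_of_commute hS hA hP hAP h ha ha1 hb hc)

/-- `b ↦ a b a⁻¹ b⁻¹` maps `B` onto the commutator. -/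
theorem exists_commutator_eq {A B : Subgroup G} (h : Cfsg.RootCommutatorCase S A B) {a : G}
    (ha : a ∈ A) (ha1 : a ≠ 1) {c : G} (hc : c ∈ ⁅A, B⁆) : ∃ b ∈ B, a * b * a⁻¹ * b⁻¹ = c := by
  rw [← h.2.2.1 a ha ha1] at hc
  induction hc using closure_induction with
  | mem x hx => exact hx
  | one => exact ⟨1, one_mem _, by group⟩
  | mul x y _ _ hx hy =>
    obtain ⟨b, hb, rfl⟩ := hx
    obtain ⟨b', hb', rfl⟩ := hy
    refine ⟨b * b', mul_mem hb hb', ?_⟩
    have := h.2.1 _ (commutator_mem_commutator ha hb') b (mem_sup_right hb)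
    rw [commutatorElement_def] at this
    calc a * (b * b') * a⁻¹ * (b * b')⁻¹
        = (a * b * a⁻¹ * b⁻¹) * (b * (a * b' * a⁻¹ * b'⁻¹) * b⁻¹) := by group
      _ = (a * b * a⁻¹ * b⁻¹) * (a * b' * a⁻¹ * b'⁻¹) := by rw [← this, mul_inv_cancel_right]
  | inv x _ hx =>
    obtain ⟨b, hb, rfl⟩ := hx
    refine ⟨b⁻¹, inv_mem hb, ?_⟩
    have := h.2.1 _ (commutator_mem_commutator ha (inv_mem hb)) b (mem_sup_right hb)
    rw [commutatorElement_def] at this
    have e : (a * b * a⁻¹ * b⁻¹) * (b * (a * b⁻¹ * a⁻¹ * b⁻¹⁻¹) * b⁻¹) = 1 := by group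
    rw [← this, mul_inv_cancel_right] at e
    exact eq_inv_of_mul_eq_one_right e

/-- Two members having rank one partners and commuting nontrivial elements commute. -/
theorem commute_of_elements {C D P : Subgroup G} (hC : C ∈ S) (hD : D ∈ S) (hP : P ∈ S)
    (hCP : Cfsg.IsRankOnePair C P) {c d : G} (hc : c ∈ C) (hc1 : c ≠ 1) (hd : d ∈ D) (hd1 : d ≠ 1)
    (hcd : c * d = d * c) : ⁅C, D⁆ = ⊥ := by
  rcases hS.pair C hC D hD with h | h | h
  · exact h
  · exact absurd (eq_one_of_rankOne_of_commute h hc hd hcd hc1) hd1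
  · exact absurd (eq_one_of_comm_of_commute hS hC hP hCP h hc hc1 hd hcd) hd1

/-- The key lemma on lines: a third member of the line through commuting `A`, `B` pairs with every
partner `D` of `A` not paired with `B`. -/
theorem rankOne_third {A B D E : Subgroup G} (hA : A ∈ S) (hB : B ∈ S) (hD : D ∈ S) (hE : E ∈ S)
    (hAD : Cfsg.IsRankOnePair A D) (hAB : ⁅A, B⁆ = ⊥) (hBD : ¬ Cfsg.IsRankOnePair B D)
    {a b : G} (ha : a ∈ A) (ha1 : a ≠ 1) (hb : b ∈ B) (hE' : a * b ∈ E) :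
    Cfsg.IsRankOnePair E D := by
  by_contra hED
  have hcomm : ∀ {F : Subgroup G}, F ∈ S → ¬ Cfsg.IsRankOnePair F D → ∀ f ∈ F, ∀ d ∈ D,
      (f * d * f⁻¹ * d⁻¹) * d = d * (f * d * f⁻¹ * d⁻¹) ∧
        (f * d * f⁻¹ * d⁻¹) * f = f * (f * d * f⁻¹ * d⁻¹) := by
    intro F hF hFD f hf d hd
    rcases hS.pair F hF D hD with h | h | h
    · rw [commute_of_bot h hf hd]; simp
    · exact absurd h hFD
    · exact ⟨h.2.1 _ (commutator_mem_commutator hf hd) d (mem_sup_right hd),
        h.2.1 _ (commutator_mem_commutator hf hd) f (mem_sup_left hf)⟩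
  obtain ⟨d, hd, hd1⟩ := D.bot_or_exists_ne_one.resolve_left (right_ne_bot hAD)
  have hbA : Cfsg.conjBy A b = A := conjBy_eq_of_commute fun x hx => (commute_of_bot hAB hx hb).symm
  have hADb : Cfsg.IsRankOnePair A (Cfsg.conjBy D b) := by
    have := rankOnePair_conj hAD b; rwa [hbA] at this
  obtain ⟨hk1, -⟩ := hcomm hB hBD b hb d hd
  obtain ⟨hm1, -⟩ := hcomm hE hED (a * b) hE' d hd
  set k := b * d * b⁻¹ * d⁻¹ with hk
  set m := (a * b) * d * (a * b)⁻¹ * d⁻¹ with hm
  have hkd : b * d * b⁻¹ = k * d := by rw [hk]; group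
  have e1 : k * d = (a⁻¹ * m * a) * (a⁻¹ * d * a) := by rw [hk, hm]; group
  have h2 : (b * d * b⁻¹) * (a⁻¹ * d * a) = (a⁻¹ * d * a) * (b * d * b⁻¹) := by
    rw [hkd, e1]
    have : (a⁻¹ * m * a) * (a⁻¹ * d * a) = (a⁻¹ * d * a) * (a⁻¹ * m * a) := by
      calc (a⁻¹ * m * a) * (a⁻¹ * d * a) = a⁻¹ * (m * d) * a := by group
        _ = a⁻¹ * (d * m) * a := by rw [hm1]
        _ = _ := by group
    exact (Commute.mul_left (this : Commute (a⁻¹ * m * a) (a⁻¹ * d * a)) (Commute.refl _)).eq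
  have h3 : (b * d * b⁻¹) * d = d * (b * d * b⁻¹) := by
    rw [hkd, ← mul_assoc d k d, ← hk1]
  have hne : b * d * b⁻¹ ≠ 1 := fun e => hd1 (by simpa using e)
  have hDb := hS.conj_mem D hD b
  have c1 : ⁅Cfsg.conjBy D b, D⁆ = ⊥ := commute_of_elements hS hDb hD hA (rankOne_symm hADb)
    (conj_mem_conjBy b hd) hne hd hd1 h3
  have c2 : ⁅Cfsg.conjBy D b, Cfsg.conjBy D a⁻¹⁆ = ⊥ := commute_of_elements hS hDb (hS.conj_mem D hD a⁻¹) hA
    (rankOne_symm hADb) (conj_mem_conjBy b hd) hne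
    (show a⁻¹ * d * a ∈ Cfsg.conjBy D a⁻¹ by simpa using conj_mem_conjBy a⁻¹ hd)
    (fun e => hd1 (by
      have := congrArg (fun x => a * x * a⁻¹) e
      simpa [mul_assoc] using this)) h2
  have hY : D ⊔ Cfsg.conjBy D a⁻¹ = A ⊔ D := by
    refine sup_eq_of_mem_of_mem hAD (right_mem hAD) (conjBy_right_mem hAD (inv_mem ha)) fun e => ?_
    exact ha1 (inv_eq_one.1 (eq_one_of_fix hAD (inv_mem ha) e.symm))
  have hle : D ⊔ Cfsg.conjBy D a⁻¹ ≤ centralizer {b * d * b⁻¹} := sup_le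
    (fun x hx => mem_centralizer_singleton_iff.2 (commute_of_bot c1 (conj_mem_conjBy b hd) hx).symm)
    (fun x hx => mem_centralizer_singleton_iff.2 (commute_of_bot c2 (conj_mem_conjBy b hd) hx).symm)
  have := mem_centralizer_singleton_iff.1 (hle (hY.symm ▸ mem_sup_left ha))
  exact hne (eq_one_of_rankOne_of_commute hADb ha (conj_mem_conjBy b hd) this ha1)

/-- Conjugation by an element of a member keeps a non-isolated member in its component. -/
theorem conj_reach {A B D : Subgroup G} (hA : A ∈ S) (hB : B ∈ S) (hD : D ∈ S)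
    (hAD : Cfsg.IsRankOnePair A D) {b : G} (hb : b ∈ B) :
    Relation.ReflTransGen (Cfsg.FAdj S) A (Cfsg.conjBy A b) := by
  rcases eq_or_ne b 1 with rfl | hb1
  · rw [conjBy_one]
  have hAb := hS.conj_mem A hA b
  rcases hS.pair A hA B hB with h | h | h
  · rw [conjBy_eq_of_commute fun x hx => (commute_of_bot h hx hb).symm]
  · obtain ⟨a, ha, ha1, e⟩ := exists_conjBy_right h hb hb1
    refine Relation.ReflTransGen.single ⟨hA, hAb, ?_⟩
    exact rankOne_of_mem_ne h ⟨b, mem_sup_right hb, rfl⟩ (e ▸ conjBy_right_ne_left h ha)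
  · set K := ⁅A, B⁆ with hK
    by_cases hKD : Cfsg.IsRankOnePair K D
    · have hKb : Cfsg.conjBy K b = K :=
        conjBy_eq_of_commute fun x hx => (h.2.1 x hx b (mem_sup_right hb)).symm
      have p1 : Relation.ReflTransGen (Cfsg.FAdj S) A K :=
        (Relation.ReflTransGen.single ⟨hA, hD, hAD⟩).tail ⟨hD, h.1, rankOne_symm hKD⟩
      have h2 := rankOnePair_conj hAD b
      have h3 := rankOnePair_conj hKD b
      rw [hKb] at h3
      exact p1.trans ((Relation.ReflTransGen.single ⟨h.1, hS.conj_mem D hD b, h3⟩).tail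
        ⟨hS.conj_mem D hD b, hAb, rankOne_symm h2⟩)
    · obtain ⟨a, ha, ha1⟩ := A.bot_or_exists_ne_one.resolve_left (left_ne_bot hAD)
      have hk : a⁻¹ * b * a⁻¹⁻¹ * b⁻¹ ∈ K := commutator_mem_commutator (inv_mem ha) hb
      have hAK : ⁅A, K⁆ = ⊥ := bot_of_commute fun x hx y hy => (h.2.1 y hy x (mem_sup_left hx)).symm
      have hmem : a * (a⁻¹ * b * a⁻¹⁻¹ * b⁻¹) ∈ Cfsg.conjBy A b := by
        have : a * (a⁻¹ * b * a⁻¹⁻¹ * b⁻¹) = b * a * b⁻¹ := by group
        rw [this]; exact conj_mem_conjBy b ha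
      exact (Relation.ReflTransGen.single ⟨hA, hD, hAD⟩).tail
        ⟨hD, hAb, rankOne_symm (rankOne_third hS hA h.1 hD hAb hAD hAK hKD ha ha1 hk hmem)⟩

/-- Components of non-isolated members are invariant under the whole group. -/
theorem conj_reach_all {A D : Subgroup G} (hA : A ∈ S) (hD : D ∈ S) (hAD : Cfsg.IsRankOnePair A D)
    (g : G) : Relation.ReflTransGen (Cfsg.FAdj S) A (Cfsg.conjBy A g) := by
  have hg : g ∈ closure (⋃ B ∈ S, (B : Set G)) := by
    have : (⨆ B ∈ S, B) ≤ closure (⋃ B ∈ S, (B : Set G)) := by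
      refine iSup₂_le fun B hB x hx => subset_closure ?_
      exact Set.mem_biUnion hB hx
    exact this (hS.generates.symm ▸ mem_top g)
  induction hg using closure_induction'' generalizing A D with
  | one => rw [conjBy_one]
  | mem x hx =>
    obtain ⟨B, hB, hxB⟩ := Set.mem_iUnion₂.1 hx
    exact conj_reach hS hA hB hD hAD hxB
  | inv_mem x hx =>
    obtain ⟨B, hB, hxB⟩ := Set.mem_iUnion₂.1 hx
    exact conj_reach hS hA hB hD hAD (inv_mem (show x ∈ B from hxB))
  | mul x y _ _ hx hy =>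
    rw [conjBy_mul]
    exact (hy hA hD hAD).trans (hx (hS.conj_mem A hA y) (hS.conj_mem D hD y) (rankOnePair_conj hAD y))

theorem conj_of_reach {A B : Subgroup G} (hr : Relation.ReflTransGen (Cfsg.FAdj S) A B) :
    ∃ g : G, B = Cfsg.conjBy A g := by
  induction hr with
  | refl => exact ⟨1, (conjBy_one A).symm⟩
  | tail _ hbc ih =>
    obtain ⟨g, rfl⟩ := ih
    obtain ⟨x, -, e⟩ := right_mem hbc.2.2
    exact ⟨x * g, by rw [conjBy_mul, ← e]⟩

end InS

end Cfsg.Agent.H87
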