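import Mathlib
import Cfsg.Agent.H87.RootPairs

/-! Elements of two commuting members, and elementary facts on the commutator case. -/

namespace Cfsg.Agent.H87

open Subgroup
open scoped commutatorElement

variable {G : Type*} [Group G]

theorem exists_mul_of_mem_sup {A C : Subgroup G} (h : ∀ a ∈ A, ∀ c ∈ C, a * c = c * a) {x : G}
    (hx : x ∈ A ⊔ C) : ∃ a ∈ A, ∃ c ∈ C, a * c = x := by
  rw [sup_eq_closure] at hx
  induction hx using closure_induction with
  | mem y hy =>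
    rcases hy with hy | hy
    · exact ⟨y, hy, 1, one_mem _, mul_one y⟩
    · exact ⟨1, one_mem _, y, hy, one_mul y⟩
  | one => exact ⟨1, one_mem _, 1, one_mem _, one_mul 1⟩
  | mul y z _ _ hy hz =>
    obtain ⟨a, ha, c, hc, rfl⟩ := hy
    obtain ⟨a', ha', c', hc', rfl⟩ := hz
    exact ⟨a * a', mul_mem ha ha', c * c', mul_mem hc hc', Commute.mul_mul_mul_comm (h a' ha' c hc) a c'⟩
  | inv y _ hy =>
    obtain ⟨a, ha, c, hc, rfl⟩ := hy
    exact ⟨a⁻¹, inv_mem ha, c⁻¹, inv_mem hc, by rw [mul_inv_rev, h _ (inv_mem ha) _ (inv_mem hc)]⟩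

variable {S : Set (Subgroup G)} {A B : Subgroup G}

/-- An element of `A` centralizing `B` is trivial in the commutator case. -/
theorem eq_one_of_comm_of_centralizes (hS : Cfsg.IsRootSubgroupSet S) (h : Cfsg.RootCommutatorCase S A B)
    {a : G} (ha : a ∈ A) (hc : ∀ b ∈ B, a * b = b * a) : a = 1 := by
  by_contra ha1
  refine not_commute_of_comm hS h ?_
  rw [← h.2.2.1 a ha ha1, eq_bot_iff, closure_le]
  rintro _ ⟨b, hb, rfl⟩
  show a * b * a⁻¹ * b⁻¹ ∈ (⊥ : Subgroup G)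
  rw [hc b hb, mul_inv_cancel_right, mul_inv_cancel]
  exact one_mem _

theorem commute_left_comm (h : Cfsg.RootCommutatorCase S A B) :
    ∀ a ∈ A, ∀ c ∈ ⁅A, B⁆, a * c = c * a :=
  fun a ha c hc => (h.2.1 c hc a (mem_sup_left ha)).symm

theorem commute_right_comm (h : Cfsg.RootCommutatorCase S A B) :
    ∀ b ∈ B, ∀ c ∈ ⁅A, B⁆, b * c = c * b :=
  fun b hb c hc => (h.2.1 c hc b (mem_sup_right hb)).symm

theorem inf_commutator_eq_bot (hS : Cfsg.IsRootSubgroupSet S) (h : Cfsg.RootCommutatorCase S A B) :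
    A ⊓ ⁅A, B⁆ = ⊥ := by
  rw [eq_bot_iff_forall]
  exact fun x hx => eq_one_of_comm_of_centralizes hS h hx.1 fun b hb => (commute_right_comm h b hb x hx.2).symm

end Cfsg.Agent.H87
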