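import Mathlib
import Cfsg.Agent.H87.CommPlane

/-! Commutators of joins. -/

namespace Cfsg.Agent.H87

open Subgroup
open scoped commutatorElement

variable {G : Type*} [Group G]

theorem conj_mem_of_normalizer {K : Subgroup G} {g x : G} (hg : g ∈ normalizer (K : Set G)) (hx : x ∈ K) :
    g * x * g⁻¹ ∈ K :=
  (mem_normalizer_iff.1 hg x).1 hx

/-- Commutators of a join, modulo a subgroup normalized by both factors. -/
theorem commutator_sup_le {U₁ U₂ V K : Subgroup G} (n1 : U₁ ≤ normalizer (K : Set G))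
    (n2 : U₂ ≤ normalizer (K : Set G)) (h1 : ⁅U₁, V⁆ ≤ K) (h2 : ⁅U₂, V⁆ ≤ K) : ⁅U₁ ⊔ U₂, V⁆ ≤ K := by
  rw [commutator_le]
  intro x hx v hv
  have hgen : ∀ y, y ∈ U₁ ∨ y ∈ U₂ → y ∈ normalizer (K : Set G) ∧ ⁅y, v⁆ ∈ K := by
    rintro y (hy | hy)
    · exact ⟨n1 hy, h1 (commutator_mem_commutator hy hv)⟩
    · exact ⟨n2 hy, h2 (commutator_mem_commutator hy hv)⟩
  suffices x ∈ normalizer (K : Set G) ∧ ⁅x, v⁆ ∈ K from this.2
  rw [sup_eq_closure] at hx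
  induction hx using closure_induction'' with
  | one => exact ⟨one_mem _, by simp⟩
  | mem y hy => exact hgen y hy
  | inv_mem y hy => exact hgen _ (hy.imp inv_mem inv_mem)
  | mul y z _ _ hy hz =>
    refine ⟨mul_mem hy.1 hz.1, ?_⟩
    rw [show ⁅y * z, v⁆ = (y * ⁅z, v⁆ * y⁻¹) * ⁅y, v⁆ by simp only [commutatorElement_def]; group]
    exact mul_mem (conj_mem_of_normalizer hy.1 hz.2) hy.2

theorem commutator_le_sup_right {U V₁ V₂ K : Subgroup G} (n1 : V₁ ≤ normalizer (K : Set G))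
    (n2 : V₂ ≤ normalizer (K : Set G)) (h1 : ⁅U, V₁⁆ ≤ K) (h2 : ⁅U, V₂⁆ ≤ K) : ⁅U, V₁ ⊔ V₂⁆ ≤ K := by
  rw [commutator_comm]
  exact commutator_sup_le n1 n2 (commutator_comm U V₁ ▸ h1) (commutator_comm U V₂ ▸ h2)

theorem le_centralizer_of_bot {U V : Subgroup G} (h : ⁅U, V⁆ = ⊥) : U ≤ centralizer (V : Set G) :=
  commutator_eq_bot_iff_le_centralizer.1 h

theorem le_normalizer_of_bot {U V : Subgroup G} (h : ⁅U, V⁆ = ⊥) : U ≤ normalizer (V : Set G) :=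
  (le_centralizer_of_bot h).trans (centralizer_le_normalizer _)

theorem commutator_sup_eq_bot {U₁ U₂ V : Subgroup G} (h1 : ⁅U₁, V⁆ = ⊥) (h2 : ⁅U₂, V⁆ = ⊥) :
    ⁅U₁ ⊔ U₂, V⁆ = ⊥ :=
  commutator_eq_bot_iff_le_centralizer.2 (sup_le (le_centralizer_of_bot h1) (le_centralizer_of_bot h2))

theorem bot_symm {U V : Subgroup G} (h : ⁅U, V⁆ = ⊥) : ⁅V, U⁆ = ⊥ := by rwa [commutator_comm]

theorem conjBy_commutator (U V : Subgroup G) (g : G) :
    Cfsg.conjBy ⁅U, V⁆ g = ⁅Cfsg.conjBy U g, Cfsg.conjBy V g⁆ := map_commutator _ _ _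

theorem commutator_bot_conj {U V : Subgroup G} (h : ⁅U, V⁆ = ⊥) (g : G) :
    ⁅Cfsg.conjBy U g, Cfsg.conjBy V g⁆ = ⊥ := by
  rw [← conjBy_commutator, h]; exact Subgroup.map_bot _

end Cfsg.Agent.H87
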