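import Cfsg.Agent.H81.GaloisSum
import Mathlib.LinearAlgebra.PID
import Mathlib.RepresentationTheory.Invariants
import Mathlib.RepresentationTheory.Character

/-! The character of `G` on `End_N(V)` and a linear form of Burnside's inequality. -/

namespace Cfsg.Agent.H87

open scoped ComplexConjugate
open Module

/-- Burnside's inequality, linear form: if `χ` never vanishes then the sum of `‖χ‖` is at least `|G|`. -/
theorem card_le_sum_norm {G : Type*} [Group G] [Finite G] {χ : G → ℂ}
    (hχ : Cfsg.IsCharacter G χ) {g : G} (hg : χ g ≠ 0) :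
    (((Finset.range (orderOf g)).filter (fun k => Nat.Coprime k (orderOf g))).card : ℝ) ≤
      ∑ k ∈ (Finset.range (orderOf g)).filter (fun k => Nat.Coprime k (orderOf g)),
        ‖χ (g ^ k)‖ := by
  classical
  obtain ⟨m, ζ, e, hζ, hval⟩ := H81.exists_exponents hχ g
  set n := orderOf g with hn
  haveI : NeZero n := ⟨(orderOf_pos g).ne'⟩
  set S := (Finset.range n).filter (fun k => Nat.Coprime k n)
  have hone : 1 ≤ ‖∏ η ∈ primitiveRoots n ℂ, ∑ i, η ^ e i‖ :=
    H81.one_le_norm_prod_rootsum hζ e (Nat.coprime_one_left n) (by rw [← hval, pow_one]; exact hg)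
  have hbij : ∏ k ∈ S, χ (g ^ k) = ∏ η ∈ primitiveRoots n ℂ, ∑ i, η ^ e i := by
    refine Finset.prod_bij (fun k _ => ζ ^ k) ?_ ?_ ?_ (fun k _ => hval k)
    · intro k hk
      exact (mem_primitiveRoots (NeZero.pos n)).2 (hζ.pow_of_coprime k (Finset.mem_filter.1 hk).2)
    · intro a ha b hb hab
      exact hζ.pow_inj (Finset.mem_range.1 (Finset.mem_filter.1 ha).1)
        (Finset.mem_range.1 (Finset.mem_filter.1 hb).1) hab
    · intro η hη
      obtain ⟨i, hi, hc, rfl⟩ :=
        hζ.isPrimitiveRoot_iff.1 ((mem_primitiveRoots (NeZero.pos n)).1 hη)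
      exact ⟨i, Finset.mem_filter.2 ⟨Finset.mem_range.2 hi, hc⟩, rfl⟩
  rw [← hbij, norm_prod] at hone
  have hpos : ∀ k ∈ S, 0 < ‖χ (g ^ k)‖ := by
    intro k hk
    refine lt_of_le_of_ne (norm_nonneg _) fun h0 => ?_
    rw [Finset.prod_eq_zero hk h0.symm] at hone
    exact not_lt.2 hone one_pos
  have hlog : 0 ≤ ∑ k ∈ S, Real.log ‖χ (g ^ k)‖ := by
    rw [← Real.log_prod fun k hk => (hpos k hk).ne']
    exact Real.log_nonneg hone
  have hle : ∑ k ∈ S, Real.log ‖χ (g ^ k)‖ ≤ ∑ k ∈ S, (‖χ (g ^ k)‖ - 1) :=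
    Finset.sum_le_sum fun k hk => Real.log_le_sub_one_of_pos (hpos k hk)
  simp only [Finset.sum_sub_distrib, Finset.sum_const, nsmul_eq_mul, mul_one] at hle
  linarith

/-- Summed over a set closed under taking generators. -/
theorem card_le_sum_norm_of_closed {G : Type*} [Group G] [Finite G] {χ : G → ℂ}
    (hχ : Cfsg.IsCharacter G χ) (A : Finset G) (h0 : ∀ g ∈ A, χ g ≠ 0)
    (hcl : ∀ g ∈ A, ∀ k : ℕ, Nat.Coprime k (orderOf g) → g ^ k ∈ A) :
    (A.card : ℝ) ≤ ∑ g ∈ A, ‖χ g‖ := by
  classical
  suffices 0 ≤ ∑ g ∈ A, (‖χ g‖ - 1) by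
    simpa [Finset.sum_sub_distrib, sub_nonneg] using this
  rw [← Finset.sum_fiberwise_of_maps_to (g := fun g => Subgroup.zpowers g)
    (fun g hg => Finset.mem_image_of_mem _ hg)]
  refine Finset.sum_nonneg fun H hH => ?_
  obtain ⟨g, hg, rfl⟩ := Finset.mem_image.1 hH
  set n := orderOf g with hn
  have hfib : A.filter (fun h => Subgroup.zpowers h = Subgroup.zpowers g) =
      ((Finset.range n).filter (fun k => Nat.Coprime k n)).image (fun k => g ^ k) := by
    ext h
    simp only [Finset.mem_filter, Finset.mem_image, Finset.mem_range]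
    constructor
    · rintro ⟨_, hh⟩
      have hmem : h ∈ Subgroup.zpowers g := hh ▸ Subgroup.mem_zpowers h
      rw [mem_zpowers_iff_mem_range_orderOf, Finset.mem_image] at hmem
      obtain ⟨k, hk, rfl⟩ := hmem
      refine ⟨k, ⟨Finset.mem_range.1 hk, ?_⟩, rfl⟩
      have ho : orderOf (g ^ k) = n := by
        rw [← Nat.card_zpowers, hh, Nat.card_zpowers]
      rw [orderOf_pow, Nat.div_eq_self] at ho
      rcases ho with ho | ho
      · exact absurd ho (orderOf_pos g).ne'
      · rwa [Nat.coprime_comm, Nat.coprime_iff_gcd_eq_one]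
    · rintro ⟨k, ⟨_, hk⟩, rfl⟩
      refine ⟨hcl g hg k hk, Subgroup.eq_of_le_of_card_ge (by simp) ?_⟩
      rw [Nat.card_zpowers, Nat.card_zpowers, hk.symm.orderOf_pow]
  rw [hfib, Finset.sum_image fun a ha b hb hab => pow_injOn_Iio_orderOf
    (Finset.mem_range.1 (Finset.mem_filter.1 ha).1) (Finset.mem_range.1 (Finset.mem_filter.1 hb).1)
    hab]
  simpa [Finset.sum_sub_distrib, sub_nonneg] using card_le_sum_norm hχ (h0 g hg)

section End_N

variable {G : Type*} [Group G] [Finite G] {V : Type*} [AddCommGroup V] [Module ℂ V]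
  [FiniteDimensional ℂ V] (ρ : Representation ℂ G V) (N : Subgroup G) [hN : N.Normal]

/-- `G` acting on `End_N(V)`. -/
noncomputable def endRep :
    Representation ℂ G
      (Representation.invariants ((Representation.linHom ρ ρ).comp N.subtype)) where
  toFun x := ((Representation.linHom ρ ρ) x).restrict (fun v hv n => by
    have hv' := hv ⟨x⁻¹ * (n : G) * x, by simpa using hN.conj_mem (n : G) n.2 x⁻¹⟩
    simp only [MonoidHom.coe_comp, Function.comp_apply, Subgroup.coe_subtype] at hv' ⊢
    rw [← Module.End.mul_apply, ← map_mul]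
    conv_rhs => rw [← hv', ← Module.End.mul_apply, ← map_mul]
    group)
  map_one' := by ext v : 1; apply Subtype.ext; simp
  map_mul' a b := LinearMap.ext fun v => Subtype.ext <| by
    show (Representation.linHom ρ ρ) (a * b) (v : Module.End ℂ V) =
      (Representation.linHom ρ ρ) a ((Representation.linHom ρ ρ) b (v : Module.End ℂ V))
    rw [map_mul]; rfl

theorem endRep_character (x : G) :
    (endRep ρ N).character x =
      (((Nat.card N : ℝ)⁻¹ * ∑ᶠ n : N, ‖ρ.character (x * n)‖ ^ 2 : ℝ) : ℂ) := by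
  classical
  cases nonempty_fintype G
  haveI : Invertible (Fintype.card N : ℂ) := invertibleOfNonzero (by simp)
  set τ := Representation.linHom ρ ρ with hτ
  set σ := τ.comp N.subtype with hσ
  have hstab : ∀ v ∈ Representation.invariants σ, τ x v ∈ Representation.invariants σ :=
    fun v hv => (endRep ρ N x ⟨v, hv⟩).2
  have hf : ∀ v, (τ x * Representation.averageMap σ) v ∈ Representation.invariants σ :=
    fun v => hstab _ (Representation.averageMap_invariant σ v)
  have h1 : (endRep ρ N).character x =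
      LinearMap.trace ℂ _ (τ x * Representation.averageMap σ) := by
    rw [← LinearMap.trace_restrict_eq_of_forall_mem _ _ hf]
    show LinearMap.trace ℂ _ (endRep ρ N x) = _
    congr 1
    ext v : 1
    apply Subtype.ext
    show τ x (v : Module.End ℂ V) = τ x (Representation.averageMap σ (v : Module.End ℂ V))
    rw [Representation.averageMap_id σ _ v.2]
  rw [h1, Representation.averageMap, GroupAlgebra.average]
  simp only [map_smul, map_sum, MonoidAlgebra.of_apply, Representation.asAlgebraHom_single, one_smul,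
    Finset.mul_sum, mul_smul_comm, smul_eq_mul, invOf_eq_inv]
  rw [finsum_eq_sum_of_fintype, Nat.card_eq_fintype_card]
  push_cast
  try rw [Finset.mul_sum]
  refine Finset.sum_congr rfl fun n _ => ?_
  congr 1
  rw [hσ, MonoidHom.coe_comp, Function.comp_apply, Subgroup.coe_subtype, ← map_mul]
  show τ.character (x * n) = _
  rw [hτ, Representation.char_linHom, CharBasic.character_inv, Complex.conj_mul']

theorem sum_endRep_character [Fintype G] (hirr : ρ.IsIrreducible) :
    ∑ x : G, (endRep ρ N).character x = (Nat.card G : ℂ) := by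
  classical
  simp only [endRep_character]
  rw [← Complex.ofReal_sum, ← Complex.ofReal_natCast]
  congr 1
  simp only [finsum_eq_sum_of_fintype, ← Finset.mul_sum]
  rw [Finset.sum_comm]
  have hG : ∑ x : G, ‖ρ.character x‖ ^ 2 = (Nat.card G : ℝ) := by
    haveI := hirr
    have h := CharBasic.classInner_irr_self (CharBasic.isIrrCharacter_character ρ)
    rw [CharBasic.classInner_self_eq] at h
    have h' : (Nat.card G : ℝ)⁻¹ * ∑ x : G, ‖ρ.character x‖ ^ 2 = 1 := by exact_mod_cast h
    rwa [inv_mul_eq_one₀ (by exact_mod_cast Nat.card_pos.ne'), eq_comm] at h'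
  have : ∀ n : N, ∑ x : G, ‖ρ.character (x * n)‖ ^ 2 = (Nat.card G : ℝ) := fun n => by
    rw [← hG]
    exact Equiv.sum_comp (Equiv.mulRight (n : G)) fun x => ‖ρ.character x‖ ^ 2
  rw [Finset.sum_congr rfl fun n _ => this n, Finset.sum_const, Finset.card_univ, nsmul_eq_mul,
    ← Nat.card_eq_fintype_card, inv_mul_cancel_left₀ (by exact_mod_cast Nat.card_pos.ne')]

/-- The character of `G` on `End_N(V)`. -/
noncomputable def endChar : G → ℂ := (endRep ρ N).character

theorem endChar_apply (x : G) :
    endChar ρ N x =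
      (((Nat.card N : ℝ)⁻¹ * ∑ᶠ n : N, ‖ρ.character (x * n)‖ ^ 2 : ℝ) : ℂ) :=
  endRep_character ρ N x

theorem isCharacter_endChar : Cfsg.IsCharacter G (endChar ρ N) :=
  CharBasic.isCharacter_character _

theorem endChar_one : endChar ρ N (1 : G) =
    (finrank ℂ (Representation.invariants ((Representation.linHom ρ ρ).comp N.subtype)) : ℂ) := by
  show LinearMap.trace ℂ _ (endRep ρ N 1) = _
  rw [map_one]
  exact LinearMap.trace_one ℂ _

theorem endChar_eq_one [Nontrivial V]
    (h : finrank ℂ (Representation.invariants ((Representation.linHom ρ ρ).comp N.subtype)) = 1)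
    (x : G) : endChar ρ N x = 1 := by
  set W := Representation.invariants ((Representation.linHom ρ ρ).comp N.subtype) with hW
  have hone : LinearMap.id ∈ W := fun n => by
    ext v
    simp [Representation.linHom, ← Module.End.mul_apply, ← map_mul]
  have hne : (⟨LinearMap.id, hone⟩ : W) ≠ 0 := by
    intro e
    have : (LinearMap.id : V →ₗ[ℂ] V) = 0 := congrArg Subtype.val e
    obtain ⟨v, hv⟩ := exists_ne (0 : V)
    exact hv (by simpa using LinearMap.congr_fun this v)
  have htriv : endRep ρ N x = 1 := by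
    refine LinearMap.ext fun w => ?_
    obtain ⟨c, rfl⟩ := (finrank_eq_one_iff_of_nonzero' _ hne).1 h w
    rw [map_smul, Module.End.one_apply]
    congr 1
    apply Subtype.ext
    show Representation.linHom ρ ρ x LinearMap.id = LinearMap.id
    ext v
    simp [Representation.linHom, ← Module.End.mul_apply, ← map_mul]
  show LinearMap.trace ℂ _ (endRep ρ N x) = 1
  rw [htriv]
  exact (LinearMap.trace_one ℂ _).trans (by rw [h, Nat.cast_one])

theorem sum_endChar [Fintype G] (hirr : ρ.IsIrreducible) :
    ∑ x : G, endChar ρ N x = (Nat.card G : ℂ) := sum_endRep_character ρ N hirr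

end End_N

end Cfsg.Agent.H87
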