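import Cfsg.Agent.H87.CoxeterStem

/-!
A double cover of a perfect group with Coxeter-type generators from a representation of the
generators up to a central involution.
-/

set_option autoImplicit false

namespace Cfsg.Agent.H87.CoxeterStem

open Subgroup
open scoped commutatorElement

universe u

variable {n : ℕ} {M : CoxeterMatrix (Fin n)} {G : Type u} [Group G] {g : Fin n → G}
variable {H : Type} [Group H] [Finite H]

theorem exists_double_cover [Finite G] [Finite M.Group]
    (hM : Diagram.{u} M) (hrel : ∀ i j, (g i * g j) ^ M i j = 1)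
    (hgen : Subgroup.closure (Set.range g) = ⊤) (hperf : commutator G = ⊤)
    (hcard : Nat.card M.Group ≤ 2 * Nat.card G)
    (ν : H) (hνc : ν ∈ center H) (hν1 : ν ≠ 1) (hν2 : ν * ν = 1)
    (R : Fin n → H) (hR : ∀ i j, (R i * R j) ^ M i j = 1 ∨ (R i * R j) ^ M i j = ν)
    (a b c : Fin n) (hab : M a b = 2) (hac : M a c = 2) (hbc : M b c = 2)
    (hanti : ⁅(R a)⁻¹ * R b, (R a)⁻¹ * R c⁆ = ν) (hanti' : ⁅R a, R b⁆ = ν) :
    ∃ (Γ : Type u) (_ : Group Γ) (_ : Finite Γ) (σ : Γ →* G),
      Cfsg.IsStemExtension σ ∧ Nonempty (σ.ker ≃* Multiplicative (ZMod 2)) := by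
  let Δ : Subgroup (H × G) := Subgroup.closure (Set.range fun i => (R i, g i))
  let x : Fin n → Δ := fun i => ⟨(R i, g i), subset_closure ⟨i, rfl⟩⟩
  have hgab := comm_of_two hrel hab
  have hgac := comm_of_two hrel hac
  have hgbc := comm_of_two hrel hbc
  have h11 : ⁅g a, g b⁆ = 1 := commutatorElement_eq_one_iff_mul_comm.2 hgab
  have h22 : ⁅(g a)⁻¹ * g b, (g a)⁻¹ * g c⁆ = 1 := by
    refine commutatorElement_eq_one_iff_mul_comm.2 ?_
    exact ((Commute.inv_left (Commute.inv_right (Commute.refl (g a)))).mul_right (Commute.inv_left hgac)).mul_left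
      ((Commute.inv_right (Eq.symm hgab)).mul_right hgbc)
  set zΔ : Δ := ⁅x a, x b⁆ with hzdef
  have hzval : (zΔ : H × G) = (ν, 1) :=
    Prod.ext hanti' h11
  set Q := commutator Δ with hQ
  let σ : Q →* G := ((MonoidHom.snd H G).comp Δ.subtype).comp Q.subtype
  -- the second projection of `Δ` is onto
  have hsnd : Function.Surjective ((MonoidHom.snd H G).comp Δ.subtype) := by
    rw [← MonoidHom.range_eq_top, eq_top_iff, ← hgen, Subgroup.closure_le]
    rintro _ ⟨i, rfl⟩
    exact ⟨x i, rfl⟩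
  have hsurj : Function.Surjective σ := by
    intro y
    have : y ∈ (commutator Δ).map ((MonoidHom.snd H G).comp Δ.subtype) := by
      rw [Cfsg.Agent.H74.Schur.map_commutator_of_surjective _ hsnd, hperf]
      exact mem_top _
    obtain ⟨d, hd, hdy⟩ := this
    exact ⟨⟨d, hd⟩, hdy⟩
  -- modulo the central involution the commutator subgroup is an image of the Coxeter one
  set N : Subgroup H := zpowers ν with hN
  haveI hNn : N.Normal := ⟨fun z hz y => by
    obtain ⟨i, rfl⟩ := hz
    have : Commute y (ν ^ i) := Commute.zpow_right (mem_center_iff.1 hνc y) i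
    show y * ν ^ i * y⁻¹ ∈ N
    rw [this.eq, mul_inv_cancel_right]
    exact zpow_mem_zpowers _ _⟩
  let q : H × G →* (H ⧸ N) × G := (QuotientGroup.mk' N).prodMap (MonoidHom.id G)
  have hlift : M.IsLiftable fun i => q (R i, g i) := by
    intro i j
    rw [← map_mul, ← map_pow]
    refine Prod.ext ?_ (hrel i j)
    show QuotientGroup.mk' N ((R i * R j) ^ M i j) = 1
    rw [QuotientGroup.mk'_apply, QuotientGroup.eq_one_iff]
    rcases hR i j with h | h <;> rw [h]
    · exact one_mem _
    · exact mem_zpowers _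
  let φ := M.toCoxeterSystem.lift ⟨fun i => q (R i, g i), hlift⟩
  have hφ : ∀ i, φ (M.toCoxeterSystem.simple i) = q (R i, g i) := fun i =>
    M.toCoxeterSystem.lift_apply_simple hlift i
  have hqΔ : ∀ d : Δ, q d ∈ φ.range := by
    have hle : Δ ≤ φ.range.comap q := by
      rw [Subgroup.closure_le]
      rintro _ ⟨i, rfl⟩
      exact ⟨_, hφ i⟩
    exact fun d => hle d.2
  have hqQ : ∀ d ∈ Q, q (d : Δ) ∈ (commutator M.Group).map φ := by
    intro d hd
    have : Q.map (q.comp Δ.subtype) ≤ (commutator M.Group).map φ := by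
      rw [hQ, commutator_def, Subgroup.map_commutator, commutator_le]
      rintro _ ⟨u, -, rfl⟩ _ ⟨v, -, rfl⟩
      obtain ⟨w, hw⟩ := hqΔ u
      obtain ⟨w', hw'⟩ := hqΔ v
      show ⁅q u, q v⁆ ∈ _
      rw [← hw, ← hw', ← map_commutatorElement]
      exact mem_map_of_mem _ (commutator_mem_commutator (mem_top _) (mem_top _))
    exact this ⟨d, hd, rfl⟩
  have hinj : ∀ y ∈ (commutator M.Group).map φ, y.2 = 1 → y = 1 := by
    set K := (commutator M.Group).map φ with hK
    let pr : K →* G := (MonoidHom.snd (H ⧸ N) G).comp K.subtype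
    have hps : Function.Surjective pr := fun y => by
      obtain ⟨d, hd⟩ := hsurj y
      exact ⟨⟨q (d : Δ), hqQ d d.2⟩, hd⟩
    haveI : Finite K := Finite.Set.finite_image _ _
    have hle : Nat.card K ≤ Nat.card G := by
      have h1 : Nat.card K ≤ Nat.card ↥(commutator M.Group) :=
        Nat.le_of_dvd Nat.card_pos (Subgroup.card_map_dvd _ _)
      have h2 := card_commutator_two_mul_le M a
      omega
    have hb := hps.bijective_of_nat_card_le hle
    intro y hy h2
    exact congrArg Subtype.val (hb.1 (show pr ⟨y, hy⟩ = pr 1 from h2))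
  have hker : ∀ d : Q, σ d = 1 → (d : Δ) = 1 ∨ (d : Δ) = zΔ := by
    intro d hd
    have h1 := hinj _ (hqQ d d.2) hd
    have h2 : ((d : Δ) : H × G).1 ∈ N :=
      (QuotientGroup.eq_one_iff _).1 (congrArg Prod.fst h1)
    obtain ⟨i, hi⟩ := h2
    have h2d : ((d : Δ) : H × G).2 = 1 := hd
    rcases Int.even_or_odd' i with ⟨j, rfl | rfl⟩
    · refine Or.inl (Subtype.ext (Prod.ext ?_ h2d))
      show ((d : Δ) : H × G).1 = 1
      rw [← hi]
      show ν ^ (2 * j) = 1
      rw [zpow_mul, zpow_two, hν2, one_zpow]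
    · refine Or.inr (Subtype.ext (Prod.ext ?_ (h2d.trans (congrArg Prod.snd hzval).symm)))
      rw [hzval, ← hi]
      show ν ^ (2 * j + 1) = ν
      rw [zpow_add, zpow_mul, zpow_two, hν2, one_zpow, one_mul, zpow_one]
  have hzQ : zΔ ∈ Q := commutator_mem_commutator (mem_top _) (mem_top _)
  have hzc : (⟨zΔ, hzQ⟩ : Q) ∈ center Q := mem_center_iff.2 fun y => Subtype.ext <| Subtype.ext <| by
    show ((y : Δ) : H × G) * zΔ = zΔ * ((y : Δ) : H × G)
    rw [hzval]
    exact Prod.ext (mem_center_iff.1 hνc _) (by simp)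
  -- the generators agree in the abelianisation
  let of := @Abelianization.of Δ _
  have hofz : of zΔ = 1 := by
    rw [hzdef, map_commutatorElement, commutatorElement_eq_one_iff_mul_comm, mul_comm]
  have hpow : ∀ i j, (of (x i) * of (x j)) ^ M i j = 1 := by
    intro i j
    rw [← map_mul, ← map_pow]
    rcases hR i j with h | h
    · rw [show (x i * x j) ^ M i j = 1 from Subtype.ext (Prod.ext h (hrel i j)), map_one]
    · rw [show (x i * x j) ^ M i j = zΔ from Subtype.ext ((Prod.ext h (hrel i j)).trans hzval.symm), hofz]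
  have hsame : ∀ i j, of (x i) = of (x j) := fun i j => congrArg ULift.down (hM.connected (ULift.{u} (Abelianization Δ))
    (fun i => ULift.up (of (x i))) (fun j k h => by
      have h1 := hpow j k
      have hj := hpow j j
      have hk := hpow k k
      rw [M.diagonal, pow_one] at hj hk
      rw [h, mul_pow, pow_succ, pow_succ (of (x k)), pow_two, pow_two, hj, hk, one_mul, one_mul] at h1
      refine ULift.ext _ _ ?_
      calc of (x j) = of (x j) * (of (x k) * of (x k)) := by rw [hk, mul_one]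
        _ = of (x j) * of (x k) * of (x k) := (mul_assoc _ _ _).symm
        _ = of (x k) := by rw [h1, one_mul]) i j)
  have hxab : ∀ i j, (x i)⁻¹ * x j ∈ Q := by
    intro i j
    rw [hQ, ← Abelianization.ker_of, MonoidHom.mem_ker, map_mul, map_inv]
    show (of (x i))⁻¹ * of (x j) = 1
    rw [hsame i j, inv_mul_cancel]
  have hz' : (⟨zΔ, hzQ⟩ : Q) ∈ commutator Q := by
    have hXY : (⟨zΔ, hzQ⟩ : Q) = ⁅(⟨_, hxab a b⟩ : Q), (⟨_, hxab a c⟩ : Q)⁆ :=
      Subtype.ext (Subtype.ext (hzval.trans (Prod.ext hanti.symm h22.symm)))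
    rw [hXY]
    exact commutator_mem_commutator (mem_top _) (mem_top _)
  have hst : Cfsg.IsStemExtension σ := by
    refine ⟨hsurj, fun d hd => ?_, fun d hd => ?_⟩ <;> rcases hker d hd with h | h
    · rw [show d = 1 from Subtype.ext h]; exact one_mem _
    · rw [show d = ⟨zΔ, hzQ⟩ from Subtype.ext h]; exact hzc
    · rw [show d = 1 from Subtype.ext h]; exact one_mem _
    · rw [show d = ⟨zΔ, hzQ⟩ from Subtype.ext h]; exact hz'
  have hc2 : Nat.card σ.ker = 2 := by
    rw [Nat.card_eq_two_iff]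
    refine ⟨1, ⟨⟨zΔ, hzQ⟩, MonoidHom.mem_ker.2 (congrArg Prod.snd hzval)⟩, fun h => ?_, ?_⟩
    · have h' : ((1 : H × G)) = (zΔ : H × G) := congrArg (fun d : σ.ker => (((d : Q) : Δ) : H × G)) h
      rw [hzval] at h'
      exact hν1 (congrArg Prod.fst h').symm
    · refine Set.eq_univ_of_forall fun d => ?_
      rcases hker d d.2 with h | h
      · exact Or.inl (Subtype.ext (Subtype.ext h))
      · exact Or.inr (Subtype.ext (Subtype.ext h))
  have : Fact (Nat.Prime 2) := ⟨Nat.prime_two⟩
  exact ⟨Q, inferInstance, inferInstance, σ, hst,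
    ⟨mulEquivOfPrimeCardEq hc2 ((Nat.card_congr Multiplicative.toAdd).trans (Nat.card_zmod 2))⟩⟩

end Cfsg.Agent.H87.CoxeterStem
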