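import Cfsg.Agent.H87.Lines

/-! Degenerate classes of root subgroups: conjugation on the right, witnesses for speciality. -/

set_option autoImplicit false

namespace Cfsg.Agent.H87.Deg

open Subgroup
open scoped commutatorElement

variable {G : Type*} [Group G]

/-- Conjugation on the right: `X ^ g = g⁻¹ X g`. -/
abbrev rc (X : Subgroup G) (g : G) : Subgroup G := Cfsg.conjBy X g⁻¹

theorem mem_rc {X : Subgroup G} {g x : G} : x ∈ rc X g ↔ g * x * g⁻¹ ∈ X := by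
  rw [mem_conjBy, inv_inv]

theorem rc_mul (X : Subgroup G) (g h : G) : rc (rc X g) h = rc X (g * h) := by
  rw [rc, rc, rc, ← conjBy_mul, mul_inv_rev]

theorem rc_one (X : Subgroup G) : rc X 1 = X := by rw [rc, inv_one, conjBy_one]

theorem rc_of_mem {X : Subgroup G} {g : G} (hg : g ∈ X) : rc X g = X := conjBy_of_mem (inv_mem hg)

theorem rc_inv_rc (X : Subgroup G) (g : G) : rc (rc X g) g⁻¹ = X := by
  rw [rc_mul, mul_inv_cancel, rc_one]

theorem rc_rc_inv (X : Subgroup G) (g : G) : rc (rc X g⁻¹) g = X := by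
  rw [rc_mul, inv_mul_cancel, rc_one]

theorem rc_inj {X Y : Subgroup G} {g : G} (h : rc X g = rc Y g) : X = Y := conjBy_injective g⁻¹ h

theorem rc_bot_of_bot {X Y : Subgroup G} (h : ⁅X, Y⁆ = ⊥) (g : G) : ⁅rc X g, rc Y g⁆ = ⊥ :=
  bot_of_commute fun x hx y hy => by
    rw [mem_rc] at hx hy
    have := commute_of_bot h hx hy
    calc x * y = g⁻¹ * ((g * x * g⁻¹) * (g * y * g⁻¹)) * g := by group
      _ = g⁻¹ * ((g * y * g⁻¹) * (g * x * g⁻¹)) * g := by rw [this]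
      _ = y * x := by group

theorem rc_fix {X Z : Subgroup G} (h : ⁅Z, X⁆ = ⊥) {g : G} (hg : g ∈ X) : rc Z g = Z :=
  conjBy_eq_of_commute fun e he => (commute_of_bot h he (inv_mem hg)).symm

theorem rc_pair {X Y : Subgroup G} (h : Cfsg.IsRankOnePair X Y) (g : G) :
    Cfsg.IsRankOnePair (rc X g) (rc Y g) := rankOnePair_conj h g⁻¹

/-- Commutation with elements of a perpendicular member. -/
theorem comm_elem {X Z : Subgroup G} (h : ⁅Z, X⁆ = ⊥) {z x : G} (hz : z ∈ Z) (hx : x ∈ X) :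
    x * z = z * x := (commute_of_bot h hz hx).symm

section Pair

variable {A B : Subgroup G} (h : Cfsg.IsRankOnePair A B)
include h

theorem exists_link {a : G} (ha : a ∈ A) (ha1 : a ≠ 1) : ∃ b ∈ B, b ≠ 1 ∧ rc A b = rc B a :=
  h.cond_left a ha ha1

theorem exists_link' {b : G} (hb : b ∈ B) (hb1 : b ≠ 1) : ∃ a ∈ A, a ≠ 1 ∧ rc A b = rc B a :=
  let ⟨a, ha, ha1, e⟩ := h.cond_right b hb hb1
  ⟨a, ha, ha1, e.symm⟩

theorem rc_inj_left {a a' : G} (ha : a ∈ A) (ha' : a' ∈ A) (e : rc B a = rc B a') : a = a' :=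
  inv_injective (eq_of_conjBy_eq h (inv_mem ha) (inv_mem ha') e)

theorem rc_ne {a : G} (ha : a ∈ A) : rc B a ≠ A := conjBy_right_ne_left h (inv_mem ha)

theorem pair_rc {a : G} (ha : a ∈ A) : Cfsg.IsRankOnePair A (rc B a) := by
  have := rc_pair h a
  rwa [rc_of_mem ha] at this

theorem rc_mem_unipotent {a : G} (ha : a ∈ A) : rc B a ∈ Cfsg.unipotentSubgroups A B :=
  conjBy_right_mem h (inv_mem ha)

end Pair

/-- A member with rank one pairs or commuting pairs only. -/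
structure Dich (S : Set (Subgroup G)) : Prop where
  set : Cfsg.IsRootSubgroupSet S
  dich : ∀ X ∈ S, ∀ Y ∈ S, ⁅X, Y⁆ = ⊥ ∨ Cfsg.IsRankOnePair X Y

theorem dich_of_degenerate {S : Set (Subgroup G)} (hS : Cfsg.IsRootSubgroupSet S)
    (hd : Cfsg.IsDegenerateRootSet S) : Dich S :=
  ⟨hS, fun X hX Y hY => (hS.pair X hX Y hY).imp_right fun h => h.resolve_right (hd X hX Y hY)⟩

variable {S : Set (Subgroup G)} (hD : Dich S)
include hD

theorem rc_mem {X : Subgroup G} (hX : X ∈ S) (g : G) : rc X g ∈ S := hD.set.conj_mem X hX _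

theorem self_bot {X : Subgroup G} (hX : X ∈ S) : ⁅X, X⁆ = ⊥ :=
  bot_of_commute fun _ ha _ hb => commute_of_mem hD.set hX ha hb

theorem rankOne_of_not_bot {X Y : Subgroup G} (hX : X ∈ S) (hY : Y ∈ S) (h : ⁅X, Y⁆ ≠ ⊥) :
    Cfsg.IsRankOnePair X Y := (hD.dich X hX Y hY).resolve_left h

/-- A member commuting with `A` and partnered with `B` is partnered with every proper `B`-translate of `A`. -/
theorem partner_translate {A B C : Subgroup G} (hA : A ∈ S) (hC : C ∈ S) (hAB : Cfsg.IsRankOnePair A B)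
    (hCA : ⁅C, A⁆ = ⊥) (hCB : Cfsg.IsRankOnePair C B) {b : G} (hb : b ∈ B) (hb1 : b ≠ 1) :
    Cfsg.IsRankOnePair C (rc A b) := by
  refine rankOne_of_not_bot hD hC (rc_mem hD hA b) fun h => not_bot_of_rankOne hCB ?_
  obtain ⟨a, ha, -, e⟩ := exists_link' hAB hb hb1
  have hm : rc A b ∈ Cfsg.unipotentSubgroups A B := e ▸ rc_mem_unipotent hAB ha
  have hne : A ≠ rc A b := fun e' => (rc_ne hAB ha) (e ▸ e'.symm)
  have hsup := sup_eq_of_mem_of_mem hAB (left_mem A B) hm hne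
  refine bot_of_commute fun c hc x hx => ?_
  have hle : A ⊔ rc A b ≤ centralizer {c} := sup_le
    (fun y hy => mem_centralizer_singleton_iff.2 (comm_elem hCA hc hy))
    (fun y hy => mem_centralizer_singleton_iff.2 (comm_elem h hc hy))
  exact (mem_centralizer_singleton_iff.1 (hle (hsup.symm ▸ mem_sup_right hx))).symm

/-- Different translations give non-perpendicular images. -/
theorem eq_of_bot_translate {A B C : Subgroup G} (hA : A ∈ S) (hC : C ∈ S) (hAB : Cfsg.IsRankOnePair A B)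
    (hCA : ⁅C, A⁆ = ⊥) (hCB : Cfsg.IsRankOnePair C B) {b b' : G} (hb : b ∈ B) (hb' : b' ∈ B)
    (h : ⁅rc C b', rc A b⁆ = ⊥) : b = b' := by
  by_contra hne
  have h1 := rc_bot_of_bot h b'⁻¹
  rw [rc_inv_rc, rc_mul] at h1
  exact not_bot_of_rankOne (partner_translate hD hA hC hAB hCA hCB (mul_mem hb (inv_mem hb'))
    (fun e => hne (mul_inv_eq_one.1 e))) h1

/-- With a witness, the linking map of a rank one pair commutes with inversion. -/
theorem link_inv {A B C : Subgroup G} (hA : A ∈ S) (hB : B ∈ S) (hC : C ∈ S)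
    (hAB : Cfsg.IsRankOnePair A B) (hCA : ⁅C, A⁆ = ⊥) (hne : C ≠ A) (hCB : Cfsg.IsRankOnePair C B)
    {a b : G} (ha : a ∈ A) (ha1 : a ≠ 1) (hb : b ∈ B) (hb1 : b ≠ 1) (e : rc A b = rc B a) :
    rc A b⁻¹ = rc B a⁻¹ := by
  obtain ⟨γ, hγ, hγ1, eγ⟩ := exists_link' hCB hb hb1
  set E := rc B (γ * a⁻¹) with hE
  have hES : E ∈ S := rc_mem hD hB _
  have hEC : E = rc C (b * a⁻¹) := by rw [hE, ← rc_mul, ← eγ, rc_mul]
  have hEB : ⁅B, E⁆ = ⊥ := by
    have h1 := rc_bot_of_bot (rc_bot_of_bot hCA b) a⁻¹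
    rw [eγ, e, rc_inv_rc, rc_mul] at h1
    exact bot_symm h1
  have hAE : Cfsg.IsRankOnePair A E := by
    have h1 := rc_pair (partner_translate hD hC hA hCB (bot_symm hCA) hAB hb hb1) a⁻¹
    rwa [rc_of_mem (inv_mem ha), rc_mul, ← hEC] at h1
  have hCE : Cfsg.IsRankOnePair C E := by
    have h1 := rc_pair (pair_rc hCB hγ) a⁻¹
    rwa [rc_fix hCA (inv_mem ha), rc_mul] at h1
  obtain ⟨ε, hε, hε1, eε⟩ := exists_link hAE ha ha1
  have hEa : rc E a = rc C b := by rw [hEC, rc_mul, inv_mul_cancel_right]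
  have hbε : b * ε = ε * b := commute_of_bot hEB hb hε
  have e2 : rc A b⁻¹ = rc C ε⁻¹ := by
    have h1 : rc A (ε * b⁻¹) = C := by
      rw [← rc_mul, eε, hEa, rc_inv_rc]
    have h2 : ε * b⁻¹ = b⁻¹ * ε := (Commute.inv_left (show Commute b ε from hbε)).eq.symm
    rw [h2, ← rc_mul] at h1
    rw [← h1, rc_inv_rc]
  obtain ⟨γ', hγ', -, eγ'⟩ := exists_link' hCE (inv_mem hε) (by simpa using hε1)
  obtain ⟨a', ha', ha1', ea'⟩ := exists_link' hAB (inv_mem hb) (by simpa using hb1)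
  have h4 : rc B a' = rc B (γ * a⁻¹ * γ') := by
    rw [← ea', e2, eγ', hE, rc_mul]
  have hcomm : ∀ x ∈ A, ∀ z ∈ C, x * z = z * x := fun x hx z hz => comm_elem hCA hz hx
  -- two members of the line through `A` and `C` moving `B` alike are trivial
  have h5 : rc B (a' * a) = rc B (γ * γ') := by
    rw [← rc_mul, h4, rc_mul]
    congr 1
    rw [mul_assoc γ, hcomm a⁻¹ (inv_mem ha) γ' hγ']
    group
  suffices a' = a⁻¹ by rw [ea', this]
  refine eq_inv_of_mul_eq_one_left ?_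
  by_contra hα
  obtain ⟨β, hβ, -, eβ⟩ := exists_link hAB (mul_mem ha' ha) hα
  rcases eq_or_ne (γ * γ') 1 with hc | hc
  · rw [hc, rc_one] at h5
    exact hα (rc_inj_left hAB (mul_mem ha' ha) (one_mem _) (h5.trans (rc_one B).symm))
  obtain ⟨β', hβ', -, eβ'⟩ := exists_link hCB (mul_mem hγ hγ') hc
  have h6 : rc A β = rc C β' := by rw [eβ, h5, ← eβ']
  have h7 : β = β' := eq_of_bot_translate hD hA hC hAB hCA hCB hβ hβ' (by
    rw [← h6]; exact self_bot hD (rc_mem hD hA β))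
  rw [← h7] at h6
  exact hne (rc_inj h6).symm

theorem special_of_link_inv {A B : Subgroup G} (hA : A ∈ S) (hAB : Cfsg.IsRankOnePair A B)
    (hP : ∀ a ∈ A, a ≠ 1 → ∀ b ∈ B, b ≠ 1 → rc A b = rc B a → rc A b⁻¹ = rc B a⁻¹) :
    Cfsg.IsSpecialRankOnePair A B := by
  refine ⟨hAB, fun a ha ha1 b hb hb1 e => ?_⟩
  have e' : rc A b = rc B a := e
  set x := b⁻¹ * a * b with hx
  set y := a⁻¹ * b⁻¹ * a with hy
  have hxE : x ∈ rc A b := by rw [mem_rc, hx]; convert ha using 1; group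
  have hyE : y ∈ rc A b := by rw [e', mem_rc, hy]; convert inv_mem hb using 1; group
  have e2 := hP a ha ha1 b hb hb1 e'
  have hxA : rc A x = B := by
    rw [hx, ← rc_mul, ← rc_mul, e2, rc_rc_inv, rc_of_mem hb]
  have hyA : rc A y = B := by
    rw [hy, ← rc_mul, ← rc_mul, rc_of_mem (inv_mem ha), e2, rc_rc_inv]
  obtain ⟨a0, ha0, -, e0⟩ := exists_link' hAB hb hb1
  have hpair : Cfsg.IsRankOnePair (rc A b) A := rankOne_symm (e0 ▸ pair_rc hAB ha0)
  exact rc_inj_left hpair hxE hyE (hxA.trans hyA.symm)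

omit hD in
theorem special_symm {A B : Subgroup G} (hAB : Cfsg.IsRankOnePair A B)
    (hP : ∀ b ∈ B, b ≠ 1 → ∀ a ∈ A, a ≠ 1 → rc B a = rc A b → rc B a⁻¹ = rc A b⁻¹) :
    ∀ a ∈ A, a ≠ 1 → ∀ b ∈ B, b ≠ 1 → rc A b = rc B a → rc A b⁻¹ = rc B a⁻¹ :=
  fun a ha ha1 b hb hb1 e => (hP b hb hb1 a ha ha1 e.symm).symm

end Cfsg.Agent.H87.Deg
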