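import Cfsg.Agent.H87.DegTwin

/-! A degenerate class has no rank one pair of twins when the members are large enough. -/

set_option autoImplicit false

namespace Cfsg.Agent.H87.Deg

open Subgroup
open scoped commutatorElement

/-- The linear algebra behind the contradiction. -/
theorem quad_add {V : Type*} [AddCommGroup V] (P Q : AddSubgroup V) (hPQ : ∀ x ∈ P, x ∈ Q → x = 0)
    (Ai Aj Ei Ej : V →+ V) (cA : ∀ x, Ai (Aj x) = Aj (Ai x)) (cE : ∀ x, Ei (Ej x) = Ej (Ei x))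
    (hi1 : ∀ x ∈ P, Ai x ∈ P) (hj1 : ∀ x ∈ P, Aj x ∈ P)
    (hi1' : ∀ x ∈ P, ∃ y ∈ P, Ai y = x) (hj1' : ∀ x ∈ P, ∃ y ∈ P, Aj y = x)
    (hi2 : ∀ s ∈ Q, Ai s - s ∈ P) (hj2 : ∀ s ∈ Q, Aj s - s ∈ P)
    (ki1 : ∀ x ∈ Q, Ei x ∈ Q) (kj1 : ∀ x ∈ Q, Ej x ∈ Q)
    (ki1' : ∀ x ∈ Q, ∃ y ∈ Q, Ei y = x) (kj1' : ∀ x ∈ Q, ∃ y ∈ Q, Ej y = x)
    (ki2 : ∀ x ∈ P, Ei x - x ∈ Q) (kj2 : ∀ x ∈ P, Ej x - x ∈ Q)
    (ri : ∀ x ∈ P, Ai (Ei (Ai x)) ∈ Q) (rj : ∀ x ∈ P, Aj (Ej (Aj x)) ∈ Q)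
    (si : ∀ x ∈ Q, Ei (Ai (Ei x)) ∈ P) (sj : ∀ x ∈ Q, Ej (Aj (Ej x)) ∈ P) :
    ∀ x ∈ P, Ai (Aj (Ai x - Aj x)) = Ai x - Aj x := by
  have step : ∀ (A E : V →+ V), (∀ x ∈ P, A x ∈ P) → (∀ x ∈ P, ∃ y ∈ P, A y = x) →
      (∀ s ∈ Q, A s - s ∈ P) → (∀ x ∈ Q, E x ∈ Q) → (∀ x ∈ Q, ∃ y ∈ Q, E y = x) →
      (∀ x ∈ P, E x - x ∈ Q) → (∀ x ∈ P, A (E (A x)) ∈ Q) → (∀ x ∈ Q, E (A (E x)) ∈ P) →
      (∀ x ∈ P, A (E x - x) - (E x - x) = - A x) ∧
      (∀ s ∈ Q, A (E s - s) - (E s - s) = A (A s - s) - (A s - s)) := by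
    intro A E a1 a1' a2 e1 e1' e2 r s
    have r1 : ∀ x ∈ P, A (E x - x) - (E x - x) = - A x := by
      intro x hx
      obtain ⟨y, hy, rfl⟩ := a1' x hx
      have hw : E (A y) - A y ∈ Q := e2 _ (a1 y hy)
      have h1 : A (A y) + (A (E (A y) - A y) - (E (A y) - A y)) ∈ P :=
        add_mem (a1 _ (a1 y hy)) (a2 _ hw)
      have h2 : A (A y) + (A (E (A y) - A y) - (E (A y) - A y)) = A (E (A y)) - (E (A y) - A y) := by
        rw [map_sub]; abel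
      have h3 := hPQ _ h1 (h2 ▸ sub_mem (r y hy) hw)
      exact eq_neg_of_add_eq_zero_right h3
    have r2 : ∀ s ∈ Q, E (A s - s) - (A s - s) = - E s := by
      intro x hx
      obtain ⟨y, hy, rfl⟩ := e1' x hx
      have hw : A (E y) - E y ∈ P := a2 _ (e1 y hy)
      have h1 : E (E y) + (E (A (E y) - E y) - (A (E y) - E y)) ∈ Q :=
        add_mem (e1 _ (e1 y hy)) (e2 _ hw)
      have h2 : E (E y) + (E (A (E y) - E y) - (A (E y) - E y)) = E (A (E y)) - (A (E y) - E y) := by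
        rw [map_sub]; abel
      have h3 := hPQ _ (h2 ▸ sub_mem (s y hy) hw) h1
      exact eq_neg_of_add_eq_zero_right h3
    refine ⟨r1, fun t ht => ?_⟩
    have h1 := r1 _ (a2 t ht)
    rw [r2 t ht, map_neg] at h1
    have h2 : A (A t - t) = A (E t) - E t := by
      have h3 : -(A (A t - t)) = -(A (E t)) - -(E t) := h1.symm
      rw [neg_sub_neg] at h3
      rw [← neg_inj, h3, neg_sub]
    rw [map_sub A (E t) t, h2]
    abel
  obtain ⟨i1, i2⟩ := step Ai Ei hi1 hi1' hi2 ki1 ki1' ki2 ri si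
  obtain ⟨j1, j2⟩ := step Aj Ej hj1 hj1' hj2 kj1 kj1' kj2 rj sj
  intro x hx
  -- `aᵢ aⱼ eᵢ eⱼ x` in two ways
  have h1 := i2 _ (kj2 x hx)
  have h2 := j2 _ (ki2 x hx)
  have m1 := congrArg (fun v => Aj v - v) h1
  have m2 := congrArg (fun v => Ai v - v) h2
  simp only [map_sub] at m1 m2
  have n1 := j1 x hx
  have n2 := i1 x hx
  simp only [map_sub] at n1 n2
  have u1 : ∀ {f g : V →+ V}, (∀ z, f (g z) = g (f z)) → ∀ z w, f z = w → f (g z) = g w :=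
    fun {f g} c z w e => by rw [c, e]
  have p1 := congrArg (fun v => Ai (Ai v) - Ai v - (Ai v - v)) n1
  have p2 := congrArg (fun v => Aj (Aj v) - Aj v - (Aj v - v)) n2
  simp only [map_sub, map_neg, cA, cE] at m1 m2 p1 p2 ⊢
  rw [← sub_eq_zero] at m1 m2 p1 p2 ⊢
  linear_combination (norm := abel) m1 - m2 + p1 - p2

section Quot

variable {G : Type*} [Group G] {I P Q : Subgroup G}

/-- The linear algebra, read in the factor group `(P ⊔ Q) / I`. -/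
theorem quad_group (hIP : I ≤ P) (hI : P ⊓ Q ≤ I) (hPI : P ⊔ Q ≤ normalizer (I : Set G))
    (hab : ∀ x ∈ P ⊔ Q, ∀ y ∈ P ⊔ Q, ⁅x, y⁆ ∈ I)
    {ai aj ei ej : G} (ca : ai * aj = aj * ai) (ce : ei * ej = ej * ei)
    (fi : rc P ai = P) (fj : rc P aj = P) (gi : rc Q ei = Q) (gj : rc Q ej = Q)
    (zi : ∀ z ∈ I, ai * z = z * ai ∧ ei * z = z * ei) (zj : ∀ z ∈ I, aj * z = z * aj ∧ ej * z = z * ej)
    (hi : ∀ s ∈ Q, ai⁻¹ * s * ai * s⁻¹ ∈ P) (hj : ∀ s ∈ Q, aj⁻¹ * s * aj * s⁻¹ ∈ P)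
    (ki : ∀ x ∈ P, ei⁻¹ * x * ei * x⁻¹ ∈ Q) (kj : ∀ x ∈ P, ej⁻¹ * x * ej * x⁻¹ ∈ Q)
    (ri : rc P (ai * ei * ai) ≤ Q) (rj : rc P (aj * ej * aj) ≤ Q)
    (si : rc Q (ei * ai * ei) ≤ P) (sj : rc Q (ej * aj * ej) ≤ P) :
    ∀ x ∈ P, ((ai⁻¹ * x * ai) * (aj⁻¹ * x * aj)⁻¹)⁻¹ *
      ((aj * ai)⁻¹ * ((ai⁻¹ * x * ai) * (aj⁻¹ * x * aj)⁻¹) * (aj * ai)) ∈ I := by
  classical
  set W := P ⊔ Q with hWdef
  have hPW : P ≤ W := le_sup_left
  have hQW : Q ≤ W := le_sup_right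
  let N := I.subgroupOf W
  have hN : N.Normal := (normal_subgroupOf_iff_le_normalizer (hIP.trans hPW)).2 hPI
  letI cg : CommGroup (W ⧸ N) :=
    { (inferInstance : Group (W ⧸ N)) with
      mul_comm := fun x y => by
        induction x using QuotientGroup.induction_on with | H x => ?_
        induction y using QuotientGroup.induction_on with | H y => ?_
        rw [← QuotientGroup.mk_mul, ← QuotientGroup.mk_mul, QuotientGroup.eq, mem_subgroupOf]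
        have : ((x : G) * y)⁻¹ * (y * x) = ⁅(y : G)⁻¹, (x : G)⁻¹⁆ := by
          simp [commutatorElement_def, mul_assoc]
        push_cast
        rw [this]
        exact hab _ (inv_mem y.2) _ (inv_mem x.2) }
  let φ : W → Additive (W ⧸ N) := fun x => Additive.ofMul (x : W ⧸ N)
  have hmem : ∀ {g : G}, (∀ x ∈ P, g⁻¹ * x * g ∈ W) → (∀ x ∈ Q, g⁻¹ * x * g ∈ W) →
      ∀ x ∈ W, g⁻¹ * x * g ∈ W := by
    intro g h1 h2 x hx
    have : W ≤ rc W g⁻¹ := sup_le (fun z hz => by rw [mem_rc, inv_inv]; exact h1 z hz)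
      (fun z hz => by rw [mem_rc, inv_inv]; exact h2 z hz)
    have h3 := this hx
    rwa [mem_rc, inv_inv] at h3
  -- conjugation on the right by an element of the normaliser
  have hop : ∀ g : G, (∀ x ∈ W, g⁻¹ * x * g ∈ W) → (∀ z ∈ I, g * z = z * g) →
      ∃ f : Additive (W ⧸ N) →+ Additive (W ⧸ N), ∀ (x y : W), (y : G) = g⁻¹ * x * g → f (φ x) = φ y := by
    intro g h1 h2
    let c : W →* W :=
      { toFun := fun x => ⟨g⁻¹ * x * g, h1 x x.2⟩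
        map_one' := Subtype.ext (by simp)
        map_mul' := fun x y => Subtype.ext (by simp [mul_assoc]) }
    have hc : N ≤ N.comap c := by
      intro z hz
      rw [mem_comap, mem_subgroupOf]
      show g⁻¹ * (z : G) * g ∈ I
      have hz' : (z : G) ∈ I := hz
      rw [mul_assoc, ← h2 _ hz', inv_mul_cancel_left]
      exact hz'
    refine ⟨MonoidHom.toAdditive (QuotientGroup.map N N c hc), fun x y e => ?_⟩
    rw [show y = c x from Subtype.ext e]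
    rfl
  have hfix : ∀ {R : Subgroup G} {g : G}, rc R g = R → ∀ x ∈ R, g⁻¹ * x * g ∈ R := by
    intro R g e x hx
    rw [← e, mem_rc]
    simpa [mul_assoc] using hx
  have hfix' : ∀ {R : Subgroup G} {g : G}, rc R g = R → ∀ x ∈ R, g * x * g⁻¹ ∈ R := by
    intro R g e x hx
    rw [← e, mem_rc] at hx
    exact hx
  have hsplit : ∀ {g x : G}, g⁻¹ * x * g * x⁻¹ ∈ W → x ∈ W → g⁻¹ * x * g ∈ W := by
    intro g x h1 h2
    simpa using mul_mem h1 h2
  have nai := hmem (fun x hx => hPW (hfix fi x hx)) (fun x hx => hsplit (hPW (hi x hx)) (hQW hx))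
  have naj := hmem (fun x hx => hPW (hfix fj x hx)) (fun x hx => hsplit (hPW (hj x hx)) (hQW hx))
  have nei := hmem (fun x hx => hsplit (hQW (ki x hx)) (hPW hx)) (fun x hx => hQW (hfix gi x hx))
  have nej := hmem (fun x hx => hsplit (hQW (kj x hx)) (hPW hx)) (fun x hx => hQW (hfix gj x hx))
  obtain ⟨Ai, hAi⟩ := hop ai nai (fun z hz => (zi z hz).1)
  obtain ⟨Aj, hAj⟩ := hop aj naj (fun z hz => (zj z hz).1)
  obtain ⟨Ei, hEi⟩ := hop ei nei (fun z hz => (zi z hz).2)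
  obtain ⟨Ej, hEj⟩ := hop ej nej (fun z hz => (zj z hz).2)
  let P' : AddSubgroup (Additive (W ⧸ N)) := Subgroup.toAddSubgroup ((P.subgroupOf W).map (QuotientGroup.mk' N))
  let Q' : AddSubgroup (Additive (W ⧸ N)) := Subgroup.toAddSubgroup ((Q.subgroupOf W).map (QuotientGroup.mk' N))
  have mP : ∀ {v}, v ∈ P' → ∃ x : W, (x : G) ∈ P ∧ φ x = v := by
    rintro v ⟨x, hx, e⟩
    exact ⟨x, hx, e⟩
  have mQ : ∀ {v}, v ∈ Q' → ∃ x : W, (x : G) ∈ Q ∧ φ x = v := by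
    rintro v ⟨x, hx, e⟩
    exact ⟨x, hx, e⟩
  have iP : ∀ x : W, (x : G) ∈ P → φ x ∈ P' := fun x hx => ⟨x, hx, rfl⟩
  have iQ : ∀ x : W, (x : G) ∈ Q → φ x ∈ Q' := fun x hx => ⟨x, hx, rfl⟩
  have hPQ : ∀ v ∈ P', v ∈ Q' → v = 0 := by
    intro v h1 h2
    obtain ⟨x, hx, rfl⟩ := mP h1
    obtain ⟨y, hy, e⟩ := mQ h2
    have e' : (y : G)⁻¹ * x ∈ I := (QuotientGroup.eq (s := N)).1 (Additive.ofMul.injective e)
    have hy' : (y : G) ∈ P := by simpa using mul_mem hx (inv_mem (hIP e'))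
    rw [← e]
    exact congrArg Additive.ofMul ((QuotientGroup.eq_one_iff y).2 (hI ⟨hy', hy⟩))
  -- the behaviour of each operator
  have inv_on : ∀ {g : G} {R : Subgroup G} {T : AddSubgroup (Additive (W ⧸ N))}
      {f : Additive (W ⧸ N) →+ Additive (W ⧸ N)}, R ≤ W → (∀ {v}, v ∈ T → ∃ x : W, (x : G) ∈ R ∧ φ x = v) →
      (∀ x : W, (x : G) ∈ R → φ x ∈ T) → rc R g = R →
      (∀ (x y : W), (y : G) = g⁻¹ * x * g → f (φ x) = φ y) →
      (∀ v ∈ T, f v ∈ T) ∧ (∀ v ∈ T, ∃ w ∈ T, f w = v) := by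
    intro g R T f hR hm hi' e hf
    refine ⟨fun v hv => ?_, fun v hv => ?_⟩
    · obtain ⟨x, hx, rfl⟩ := hm hv
      rw [hf x ⟨_, hR (hfix e _ hx)⟩ rfl]
      exact hi' _ (hfix e _ hx)
    · obtain ⟨x, hx, rfl⟩ := hm hv
      exact ⟨_, hi' ⟨_, hR (hfix' e _ hx)⟩ (hfix' e _ hx), hf _ x (by simp [mul_assoc])⟩
  have diff_on : ∀ {g : G} {R : Subgroup G} {T : AddSubgroup (Additive (W ⧸ N))}
      {f : Additive (W ⧸ N) →+ Additive (W ⧸ N)}, R ≤ W → (∀ x : W, (x : G) ∈ R → φ x ∈ T) →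
      (∀ (x y : W), (y : G) = g⁻¹ * x * g → f (φ x) = φ y) →
      (∀ x ∈ W, g⁻¹ * x * g ∈ W) → ∀ x : W, g⁻¹ * x * g * (x : G)⁻¹ ∈ R → f (φ x) - φ x ∈ T := by
    intro g R T f _ hi' hf hn x hx
    have h1 := hi' (⟨_, hn x x.2⟩ * x⁻¹) hx
    rw [hf x ⟨_, hn x x.2⟩ rfl, sub_eq_add_neg]
    exact h1
  have trip : ∀ {a e : G} {R : Subgroup G} {T : AddSubgroup (Additive (W ⧸ N))}
      {f h : Additive (W ⧸ N) →+ Additive (W ⧸ N)}, (∀ x : W, (x : G) ∈ R → φ x ∈ T) →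
      (∀ (x y : W), (y : G) = a⁻¹ * x * a → f (φ x) = φ y) →
      (∀ (x y : W), (y : G) = e⁻¹ * x * e → h (φ x) = φ y) →
      (∀ x ∈ W, a⁻¹ * x * a ∈ W) → (∀ x ∈ W, e⁻¹ * x * e ∈ W) →
      ∀ x : W, (a * e * a)⁻¹ * (x : G) * (a * e * a) ∈ R → f (h (f (φ x))) ∈ T := by
    intro a e R T f h hi' hf hh ha he x hx
    rw [hf x ⟨_, ha x x.2⟩ rfl, hh _ ⟨_, he _ (ha x x.2)⟩ rfl, hf _ ⟨_, ha _ (he _ (ha x x.2))⟩ rfl]
    apply hi'
    convert hx using 1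
    simp [mul_assoc]
  have tmem : ∀ {R T : Subgroup G} {g x : G}, rc R g ≤ T → x ∈ R → g⁻¹ * x * g ∈ T := by
    intro R T g x h hx
    apply h
    rw [mem_rc]
    simpa [mul_assoc] using hx
  have comm : ∀ {a b : G} {f h : Additive (W ⧸ N) →+ Additive (W ⧸ N)}, a * b = b * a →
      (∀ (x y : W), (y : G) = a⁻¹ * x * a → f (φ x) = φ y) →
      (∀ (x y : W), (y : G) = b⁻¹ * x * b → h (φ x) = φ y) →
      (∀ x ∈ W, a⁻¹ * x * a ∈ W) → (∀ x ∈ W, b⁻¹ * x * b ∈ W) → ∀ v, f (h v) = h (f v) := by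
    intro a b f h hc hf hh ha hb v
    obtain ⟨x, rfl⟩ : ∃ x : W, φ x = v := QuotientGroup.mk'_surjective N v.toMul
    rw [hh x ⟨_, hb x x.2⟩ rfl, hf x ⟨_, ha x x.2⟩ rfl, hf _ ⟨_, ha _ (hb x x.2)⟩ rfl]
    refine (hh _ _ ?_).symm
    show a⁻¹ * (b⁻¹ * (x : G) * b) * a = b⁻¹ * (a⁻¹ * (x : G) * a) * b
    calc a⁻¹ * (b⁻¹ * (x : G) * b) * a = (b * a)⁻¹ * x * (b * a) := by group
      _ = (a * b)⁻¹ * x * (a * b) := by rw [hc]
      _ = _ := by group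
  obtain ⟨i1, i1'⟩ := inv_on hPW mP iP fi hAi
  obtain ⟨j1, j1'⟩ := inv_on hPW mP iP fj hAj
  obtain ⟨k1, k1'⟩ := inv_on hQW mQ iQ gi hEi
  obtain ⟨l1, l1'⟩ := inv_on hQW mQ iQ gj hEj
  have key := quad_add P' Q' hPQ Ai Aj Ei Ej (comm ca hAi hAj nai naj) (comm ce hEi hEj nei nej)
    i1 j1 i1' j1'
    (fun v hv => by obtain ⟨x, hx, rfl⟩ := mQ hv; exact diff_on hPW iP hAi nai x (hi x hx))
    (fun v hv => by obtain ⟨x, hx, rfl⟩ := mQ hv; exact diff_on hPW iP hAj naj x (hj x hx))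
    k1 l1 k1' l1'
    (fun v hv => by obtain ⟨x, hx, rfl⟩ := mP hv; exact diff_on hQW iQ hEi nei x (ki x hx))
    (fun v hv => by obtain ⟨x, hx, rfl⟩ := mP hv; exact diff_on hQW iQ hEj nej x (kj x hx))
    (fun v hv => by obtain ⟨x, hx, rfl⟩ := mP hv; exact trip iQ hAi hEi nai nei x (tmem ri hx))
    (fun v hv => by obtain ⟨x, hx, rfl⟩ := mP hv; exact trip iQ hAj hEj naj nej x (tmem rj hx))
    (fun v hv => by obtain ⟨x, hx, rfl⟩ := mQ hv; exact trip iP hEi hAi nei nai x (tmem si hx))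
    (fun v hv => by obtain ⟨x, hx, rfl⟩ := mQ hv; exact trip iP hEj hAj nej naj x (tmem sj hx))
  intro x hx
  let y : W := ⟨_, nai x (hPW hx)⟩ * (⟨_, naj x (hPW hx)⟩ : W)⁻¹
  have h1 : Ai (φ ⟨x, hPW hx⟩) - Aj (φ ⟨x, hPW hx⟩) = φ y := by
    rw [hAi _ ⟨_, nai x (hPW hx)⟩ rfl, hAj _ ⟨_, naj x (hPW hx)⟩ rfl, sub_eq_add_neg]
    rfl
  have h2 := key _ (iP ⟨x, hPW hx⟩ hx)
  rw [h1, hAj y ⟨_, naj y y.2⟩ rfl, hAi _ ⟨_, nai _ (naj y y.2)⟩ rfl] at h2
  have h3 := (QuotientGroup.eq (s := N)).1 (Additive.ofMul.injective h2.symm)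
  rw [mem_subgroupOf] at h3
  convert h3 using 1
  simp [y, mul_assoc]

end Quot

section Main

variable {G : Type*} [Group G] {S : Set (Subgroup G)} {A D C : Subgroup G}

/-- The elements fixing the classes of `A` and of the translates of `D` under `A`. -/
def Kl (hD : Dich S) (A D : Subgroup G) : Subgroup G where
  carrier := {g | Same S (rc A g) A ∧ ∀ α ∈ A, Same S (rc (rc D α) g) (rc D α)}
  one_mem' := ⟨by rw [rc_one]; rfl, fun α _ => by rw [rc_one]; rfl⟩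
  mul_mem' := by
    intro g h hg hh
    refine ⟨?_, fun α hα => ?_⟩
    · rw [← rc_mul]; exact (hg.1.conj hD h).trans hh.1
    · rw [← rc_mul]; exact ((hg.2 α hα).conj hD h).trans (hh.2 α hα)
  inv_mem' := by
    intro g hg
    refine ⟨?_, fun α hα => ?_⟩
    · have := hg.1.conj hD g⁻¹
      rw [rc_inv_rc] at this
      exact this.symm
    · have := (hg.2 α hα).conj hD g⁻¹
      rw [rc_inv_rc] at this
      exact this.symm

theorem mem_Kl {hD : Dich S} {g : G} :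
    g ∈ Kl hD A D ↔ Same S (rc A g) A ∧ ∀ α ∈ A, Same S (rc (rc D α) g) (rc D α) := Iff.rfl

theorem Kl_conj (hD : Dich S) {α g : G} (hα : α ∈ A) (hg : g ∈ Kl hD A D) : α⁻¹ * g * α ∈ Kl hD A D := by
  refine ⟨?_, fun β hβ => ?_⟩
  · rw [← rc_mul, ← rc_mul, rc_of_mem (inv_mem hα)]
    have := hg.1.conj hD α
    rwa [rc_of_mem hα] at this
  · have := (hg.2 (β * α⁻¹) (mul_mem hβ (inv_mem hα))).conj hD α
    simpa only [rc_mul, mul_assoc, inv_mul_cancel, mul_one] using this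

theorem Tri.Kl_le (T : Tri S A D C) : Kl T.dich A D ≤ Kl T.dich D A := by
  intro g hg
  refine ⟨?_, fun δ hδ => ?_⟩
  · have := hg.2 1 (one_mem _)
    rwa [rc_one] at this
  · rcases eq_or_ne δ 1 with rfl | hδ1
    · rw [rc_one]; exact hg.1
    · obtain ⟨α, hα, -, e⟩ := exists_link' T.pair hδ hδ1
      rw [e]; exact hg.2 α hα

theorem Tri.Kl_symm (T : Tri S A D C) : Kl T.dich A D = Kl T.dich D A := by
  obtain ⟨E, T'⟩ := T.exists_flip
  exact le_antisymm T.Kl_le T'.Kl_le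

theorem Tri.Kl_inf (T : Tri S A D C) {α : G} (hα : α ∈ A) (hK : α ∈ Kl T.dich A D) : α = 1 := by
  by_contra hα1
  have h1 := hK.2 1 (one_mem _)
  rw [rc_one] at h1
  obtain ⟨δ, hδ, -, e⟩ := exists_link T.pair hα hα1
  rw [← e] at h1
  have h2 := rc_pair T.wit_pair δ
  rw [rc_of_mem hδ] at h2
  exact not_same _ _ (rc_mem_ps T.dich δ T.wit_ps) h2 h1

/-- The twins of `A`, cut down to the elements fixing the line. -/
def Rk (hD : Dich S) (A D : Subgroup G) : Subgroup G := XT S A ⊓ Kl hD A D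

theorem Rk_conj (hD : Dich S) {α x : G} (hα : α ∈ A) (hx : x ∈ Rk hD A D) : α⁻¹ * x * α ∈ Rk hD A D := by
  refine ⟨?_, Kl_conj hD hα hx.2⟩
  have h1 : α⁻¹ * x * α ∈ rc (XT S A) α := by
    rw [mem_rc]; simpa [mul_assoc] using hx.1
  rwa [XT_rc hD, rc_of_mem hα] at h1

theorem rc_Rk (hD : Dich S) {α : G} (hα : α ∈ A) : rc (Rk hD A D) α = Rk hD A D := by
  ext x
  rw [mem_rc]
  refine ⟨fun h => ?_, fun h => ?_⟩
  · simpa [mul_assoc] using Rk_conj hD hα h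
  · simpa using Rk_conj hD (inv_mem hα) h

theorem mem_XT_of_rc {U : Subgroup G} (hD : Dich S) (hA : A ∈ S) {g x : G} (hg : Same S (rc A g) U)
    (hx : x ∈ A) : g⁻¹ * x * g ∈ XT S U := by
  refine le_XT (rc_mem hD hA g) hg ?_
  rw [mem_rc]; simpa [mul_assoc] using hx

/-- The commutator of `Rk A` with an element of `D` lies in `Rk D`. -/
theorem Tri.step (T : Tri S A D C) {n δ : G} (hn : n ∈ Rk T.dich A D) (hδ : δ ∈ D) :
    δ⁻¹ * n * δ * n⁻¹ ∈ Rk T.dich D A := by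
  have hn' : n⁻¹ ∈ Kl T.dich D A := inv_mem (T.Kl_symm ▸ hn.2)
  refine ⟨?_, ?_⟩
  · have h2 : n * δ * n⁻¹ ∈ XT S D := by
      have := mem_XT_of_rc T.dich T.mem_right hn'.1 hδ
      rwa [inv_inv] at this
    have := mul_mem (inv_mem (le_XT T.mem_right (show Same S D D from rfl) hδ)) h2
    simpa [mul_assoc] using this
  · exact mul_mem (Kl_conj T.dich hδ (inv_mem_iff.1 hn')) hn'

theorem Tri.normal (T : Tri S A D C) {n m : G} (hn : n ∈ Rk T.dich A D) (hm : m ∈ Rk T.dich D A) :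
    n⁻¹ * m * n ∈ Rk T.dich D A := by
  have hn' : n ∈ Kl T.dich D A := T.Kl_symm ▸ hn.2
  refine ⟨?_, Subgroup.mul_mem _ (Subgroup.mul_mem _ (Subgroup.inv_mem _ hn') hm.2) hn'⟩
  have h1 : n⁻¹ * m * n ∈ rc (XT S D) n := by
    rw [mem_rc]; simpa [mul_assoc] using hm.1
  rwa [XT_rc T.dich, XT_congr hn'.1] at h1

/-- An element moving the class of `A` to that of `D` moves `Rk A` into `Rk D`. -/
theorem Tri.transport (T : Tri S A D C) {g : G} (h : rc A g = D)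
    (hK : ∀ x ∈ Kl T.dich A D, g⁻¹ * x * g ∈ Kl T.dich A D) : rc (Rk T.dich A D) g ≤ Rk T.dich D A := by
  intro x hx
  rw [mem_rc] at hx
  refine ⟨?_, ?_⟩
  · have : x ∈ rc (XT S A) g := mem_rc.2 hx.1
    rwa [XT_rc T.dich, h] at this
  · rw [← T.Kl_symm]
    simpa [mul_assoc] using hK _ hx.2

/-- An element of both groups centralizes both members. -/
theorem Tri.inter_central (T : Tri S A D C) {α α₂ : G} (hα : α ∈ A) (hα1 : α ≠ 1) (hα₂ : α₂ ∈ A) (hα₂1 : α₂ ≠ 1)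
    (hne : α ≠ α₂) {z : G} (hz : z ∈ Rk T.dich A D) (hz' : z ∈ Rk T.dich D A) :
    (∀ a ∈ A, a * z = z * a) ∧ ∀ d ∈ D, d * z = z * d := by
  have key : ∀ β ∈ A, β ≠ 1 → rc D β ≤ centralizer {z} := by
    intro β hβ hβ1 y hy
    obtain ⟨δ, hδ, hδ1, e⟩ := exists_link T.pair hβ hβ1
    obtain ⟨γ, hγ, -, eγ⟩ := exists_link' T.wit_pair hδ hδ1
    have h1 : z ∈ rc (XT S D) γ := by
      rw [mem_rc, ← XT_centralized A T.wit_ps hz.1 hγ, mul_inv_cancel_right]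
      exact hz'.1
    rw [XT_rc T.dich, ← eγ] at h1
    have h2 : rc A δ ∈ Cfsg.commutingPartners S (rc C δ) :=
      rc_mem_ps T.dich δ ⟨T.mem_left, fun e1 => T.wit_ne e1.symm, T.wit_bot⟩
    exact mem_centralizer_singleton_iff.2 (XT_centralized _ h2 h1 (e ▸ hy)).symm
  have hsup := sup_eq_of_mem_of_mem T.pair (rc_mem_unipotent T.pair hα) (rc_mem_unipotent T.pair hα₂)
    (fun e => hne (rc_inj_left T.pair hα hα₂ e))
  have hle : A ⊔ D ≤ centralizer {z} := hsup ▸ sup_le (key α hα hα1) (key α₂ hα₂ hα₂1)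
  exact ⟨fun a ha => mem_centralizer_singleton_iff.1 (hle (mem_sup_left ha)),
    fun d hd => mem_centralizer_singleton_iff.1 (hle (mem_sup_right hd))⟩

theorem Tri.kappa_mem (T : Tri S A D C) {U : Subgroup G} (hU : U ∈ S) (hUA : Same S U A) {α' β' δ' : G}
    (hα' : α' ∈ A) (hβ' : β' ∈ U) (e' : rc A δ' = rc D α') (f' : rc U δ' = rc D β') :
    α' * β'⁻¹ ∈ Kl T.dich A D := by
  have hD := T.dich
  refine ⟨?_, fun α hα => ?_⟩
  · have h1 := hUA.symm.conj hD β'⁻¹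
    rw [rc_of_mem (inv_mem hβ')] at h1
    rw [← rc_mul, rc_of_mem hα']
    exact h1.trans hUA
  · rcases eq_or_ne α 1 with rfl | hα1
    · rw [rc_one]
      have h1 := (hUA.symm.conj hD δ').conj hD β'⁻¹
      rw [e', f', rc_inv_rc, rc_mul] at h1
      exact h1
    · obtain ⟨δ, hδ, hδ1, e⟩ := exists_link T.pair (inv_mem hα) (inv_ne_one.2 hα1)
      have := T.key hU hUA (inv_mem hα) (inv_ne_one.2 hα1) hα' hβ' hδ hδ1 e e' f'
      rwa [inv_inv, ← rc_mul] at this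

theorem Tri.twin_le (T : Tri S A D C) {U : Subgroup G} (hU : U ∈ S) (hUA : Same S U A) :
    U ≤ A ⊔ Rk T.dich A D := by
  intro u hu
  rcases eq_or_ne u 1 with rfl | hu1
  · exact one_mem _
  obtain ⟨δ', hδ', hδ1, f'⟩ := exists_link (T.twin hU hUA).pair hu hu1
  obtain ⟨α', hα', -, e'⟩ := exists_link' T.pair hδ' hδ1
  have hk : α' * u⁻¹ ∈ Rk T.dich A D :=
    ⟨Subgroup.mul_mem _ (le_XT T.mem_left (show Same S A A from rfl) hα') (Subgroup.inv_mem _ (le_XT hU hUA hu)),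
      T.kappa_mem hU hUA hα' hu e' f'⟩
  have := mul_mem (mem_sup_right (S := A) (inv_mem hk)) (mem_sup_left (T := Rk T.dich A D) hα')
  simpa [mul_assoc] using this

theorem Tri.exists_rep (T : Tri S A D C) {U : Subgroup G} (hU : U ∈ S) (hUA : Same S U A) (hne : U ≠ A) :
    ∃ r ∈ Rk T.dich A D, rc A r = U := by
  have hAU : Cfsg.IsRankOnePair A U := by
    refine rankOne_of_not_bot T.dich T.mem_left hU fun h => ?_
    have : U ∈ Cfsg.commutingPartners S U :=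
      (show Cfsg.commutingPartners S U = Cfsg.commutingPartners S A from hUA).symm ▸ ⟨hU, hne, h⟩
    exact this.2.1 rfl
  obtain ⟨a, ha, ha1⟩ := A.bot_or_exists_ne_one.resolve_left (left_ne_bot hAU)
  obtain ⟨b, hb, -, e⟩ := exists_link hAU ha ha1
  have hR : A ≤ normalizer (Rk T.dich A D : Set G) := fun x hx => by
    rw [mem_normalizer_iff]
    intro y
    refine ⟨fun h => ?_, fun h => ?_⟩
    · simpa [mul_assoc] using Rk_conj T.dich (inv_mem hx) h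
    · simpa [mul_assoc] using Rk_conj T.dich hx h
  have hm : b * a⁻¹ ∈ A ⊔ Rk T.dich A D :=
    mul_mem (T.twin_le hU hUA hb) (mem_sup_left (inv_mem ha))
  rw [← SetLike.mem_coe, coe_mul_of_left_le_normalizer_right _ _ hR] at hm
  obtain ⟨a₀, ha₀, r, hr, er⟩ := hm
  refine ⟨r, hr, ?_⟩
  have h1 : rc A (b * a⁻¹) = U := by rw [← rc_mul, e, rc_inv_rc]
  rwa [← (show a₀ * r = b * a⁻¹ from er), ← rc_mul, rc_of_mem ha₀] at h1

/-- An element of the kernel whose commutator with some `α` is central fixes `A` pointwise. -/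
theorem Tri.central_step (T : Tri S A D C) {u α : G} (hu : u ∈ Kl T.dich A D) (hα : α ∈ A) (hα1 : α ≠ 1)
    (h : ∀ a ∈ A, a * (u⁻¹ * α⁻¹ * u * α) = u⁻¹ * α⁻¹ * u * α * a) : ∀ a ∈ A, a * u = u * a := by
  have hw : u⁻¹ * α⁻¹ * u ∈ rc A u := by
    rw [mem_rc]; simpa [mul_assoc] using inv_mem hα
  have hfix : rc A u = A := by
    by_contra hne
    rcases T.dich.dich A T.mem_left _ (rc_mem T.dich T.mem_left u) with hb | hb
    · have : rc A u ∈ Cfsg.commutingPartners S (rc A u) :=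
        (show Cfsg.commutingPartners S (rc A u) = Cfsg.commutingPartners S A from hu.1).symm ▸
          ⟨rc_mem T.dich T.mem_left u, hne, hb⟩
      exact this.2.1 rfl
    · have hc : α * (u⁻¹ * α⁻¹ * u) = u⁻¹ * α⁻¹ * u * α := by
        have := h α hα
        rw [← mul_assoc] at this
        exact mul_right_cancel this
      have := eq_one_of_rankOne_of_commute hb hα hw hc hα1
      exact inv_ne_one.2 hα1 (conj_eq_one_iff.1 (by rwa [inv_inv] : u⁻¹ * α⁻¹ * u⁻¹⁻¹ = 1))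
  intro a ha
  have h1 : u⁻¹ * a⁻¹ * u ∈ rc A u := by
    rw [mem_rc]; simpa [mul_assoc] using inv_mem ha
  rw [hfix] at h1
  have h2 : u⁻¹ * a⁻¹ * u * a ∈ Kl T.dich A D := by
    have := mul_mem (inv_mem hu) (Kl_conj T.dich ha hu)
    simpa [mul_assoc] using this
  have h3 := T.Kl_inf (mul_mem h1 ha) h2
  calc a * u = a * u * 1 := (mul_one _).symm
    _ = a * u * (u⁻¹ * a⁻¹ * u * a) := by rw [h3]
    _ = u * a := by group

/-- Modulo the elements in both groups, `Rk A` is abelian and commutes with `Rk D`. -/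
theorem Tri.abelian (T : Tri S A D C) {αi αj : G} (hi : αi ∈ A) (hi1 : αi ≠ 1) (hj : αj ∈ A) (hj1 : αj ≠ 1)
    (hne : αi ≠ αj) :
    (∀ n ∈ Rk T.dich A D, ∀ m ∈ Rk T.dich D A, ⁅n, m⁆ ∈ Rk T.dich A D ⊓ Rk T.dich D A) ∧
    ∀ n ∈ Rk T.dich A D, ∀ n' ∈ Rk T.dich A D, ⁅n, n'⁆ ∈ Rk T.dich A D ⊓ Rk T.dich D A := by
  obtain ⟨E, T'⟩ := T.exists_flip
  set P := Rk T.dich A D with hP
  set Q := Rk T.dich D A with hQ
  have hK : Kl T.dich A D = Kl T.dich D A := T.Kl_symm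
  have hcen : ∀ z ∈ P ⊓ Q, (∀ a ∈ A, a * z = z * a) ∧ ∀ d ∈ D, d * z = z * d :=
    fun z hz => T.inter_central hi hi1 hj hj1 hne hz.1 hz.2
  obtain ⟨δi, hδi, hδi1, eδi⟩ := exists_link T.pair hi hi1
  have hKd : ∀ δ ∈ D, ∀ x ∈ Kl T.dich A D, δ⁻¹ * x * δ ∈ Kl T.dich A D := by
    intro δ hδ x hx
    rw [hK] at hx ⊢
    exact Kl_conj T.dich hδ hx
  -- translates of `P` meet `P` centrally
  have hmeet : ∀ n ∈ P, δi * n * δi⁻¹ ∈ P → n ∈ Q := by
    intro z hz hz'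
    have h1 : z ∈ rc Q αi := by
      have h2 : z ∈ rc P δi := mem_rc.2 hz'
      rw [mem_rc]
      refine ⟨?_, ?_⟩
      · have h3 : z ∈ rc (XT S A) δi := mem_rc.2 hz'.1
        rw [XT_rc T.dich, eδi, ← XT_rc T.dich] at h3
        exact mem_rc.1 h3
      · rw [← hK]
        simpa using Kl_conj T.dich (inv_mem hi) hz.2
    rw [mem_rc] at h1
    have h4 : αi * z * αi⁻¹ ∈ P := by simpa using Rk_conj T.dich (inv_mem hi) hz
    have h5 := (hcen _ ⟨h4, h1⟩).1 αi hi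
    have h6 : αi * z * αi⁻¹ = z := by
      have := congrArg (fun t => αi⁻¹ * t) h5
      simpa [mul_assoc] using this
    rwa [h6] at h1
  have hnorm : ∀ n ∈ P, ∀ m ∈ Q, n⁻¹ * m * n ∈ Q ∧ m⁻¹ * n * m ∈ P :=
    fun n hn m hm => ⟨T.normal hn hm, T'.normal hm hn⟩
  have hPQ : ∀ n ∈ P, ∀ m ∈ Q, ⁅n, m⁆ ∈ P ⊓ Q := by
    intro n hn m hm
    rw [commutatorElement_def]
    refine ⟨?_, ?_⟩
    · have := mul_mem hn (hnorm n⁻¹ (inv_mem hn) m hm |> fun _ => (hnorm n⁻¹ (inv_mem hn) m⁻¹ (inv_mem hm)).2)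
      simpa [mul_assoc] using this
    · have := mul_mem (hnorm n⁻¹ (inv_mem hn) m hm).1 (inv_mem hm)
      simpa [mul_assoc] using this
  refine ⟨hPQ, ?_⟩
  intro n hn n' hn'
  have hm : n'⁻¹ * (δi⁻¹ * n' * δi) ∈ Q := by
    have h1 := T.step hn' hδi
    have h2 := (hnorm n' hn' _ h1).1
    simpa [mul_assoc] using h2
  set m := n'⁻¹ * (δi⁻¹ * n' * δi) with hmdef
  have h1 : ⁅n, n' * m⁆ ∈ P ⊓ Q := by
    have hP1 : ⁅n, n' * m⁆ ∈ P := by
      rw [commutatorElement_def]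
      have := mul_mem (mul_mem (mul_mem hn hn') (hnorm n⁻¹ (inv_mem hn) m⁻¹ (inv_mem hm) |> fun h => h.2)) (inv_mem hn')
      simpa [mul_assoc] using this
    refine ⟨hP1, hmeet _ hP1 ?_⟩
    rw [show n' * m = δi⁻¹ * n' * δi by rw [hmdef]; group, commutatorElement_def]
    have hn2 : δi * n * δi⁻¹ * n⁻¹ ∈ Q := by
      have := T.step hn (inv_mem hδi)
      rwa [inv_inv] at this
    have h3 := (hnorm n' hn' _ hn2)
    have h4 : (δi * n * δi⁻¹ * n⁻¹)⁻¹ * n'⁻¹ * (δi * n * δi⁻¹ * n⁻¹) ∈ P :=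
      (hnorm n'⁻¹ (inv_mem hn') _ hn2).2
    have h5 := (hnorm n' hn' (δi * n * δi⁻¹ * n⁻¹)⁻¹ (inv_mem hn2)).2
    have h6 := mul_mem (mul_mem (show δi * n * δi⁻¹ * n⁻¹ * (n * n' * n⁻¹) * (δi * n * δi⁻¹ * n⁻¹)⁻¹ ∈ P by
      simpa [mul_assoc] using (hnorm (n * n' * n⁻¹) (mul_mem (mul_mem hn hn') (inv_mem hn))
        (δi * n * δi⁻¹ * n⁻¹)⁻¹ (inv_mem hn2)).2) (one_mem P)) (inv_mem hn')
    simpa [mul_assoc] using h6
  have h2 := hPQ n hn m hm
  have h3 : n' * ⁅n, m⁆ * n'⁻¹ ∈ P ⊓ Q := by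
    refine ⟨Subgroup.mul_mem _ (Subgroup.mul_mem _ hn' h2.1) (Subgroup.inv_mem _ hn'), ?_⟩
    simpa using (hnorm n'⁻¹ (inv_mem hn') _ h2.2).1
  have h4 : ⁅n, n'⁆ = ⁅n, n' * m⁆ * (n' * ⁅n, m⁆ * n'⁻¹)⁻¹ := by
    simp only [commutatorElement_def]; group
  rw [h4]
  exact mul_mem h1 (inv_mem h3)

/-- There are no twins besides `A` itself. -/
theorem Tri.no_twin (T : Tri S A D C) {αi αj : G} (hi : αi ∈ A) (hi1 : αi ≠ 1) (hj : αj ∈ A) (hj1 : αj ≠ 1)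
    (hne : αi ≠ αj) (hmul : αi * αj ≠ 1) {B : Subgroup G} (hB : B ∈ S) (hBA : Same S B A) : B = A := by
  by_contra hBne
  obtain ⟨r, hr, er⟩ := T.exists_rep hB hBA hBne
  obtain ⟨E, T'⟩ := T.exists_flip
  have hcen : ∀ z ∈ Rk T.dich A D ⊓ Rk T.dich D A, (∀ a ∈ A, a * z = z * a) ∧ ∀ d ∈ D, d * z = z * d :=
    fun z hz => T.inter_central hi hi1 hj hj1 hne hz.1 hz.2
  have hcomm : ∀ x ∈ A, ∀ y ∈ A, x * y = y * x := fun x hx y hy => commute_of_mem T.dich.set T.mem_left hx hy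
  have hdcomm : ∀ x ∈ D, ∀ y ∈ D, x * y = y * x :=
    fun x hx y hy => commute_of_mem T.dich.set T.mem_right hx hy
  obtain ⟨δi, hδi, hδi1, eδi⟩ := exists_link T.pair hi hi1
  obtain ⟨δj, hδj, hδj1, eδj⟩ := exists_link T.pair hj hj1
  have hdne : δi ≠ δj := fun e => hne (rc_inj_left T.pair hi hj (by rw [← eδi, ← eδj, e]))
  obtain ⟨hPQ, habP⟩ := T.abelian hi hi1 hj hj1 hne
  obtain ⟨hQP, habQ⟩ := T'.abelian hδi hδi1 hδj hδj1 hdne
  set P := Rk T.dich A D with hP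
  set Q := Rk T.dich D A with hQ
  rw [inf_comm] at hQP habQ
  have hsub : P ⊔ Q ≤ normalizer ((P ⊓ Q : Subgroup G) : Set G) := by
    have hinv : P ⊔ Q ≤ normalizer ((P ⊓ Q : Subgroup G) : Set G) := by
      have h1 : ∀ g, g ∈ P ∨ g ∈ Q → ∀ z ∈ P ⊓ Q, g * z * g⁻¹ ∈ P ⊓ Q := by
        intro g hg z hz
        have hc : ⁅g, z⁆ ∈ P ⊓ Q := by
          rcases hg with hg | hg
          · exact habP g hg z hz.1
          · exact habQ g hg z hz.2
        have := mul_mem hc hz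
        simpa [commutatorElement_def, mul_assoc] using this
      refine sup_le ?_ ?_
      all_goals
        intro g hg
        rw [mem_normalizer_iff]
        intro z
        refine ⟨h1 g (by tauto) z, fun h => ?_⟩
        have := h1 g⁻¹ (by simp [hg]) _ h
        simpa [mul_assoc] using this
    exact hinv
  have hab : ∀ x ∈ P ⊔ Q, ∀ y ∈ P ⊔ Q, ⁅x, y⁆ ∈ P ⊓ Q := by
    -- it is enough to test generators
    have hgen : ⁅P ⊔ Q, P ⊔ Q⁆ ≤ P ⊓ Q := by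
      have hN : (P ⊔ Q) ≤ normalizer ((P ⊓ Q : Subgroup G) : Set G) := hsub
      let W := P ⊔ Q
      let N := (P ⊓ Q).subgroupOf W
      have : N.Normal := (normal_subgroupOf_iff_le_normalizer (inf_le_left.trans le_sup_left)).2 hN
      have key : ∀ x y : W, ((x : G) ∈ P ∨ (x : G) ∈ Q) → ((y : G) ∈ P ∨ (y : G) ∈ Q) →
          Commute (QuotientGroup.mk' N x) (QuotientGroup.mk' N y) := by
        intro x y hx hy
        rw [← commutatorElement_eq_one_iff_commute, ← map_commutatorElement, QuotientGroup.mk'_apply,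
          QuotientGroup.eq_one_iff, mem_subgroupOf]
        show ⁅(x : G), (y : G)⁆ ∈ P ⊓ Q
        rcases hx with hx | hx <;> rcases hy with hy | hy
        · exact habP _ hx _ hy
        · exact hPQ _ hx _ hy
        · exact hQP _ hx _ hy
        · exact habQ _ hx _ hy
      have htop : P.subgroupOf W ⊔ Q.subgroupOf W = ⊤ := by
        rw [← subgroupOf_sup le_sup_left le_sup_right, subgroupOf_self]
      have hall : ∀ x y : W, Commute (QuotientGroup.mk' N x) (QuotientGroup.mk' N y) := by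
        have h1 : ∀ y : W, ((y : G) ∈ P ∨ (y : G) ∈ Q) → ∀ x : W,
            Commute (QuotientGroup.mk' N x) (QuotientGroup.mk' N y) := by
          intro y hy x
          have hle : P.subgroupOf W ⊔ Q.subgroupOf W ≤
              (centralizer {QuotientGroup.mk' N y}).comap (QuotientGroup.mk' N) :=
            sup_le (fun z hz => mem_centralizer_singleton_iff.2 (key z y (Or.inl hz) hy).eq)
              (fun z hz => mem_centralizer_singleton_iff.2 (key z y (Or.inr hz) hy).eq)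
          exact mem_centralizer_singleton_iff.1 (hle (htop ▸ mem_top x))
        intro x y
        have hle : P.subgroupOf W ⊔ Q.subgroupOf W ≤
            (centralizer {QuotientGroup.mk' N x}).comap (QuotientGroup.mk' N) :=
          sup_le (fun z hz => mem_centralizer_singleton_iff.2 (h1 z (Or.inl hz) x).eq.symm)
            (fun z hz => mem_centralizer_singleton_iff.2 (h1 z (Or.inr hz) x).eq.symm)
        exact (mem_centralizer_singleton_iff.1 (hle (htop ▸ mem_top y))).symm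
      rw [commutator_le]
      intro x hx y hy
      have := commutatorElement_eq_one_iff_commute.2 (hall ⟨x, hx⟩ ⟨y, hy⟩)
      rw [← map_commutatorElement, QuotientGroup.mk'_apply, QuotientGroup.eq_one_iff, mem_subgroupOf] at this
      exact this
    exact fun x hx y hy => commutator_le.1 hgen x hx y hy
  have hK : Kl T.dich A D = Kl T.dich D A := T.Kl_symm
  have hKd : ∀ δ ∈ D, ∀ x ∈ Kl T.dich A D, δ⁻¹ * x * δ ∈ Kl T.dich A D := by
    intro δ hδ x hx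
    rw [hK] at hx ⊢
    exact Kl_conj T.dich hδ hx
  have htriple : ∀ {α δ : G}, α ∈ A → α ≠ 1 → δ ∈ D → δ ≠ 1 → rc A δ = rc D α →
      rc P (α * δ⁻¹ * α) ≤ Q ∧ rc Q (δ⁻¹ * α * δ⁻¹) ≤ P := by
    intro α δ hα hα1 hδ hδ1 e
    refine ⟨T.transport ?_ ?_, T'.transport ?_ ?_⟩
    · rw [← rc_mul, ← rc_mul, rc_of_mem hα, T.inv_link hα hα1 hδ hδ1 e, rc_rc_inv]
    · intro x hx
      have := Kl_conj T.dich hα (hKd _ (inv_mem hδ) _ (Kl_conj T.dich hα hx))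
      simpa [mul_assoc] using this
    · rw [← rc_mul, ← rc_mul, rc_of_mem (inv_mem hδ), ← e, rc_inv_rc]
    · intro x hx
      rw [← hK] at hx ⊢
      have := hKd _ (inv_mem hδ) _ (Kl_conj T.dich hα (hKd _ (inv_mem hδ) _ hx))
      simpa [mul_assoc] using this
  have quad := quad_group (I := P ⊓ Q) (P := P) (Q := Q) inf_le_left le_rfl hsub hab
    (ai := αi) (aj := αj) (ei := δi⁻¹) (ej := δj⁻¹) (hcomm _ hi _ hj)
    (hdcomm _ (inv_mem hδi) _ (inv_mem hδj))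
    (rc_Rk _ hi) (rc_Rk _ hj) (rc_Rk _ (inv_mem hδi)) (rc_Rk _ (inv_mem hδj))
    (fun z hz => ⟨(hcen z hz).1 _ hi, (hcen z hz).2 _ (inv_mem hδi)⟩)
    (fun z hz => ⟨(hcen z hz).1 _ hj, (hcen z hz).2 _ (inv_mem hδj)⟩)
    (fun s hs => T'.step hs hi) (fun s hs => T'.step hs hj)
    (fun x hx => T.step hx (inv_mem hδi)) (fun x hx => T.step hx (inv_mem hδj))
    (htriple hi hi1 hδi hδi1 eδi).1 (htriple hj hj1 hδj hδj1 eδj).1
    (htriple hi hi1 hδi hδi1 eδi).2 (htriple hj hj1 hδj hδj1 eδj).2 r hr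
  set y := αi⁻¹ * r * αi * (αj⁻¹ * r * αj)⁻¹ with hy
  have hyK : y ∈ Kl T.dich A D :=
    (mul_mem (Rk_conj T.dich hi hr) (inv_mem (Rk_conj T.dich hj hr))).2
  have hα : αj * αi ∈ A := mul_mem hj hi
  have hα1 : αj * αi ≠ 1 := by rwa [hcomm _ hj _ hi]
  have hyc : ∀ a ∈ A, a * y = y * a := T.central_step hyK hα hα1 (fun a ha => by
    have h1 := (hcen _ quad).1 a ha
    set z := y⁻¹ * ((αj * αi)⁻¹ * y * (αj * αi)) with hz
    rw [show y⁻¹ * (αj * αi)⁻¹ * y * (αj * αi) = z by rw [hz]; group]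
    exact h1)
  set β := αi * αj⁻¹ with hβ
  have hβ1 : β ≠ 1 := fun e => hne (mul_inv_eq_one.1 e)
  have hx : β⁻¹ * r * β * r⁻¹ = y := by
    calc β⁻¹ * r * β * r⁻¹ = αj * y * αj⁻¹ := by rw [hβ, hy]; group
      _ = y := by rw [hyc _ hj, mul_inv_cancel_right]
  have hrc : ∀ a ∈ A, a * r⁻¹ = r⁻¹ * a := T.central_step (inv_mem hr.2) (mul_mem hi (inv_mem hj)) hβ1 (fun a ha => by
    rw [show r⁻¹⁻¹ * β⁻¹ * r⁻¹ * β = (β⁻¹ * r * β * r⁻¹)⁻¹ by group, hx]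
    exact (Commute.inv_right (hyc a ha)).eq)
  apply hBne
  rw [← er]
  exact conjBy_eq_of_commute fun a ha => (hrc a ha).symm

end Main

end Cfsg.Agent.H87.Deg
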