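import Cfsg.Agent.H87.DegBasic

/-! Twins in a degenerate class: members with the same commuting partners. -/

set_option autoImplicit false

namespace Cfsg.Agent.H87.Deg

open Subgroup
open scoped commutatorElement

variable {G : Type*} [Group G] {S : Set (Subgroup G)}

theorem common_partner (hD : Dich S) (hcl : Cfsg.IsConjClassOfSubgroups S) (hp : HasPartners S)
    {A C : Subgroup G} (hA : A ∈ S) (hC : C ∈ S) (hne : C ≠ A) (hCA : ⁅C, A⁆ = ⊥) :
    ∃ D ∈ S, Cfsg.IsRankOnePair A D ∧ Cfsg.IsRankOnePair C D := by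
  have hreach : Relation.ReflTransGen (Cfsg.FAdj S) A C := by
    obtain ⟨g, rfl⟩ := hcl.2 A hA C hC
    obtain ⟨D, hDS, hAD⟩ := hp A hA
    exact conj_reach_all hD.set hA hDS hAD g
  suffices h : ∀ X, Relation.ReflTransGen (Cfsg.FAdj S) A X → X = A ∨ Cfsg.IsRankOnePair A X ∨
      ∃ D ∈ S, Cfsg.IsRankOnePair A D ∧ Cfsg.IsRankOnePair X D by
    rcases h C hreach with h | h | h
    · exact absurd h hne
    · exact absurd (bot_symm hCA) (not_bot_of_rankOne h)
    · exact h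
  intro X hX
  induction hX with
  | refl => exact Or.inl rfl
  | @tail X Y _ hXY ih =>
    obtain ⟨hXS, hYS, hxy⟩ := hXY
    rcases ih with rfl | h | ⟨D, hDS, hAD, hXD⟩
    · exact Or.inr (Or.inl hxy)
    · exact Or.inr (Or.inr ⟨X, hXS, h, rankOne_symm hxy⟩)
    · rcases hD.dich A hA Y hYS with hAY | hAY
      swap
      · exact Or.inr (Or.inl hAY)
      rcases hD.dich A hA X hXS with hAX | hAX
      swap
      · exact Or.inr (Or.inr ⟨X, hXS, hAX, rankOne_symm hxy⟩)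
      rcases hD.dich Y hYS D hDS with hYD | hYD
      swap
      · exact Or.inr (Or.inr ⟨D, hDS, hAD, hYD⟩)
      refine Or.inr (Or.inr ?_)
      obtain ⟨ξ, hξ, hξ1⟩ := X.bot_or_exists_ne_one.resolve_left (left_ne_bot hXD)
      obtain ⟨ε, hε, -, e⟩ := exists_link hXD hξ hξ1
      refine ⟨rc X ε, rc_mem hD hXS ε, ?_, ?_⟩
      · have h1 := rc_pair hAD ξ
        rwa [rc_fix hAX hξ, ← e] at h1
      · have h1 := rc_pair (rankOne_symm hxy) ε
        rwa [rc_fix hYD hε] at h1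

/-- Equality of the sets of commuting partners. -/
def Same (S : Set (Subgroup G)) (X Y : Subgroup G) : Prop :=
  Cfsg.commutingPartners S X = Cfsg.commutingPartners S Y

theorem mem_ps {X Z : Subgroup G} :
    Z ∈ Cfsg.commutingPartners S X ↔ Z ∈ S ∧ Z ≠ X ∧ ⁅X, Z⁆ = ⊥ := Iff.rfl

theorem rc_mem_ps (hD : Dich S) {X Z : Subgroup G} (g : G) (h : Z ∈ Cfsg.commutingPartners S X) :
    rc Z g ∈ Cfsg.commutingPartners S (rc X g) :=
  ⟨rc_mem hD h.1 g, fun e => h.2.1 (rc_inj e), rc_bot_of_bot h.2.2 g⟩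

theorem mem_ps_rc (hD : Dich S) {X Z : Subgroup G} (g : G) :
    Z ∈ Cfsg.commutingPartners S (rc X g) ↔ rc Z g⁻¹ ∈ Cfsg.commutingPartners S X := by
  constructor
  · intro h
    have := rc_mem_ps hD g⁻¹ h
    rwa [rc_inv_rc] at this
  · intro h
    have := rc_mem_ps hD g h
    rwa [rc_rc_inv] at this

theorem Same.symm {X Y : Subgroup G} (h : Same S X Y) : Same S Y X := Eq.symm h

theorem Same.trans {X Y Z : Subgroup G} (h : Same S X Y) (h' : Same S Y Z) : Same S X Z := Eq.trans h h'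

theorem Same.conj (hD : Dich S) {X Y : Subgroup G} (h : Same S X Y) (g : G) :
    Same S (rc X g) (rc Y g) := by
  ext Z
  rw [mem_ps_rc hD, mem_ps_rc hD]
  rw [show Cfsg.commutingPartners S X = Cfsg.commutingPartners S Y from h]

/-- Two members with a commuting third partnered to just one of them are not twins. -/
theorem not_same (X Y : Subgroup G) {Z : Subgroup G} (hZ : Z ∈ Cfsg.commutingPartners S X)
    (h : Cfsg.IsRankOnePair Z Y) : ¬ Same S X Y := fun e =>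
  not_bot_of_rankOne h (bot_symm ((show Cfsg.commutingPartners S X = Cfsg.commutingPartners S Y from e) ▸ hZ :
    Z ∈ Cfsg.commutingPartners S Y).2.2)

/-- The subgroup generated by the twins of `A`. -/
def XT (S : Set (Subgroup G)) (A : Subgroup G) : Subgroup G := ⨆ U ∈ {U | U ∈ S ∧ Same S U A}, U

theorem le_XT {A U : Subgroup G} (hU : U ∈ S) (h : Same S U A) : U ≤ XT S A :=
  le_iSup₂ (f := fun U (_ : U ∈ {U | U ∈ S ∧ Same S U A}) => U) U ⟨hU, h⟩

theorem XT_congr {A A' : Subgroup G} (h : Same S A A') : XT S A = XT S A' := by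
  have : {U | U ∈ S ∧ Same S U A} = {U | U ∈ S ∧ Same S U A'} := by
    ext U
    exact and_congr_right fun _ => ⟨fun e => e.trans h, fun e => e.trans h.symm⟩
  rw [XT, XT, this]

theorem XT_rc_le (hD : Dich S) (A : Subgroup G) (g : G) : rc (XT S A) g ≤ XT S (rc A g) := by
  rw [rc, Subgroup.map_le_iff_le_comap, XT]
  refine iSup₂_le fun U hU => ?_
  rw [← Subgroup.map_le_iff_le_comap]
  exact le_XT (rc_mem hD hU.1 g) (Same.conj hD hU.2 g)

theorem XT_rc (hD : Dich S) (A : Subgroup G) (g : G) : rc (XT S A) g = XT S (rc A g) := by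
  refine le_antisymm (XT_rc_le hD A g) ?_
  intro x hx
  have h1 : g * x * g⁻¹ ∈ rc (XT S (rc A g)) g⁻¹ := by
    rw [mem_rc, inv_inv]
    convert hx using 1
    group
  have h2 := XT_rc_le hD (rc A g) g⁻¹ h1
  rw [rc_inv_rc] at h2
  exact mem_rc.2 h2

theorem XT_centralized (A : Subgroup G) {Z : Subgroup G} (hZ : Z ∈ Cfsg.commutingPartners S A) {x z : G}
    (hx : x ∈ XT S A) (hz : z ∈ Z) : x * z = z * x := by
  have hle : XT S A ≤ centralizer {z} := by
    refine iSup₂_le fun U hU u hu => mem_centralizer_singleton_iff.2 ?_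
    have hZU : Z ∈ Cfsg.commutingPartners S U :=
      (show Cfsg.commutingPartners S U = Cfsg.commutingPartners S A from hU.2) ▸ hZ
    exact commute_of_bot hZU.2.2 hu hz
  exact mem_centralizer_singleton_iff.1 (hle hx)

/-- A rank one pair `A, D` with a member `C` commuting with `A` and partnered with `D`. -/
structure Tri (S : Set (Subgroup G)) (A D C : Subgroup G) : Prop where
  dich : Dich S
  mem_left : A ∈ S
  mem_right : D ∈ S
  mem_wit : C ∈ S
  pair : Cfsg.IsRankOnePair A D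
  wit_bot : ⁅C, A⁆ = ⊥
  wit_ne : C ≠ A
  wit_pair : Cfsg.IsRankOnePair C D

variable {A D C : Subgroup G}

theorem Tri.wit_ps (T : Tri S A D C) : C ∈ Cfsg.commutingPartners S A :=
  ⟨T.mem_wit, T.wit_ne, bot_symm T.wit_bot⟩

theorem Tri.inv_link (T : Tri S A D C) {α δ : G} (hα : α ∈ A) (hα1 : α ≠ 1) (hδ : δ ∈ D) (hδ1 : δ ≠ 1)
    (e : rc A δ = rc D α) : rc A δ⁻¹ = rc D α⁻¹ :=
  link_inv T.dich T.mem_left T.mem_right T.mem_wit T.pair T.wit_bot T.wit_ne T.wit_pair hα hα1 hδ hδ1 e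

theorem Tri.twin (T : Tri S A D C) {U : Subgroup G} (hU : U ∈ S) (h : Same S U A) : Tri S U D C := by
  have hC : C ∈ Cfsg.commutingPartners S U :=
    (show Cfsg.commutingPartners S U = Cfsg.commutingPartners S A from h) ▸ T.wit_ps
  refine ⟨T.dich, hU, T.mem_right, T.mem_wit, ?_, bot_symm hC.2.2, hC.2.1, T.wit_pair⟩
  refine rankOne_of_not_bot T.dich hU T.mem_right fun hb => ?_
  rcases eq_or_ne D U with rfl | hne
  · exact not_bot_of_rankOne T.wit_pair (bot_symm hC.2.2)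
  · have : D ∈ Cfsg.commutingPartners S A :=
      (show Cfsg.commutingPartners S U = Cfsg.commutingPartners S A from h) ▸ ⟨T.mem_right, hne, hb⟩
    exact not_bot_of_rankOne T.pair this.2.2

/-- The triangle seen from the other side. -/
theorem Tri.exists_flip (T : Tri S A D C) : ∃ E, Tri S D A E := by
  obtain ⟨δ, hδ, hδ1⟩ := D.bot_or_exists_ne_one.resolve_left (right_ne_bot T.pair)
  obtain ⟨α, hα, -, eα⟩ := exists_link' T.pair hδ hδ1
  obtain ⟨γ, hγ, -, eγ⟩ := exists_link' T.wit_pair hδ hδ1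
  have hAC : Cfsg.IsRankOnePair A (rc C δ) :=
    partner_translate T.dich T.mem_wit T.mem_left T.wit_pair (bot_symm T.wit_bot) T.pair hδ hδ1
  refine ⟨rc (rc C δ) α⁻¹, T.dich, T.mem_right, T.mem_left, rc_mem T.dich (rc_mem T.dich T.mem_wit δ) _,
    rankOne_symm T.pair, ?_, ?_, ?_⟩
  · have h1 := rc_bot_of_bot (rc_bot_of_bot T.wit_bot δ) α⁻¹
    rwa [eα, rc_inv_rc] at h1
  · intro e
    have h1 : rc C δ = rc A δ := by rw [eα, ← e, rc_rc_inv]
    exact T.wit_ne (rc_inj h1)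
  · have h1 := rankOne_symm (rc_pair hAC α⁻¹)
    rwa [rc_of_mem (inv_mem hα)] at h1

/-- The main step: twin translations differ by elements fixing every class on the line. -/
theorem Tri.key_le (T : Tri S A D C) {U : Subgroup G} (hU : U ∈ S) (hUA : Same S U A) {α α' β' δ δ' : G}
    (hα : α ∈ A) (hα1 : α ≠ 1) (hα' : α' ∈ A) (hβ' : β' ∈ U) (hδ : δ ∈ D) (hδ1 : δ ≠ 1)
    (e : rc A δ = rc D α) (e' : rc A δ' = rc D α') (f' : rc U δ' = rc D β') :
    Cfsg.commutingPartners S (rc D α⁻¹) ⊆ Cfsg.commutingPartners S (rc D (α⁻¹ * (α' * β'⁻¹))) := by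
  intro Z hZ
  have hD := T.dich
  rw [← T.inv_link hα hα1 hδ hδ1 e, mem_ps_rc hD, inv_inv] at hZ
  set Z0 := rc Z δ with hZ0
  have hZZ : Z = rc Z0 δ⁻¹ := (rc_inv_rc Z δ).symm
  have hUps : Z0 ∈ Cfsg.commutingPartners S U :=
    (show Cfsg.commutingPartners S U = Cfsg.commutingPartners S A from hUA) ▸ hZ
  have hfixA : ∀ x ∈ A, rc Z0 x = Z0 := fun x hx => rc_fix (bot_symm hZ.2.2) hx
  have hfixU : ∀ x ∈ U, rc Z0 x = Z0 := fun x hx => rc_fix (bot_symm hUps.2.2) hx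
  rcases hD.dich Z0 hZ.1 D T.mem_right with h | h
  · have hz : Z = Z0 := by rw [hZZ, rc_fix h (inv_mem hδ)]
    rw [hz, mem_ps_rc hD]
    have hfix : rc Z0 (α⁻¹ * (α' * β'⁻¹))⁻¹ = Z0 := by
      have h1 : rc Z0 (α⁻¹ * (α' * β'⁻¹)) = Z0 := by
        rw [← rc_mul, ← rc_mul, hfixA _ (inv_mem hα), hfixA _ hα', hfixU _ (inv_mem hβ')]
      conv_lhs => rw [← h1]
      exact rc_inv_rc _ _
    rw [hfix]
    exact ⟨hZ.1, fun e1 => not_bot_of_rankOne T.pair (e1 ▸ hZ.2.2), bot_symm h⟩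
  · obtain ⟨γ, hγ, hγ1, eγ⟩ := exists_link' h hδ hδ1
    have hzγ : Z = rc D γ⁻¹ := by
      rw [hZZ]
      exact link_inv hD hZ.1 T.mem_right T.mem_left h hZ.2.2 hZ.2.1.symm T.pair hγ hγ1 hδ hδ1 eγ
    have hm : rc A (δ * α⁻¹ * α' * δ'⁻¹) = A := by
      rw [← rc_mul, ← rc_mul, ← rc_mul, e, rc_inv_rc, ← e', rc_inv_rc]
    have h1 := rc_mem_ps hD (δ * α⁻¹ * α' * δ'⁻¹) hZ
    rw [hm, ← (show Cfsg.commutingPartners S U = Cfsg.commutingPartners S A from hUA)] at h1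
    have h2 := rc_mem_ps hD (β'⁻¹) (rc_mem_ps hD δ' h1)
    rw [f', rc_inv_rc, ← rc_mul, ← rc_mul, ← rc_mul, rc_rc_inv, eγ, rc_mul, rc_mul, rc_mul] at h2
    have hc1 : γ * (α⁻¹ * (α' * β'⁻¹)) = α⁻¹ * (α' * β'⁻¹) * γ := by
      have c1 : Commute γ α⁻¹ := (comm_elem (bot_symm hZ.2.2) hγ (inv_mem hα)).symm
      have c2 : Commute γ α' := (comm_elem (bot_symm hZ.2.2) hγ hα').symm
      have c3 : Commute γ β'⁻¹ := (comm_elem (bot_symm hUps.2.2) hγ (inv_mem hβ')).symm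
      exact (c1.mul_right (c2.mul_right c3)).eq
    rw [hc1] at h2
    have h3 := rc_mem_ps hD γ⁻¹ h2
    rw [rc_mul, mul_inv_cancel_right] at h3
    rw [hzγ]
    exact ⟨rc_mem hD T.mem_right _, fun e1 => h3.2.1 e1.symm, bot_symm h3.2.2⟩

theorem Tri.key (T : Tri S A D C) {U : Subgroup G} (hU : U ∈ S) (hUA : Same S U A) {α α' β' δ δ' : G}
    (hα : α ∈ A) (hα1 : α ≠ 1) (hα' : α' ∈ A) (hβ' : β' ∈ U) (hδ : δ ∈ D) (hδ1 : δ ≠ 1)
    (e : rc A δ = rc D α) (e' : rc A δ' = rc D α') (f' : rc U δ' = rc D β') :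
    Same S (rc D (α⁻¹ * (α' * β'⁻¹))) (rc D α⁻¹) := by
  have TU := T.twin hU hUA
  obtain ⟨β, hβ, hβ1, f⟩ := exists_link' TU.pair hδ hδ1
  have h2 : Same S (rc D β⁻¹) (rc D α⁻¹) := by
    rw [← TU.inv_link hβ hβ1 hδ hδ1 f, ← T.inv_link hα hα1 hδ hδ1 e]
    exact hUA.conj T.dich _
  refine Set.Subset.antisymm ?_ (T.key_le hU hUA hα hα1 hα' hβ' hδ hδ1 e e' f')
  have h3 := TU.key_le T.mem_left hUA.symm hβ hβ1 hβ' hα' hδ hδ1 f f' e'
  intro Z hZ
  have h4 := (rc_mem_ps T.dich (α' * β'⁻¹)⁻¹ hZ)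
  rw [rc_mul, mul_inv_cancel_right, ← (show Cfsg.commutingPartners S (rc D β⁻¹) = _ from h2)] at h4
  have h5 := h3 h4
  rw [show β'  * α'⁻¹ = (α' * β'⁻¹)⁻¹ by group, ← rc_mul, mem_ps_rc T.dich, inv_inv, rc_rc_inv,
    show Cfsg.commutingPartners S (rc D β⁻¹) = _ from h2] at h5
  exact h5

end Cfsg.Agent.H87.Deg
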