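import Cfsg.Agent.H44.Hexacode
import Mathlib.GroupTheory.Perm.Sign

/-! Kernel computations for the monomial automorphisms of the hexacode. -/

set_option autoImplicit false

namespace Cfsg.Agent.H87.HexAut

open Cfsg.Agent.H44

/-- Membership by the three parity checks. -/
def inCode (x : Fin 6 → K4) : Prop :=
  x 3 = x 0 + x 1 + x 2 ∧ x 4 = k4mul k4w2 (x 0) + k4mul k4w (x 1) + x 2 ∧
    x 5 = k4mul k4w (x 0) + k4mul k4w2 (x 1) + x 2

instance (x : Fin 6 → K4) : Decidable (inCode x) := by unfold inCode; infer_instance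

/-- The nonzero elements. -/
def pw : Fin 3 → K4 := ![(1, 0), k4w, k4w2]

/-- The image of the three rows lies in the code. -/
def Good (σ : Equiv.Perm (Fin 6)) (e : Fin 6 → Fin 3) : Prop :=
  ∀ r, inCode fun i => k4mul (pw (e i)) (hexRows r (σ.symm i))

instance (σ : Equiv.Perm (Fin 6)) (e : Fin 6 → Fin 3) : Decidable (Good σ e) := by unfold Good; infer_instance

theorem inCode_hexEnc : ∀ c : K4 × K4 × K4, inCode (hexEnc c) := by decide +kernel

theorem exists_hexEnc : ∀ a b c : K4, hexEnc
    (k4mul a k4w + k4mul b k4w2, k4mul a k4w2 + k4mul b k4w2 + c, b + c) =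
    ![a, b, c, a + b + c, k4mul k4w2 a + k4mul k4w b + c, k4mul k4w a + k4mul k4w2 b + c] := by
  decide +kernel

theorem inCode_iff (x : Fin 6 → K4) : inCode x ↔ ∃ c, hexEnc c = x := by
  constructor
  · rintro ⟨h3, h4, h5⟩
    refine ⟨_, (exists_hexEnc (x 0) (x 1) (x 2)).trans ?_⟩
    funext i
    fin_cases i <;> simp [h3, h4, h5]
  · rintro ⟨c, rfl⟩; exact inCode_hexEnc c

set_option maxHeartbeats 2000000 in
theorem good_swap_pair : ∀ a b : Fin 6, a ≠ b → ∃ e, Good (Equiv.swap a b * Equiv.swap 0 1) e := by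
  decide +kernel

set_option maxHeartbeats 2000000 in
theorem not_good_swap : ∀ e, ¬ Good (Equiv.swap 0 1) e := by decide +kernel

set_option maxHeartbeats 2000000 in
theorem good_one : ∀ e, Good 1 e → ∀ i, e i = e 0 := by decide +kernel

end Cfsg.Agent.H87.HexAut
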