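import Mathlib
import Cfsg.Agent.H87.CommSup

/-! Lines (partitioned products of two commuting members) in sets of abstract root subgroups. -/

namespace Cfsg.Agent.H87

open Subgroup
open scoped commutatorElement

variable {G : Type*} [Group G] {S : Set (Subgroup G)}

/-- Every member of `S` has a rank one partner. -/
def HasPartners (S : Set (Subgroup G)) : Prop := ∀ A ∈ S, ∃ B ∈ S, Cfsg.IsRankOnePair A B

/-- The members of `S` inside `N` cover `N`. -/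
def Covers (S : Set (Subgroup G)) (N : Subgroup G) : Prop :=
  ∀ x ∈ N, x ≠ 1 → ∃ C ∈ Cfsg.membersIn S N, x ∈ C

theorem not_bot_of_rankOne {A B : Subgroup G} (h : Cfsg.IsRankOnePair A B) : ⁅A, B⁆ ≠ ⊥ := by
  intro e
  obtain ⟨a, ha, ha1⟩ := A.bot_or_exists_ne_one.resolve_left (left_ne_bot h)
  obtain ⟨b, hb, hb1⟩ := B.bot_or_exists_ne_one.resolve_left (right_ne_bot h)
  exact hb1 (eq_one_of_rankOne_of_commute h ha hb (commute_of_bot e ha hb) ha1)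

section InS

variable (hS : Cfsg.IsRootSubgroupSet S)
include hS

theorem hasPartners_of_not_isolated (hF : ∀ A ∈ S, ¬ Cfsg.IsIsolatedIn (Cfsg.FAdj S) S A) : HasPartners S :=
  fun A hA => exists_partner (hF A hA) hA

theorem hasPartners_of_class (hcl : Cfsg.IsConjClassOfSubgroups S)
    (h : ∃ A ∈ S, ∃ B ∈ S, Cfsg.IsRankOnePair A B) : HasPartners S := by
  intro C hC
  obtain ⟨A, hA, B, hB, hAB⟩ := h
  obtain ⟨g, rfl⟩ := hcl.2 A hA C hC
  exact ⟨_, hS.conj_mem B hB g, rankOnePair_conj hAB g⟩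

theorem exists_comm_of_class (hcl : Cfsg.IsConjClassOfSubgroups S)
    (h : ∃ A ∈ S, ∃ B ∈ S, Cfsg.RootCommutatorCase S A B) {A : Subgroup G} (hA : A ∈ S) :
    ∃ F ∈ S, Cfsg.RootCommutatorCase S A F := by
  obtain ⟨A₀, hA₀, F₀, hF₀, hc⟩ := h
  obtain ⟨g, rfl⟩ := hcl.2 A₀ hA₀ A hA
  refine ⟨_, hS.conj_mem F₀ hF₀ g, comm_case_of_mem hS hA (hS.conj_mem _ hF₀ g) ?_⟩
  rw [← conjBy_commutator]
  exact hS.conj_mem _ hc.1 g

theorem comm_case_conj {A F : Subgroup G} (hA : A ∈ S) (hF : F ∈ S) (h : Cfsg.RootCommutatorCase S A F)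
    (g : G) : Cfsg.RootCommutatorCase S (Cfsg.conjBy A g) (Cfsg.conjBy F g) :=
  comm_case_of_mem hS (hS.conj_mem A hA g) (hS.conj_mem F hF g) (by rw [← conjBy_commutator]; exact hS.conj_mem _ h.1 g)

variable (hp : HasPartners S)
include hp

theorem eq_of_mem' {A E : Subgroup G} (hA : A ∈ S) (hE : E ∈ S) {a : G} (ha : a ∈ A) (haE : a ∈ E)
    (ha1 : a ≠ 1) : E = A := by
  obtain ⟨B, hB, hAB⟩ := hp A hA
  exact eq_of_mem_of_mem hS hA hB hE hAB ha ha1 haE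

theorem inf_eq_bot_of_ne {A E : Subgroup G} (hA : A ∈ S) (hE : E ∈ S) (hne : A ≠ E) : A ⊓ E = ⊥ := by
  rw [eq_bot_iff_forall]
  intro x hx
  by_contra hx1
  exact hne (eq_of_mem' hS hp hA hE hx.1 hx.2 hx1).symm

/-- Members inside `A⁅A, F⁆`: the commutator and the conjugates of `A` under `F`. -/
theorem mem_line_cases {A F P : Subgroup G} (hA : A ∈ S) (hc : Cfsg.RootCommutatorCase S A F)
    (hP : P ∈ S) (hPle : P ≤ A ⊔ ⁅A, F⁆) :
    P = ⁅A, F⁆ ∨ ∃ f ∈ F, P = Cfsg.conjBy A f := by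
  obtain ⟨x, hx, hx1⟩ := P.bot_or_exists_ne_one.resolve_left (hS.ne_bot P hP)
  obtain ⟨a, ha, k, hk, rfl⟩ := exists_mul_of_mem_sup (commute_left_comm hc) (hPle hx)
  rcases eq_or_ne a 1 with rfl | ha1
  · rw [one_mul] at hx hx1
    exact Or.inl (eq_of_mem' hS hp hc.1 hP hk hx hx1)
  · obtain ⟨f, hf, e⟩ := exists_commutator_eq hS hc ha ha1 (inv_mem hk)
    refine Or.inr ⟨f, hf, eq_of_mem' hS hp (hS.conj_mem A hA f) hP ?_ hx hx1⟩
    have : f * a * f⁻¹ = a * k := by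
      rw [commute_left_comm hc a ha k hk, ← inv_inv k, ← e]; group
    rw [← this]
    exact conj_mem_conjBy f ha

omit hp in
theorem conjBy_le_line {A F : Subgroup G} {f : G} (hf : f ∈ F) :
    Cfsg.conjBy A f ≤ A ⊔ ⁅A, F⁆ := by
  intro x hx
  rw [mem_conjBy] at hx
  have h1 : f * (f⁻¹ * x * f) * f⁻¹ * (f⁻¹ * x * f)⁻¹ ∈ ⁅A, F⁆ := by
    rw [commutator_comm]; exact commutator_mem_commutator hf hx
  simpa [mul_assoc] using mul_mem (mem_sup_right (S := A) h1) (mem_sup_left hx)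

omit hp in
theorem covers_comm_line {A F : Subgroup G} (hA : A ∈ S) (hc : Cfsg.RootCommutatorCase S A F) :
    Covers S (A ⊔ ⁅A, F⁆) := by
  intro x hx _
  obtain ⟨a, ha, k, hk, rfl⟩ := exists_mul_of_mem_sup (commute_left_comm hc) hx
  rcases eq_or_ne a 1 with rfl | ha1
  · exact ⟨_, ⟨hc.1, le_sup_right⟩, by rwa [one_mul]⟩
  · obtain ⟨f, hf, e⟩ := exists_commutator_eq hS hc ha ha1 (inv_mem hk)
    refine ⟨_, ⟨hS.conj_mem A hA f, conjBy_le_line hS hf⟩, ?_⟩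
    rw [commute_left_comm hc a ha k hk, ← inv_inv k, ← e]
    simpa [mul_assoc] using conj_mem_conjBy f ha

/-- A commutator is a line partner. -/
theorem linePartner_of_comm {A F : Subgroup G} (hA : A ∈ S) (hc : Cfsg.RootCommutatorCase S A F) :
    ⁅A, F⁆ ∈ Cfsg.linePartners S A := by
  refine ⟨⟨hc.1, comm_left_ne hS hA hc, bot_of_commute (commute_left_comm hc)⟩, fun C hC => hC.2,
    fun x hx hx1 => covers_comm_line hS hA hc x hx hx1, fun C hC D hD hne => inf_eq_bot_of_ne hS hp hC.1 hD.1 hne⟩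

omit hp in
theorem linePartner_symm {A C : Subgroup G} (hA : A ∈ S) (h : C ∈ Cfsg.linePartners S A) :
    A ∈ Cfsg.linePartners S C := by
  refine ⟨⟨hA, fun e => h.1.2.1 e.symm, bot_symm h.1.2.2⟩, ?_⟩
  rw [sup_comm]
  exact h.2

omit hp in
theorem covers_of_linePartner {A C : Subgroup G} (h : C ∈ Cfsg.linePartners S A) : Covers S (A ⊔ C) :=
  h.2.2.1

omit hp in
/-- The hexagon: `A`, `B` rank one, `E` on a line with `A` and not paired with `B`. -/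
theorem hexagon {A B E : Subgroup G} (hA : A ∈ S) (hB : B ∈ S) (hE : E ∈ S) (hAB : Cfsg.IsRankOnePair A B)
    (hAE : ⁅A, E⁆ = ⊥) (hprod : ∀ a ∈ A, ∀ e ∈ E, ∃ P ∈ S, a * e ∈ P) (hEB : ¬ Cfsg.IsRankOnePair E B) :
    Cfsg.RootCommutatorCase S E B ∧ Cfsg.RootCommutatorCase S A ⁅E, B⁆ ∧
      ∀ a ∈ A, a ≠ 1 → ∀ b ∈ B, Cfsg.conjBy A b⁻¹ = Cfsg.conjBy B a⁻¹ → ∀ e ∈ E,
        a * (b * e * b⁻¹ * e⁻¹) * a⁻¹ * (b * e * b⁻¹ * e⁻¹)⁻¹ = e := by
  obtain ⟨e₀, he₀, he₁⟩ := E.bot_or_exists_ne_one.resolve_left (hS.ne_bot E hE)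
  obtain ⟨a₀, ha₀, ha₁⟩ := A.bot_or_exists_ne_one.resolve_left (left_ne_bot hAB)
  have hkill : ∀ {Q : Subgroup G}, Q ∈ S → Cfsg.IsRankOnePair A Q → ⁅E, Q⁆ = ⊥ → False := by
    intro Q hQ hAQ hEQ
    obtain ⟨P, hP, hm⟩ := hprod a₀ ha₀ e₀ he₀
    rw [commute_of_bot hAE ha₀ he₀] at hm
    have hz : e₀ ∈ centralizer ((A ⊔ Q : Subgroup G) : Set G) :=
      le_centralizer_of_bot (bot_symm (commutator_sup_eq_bot hAE (bot_symm hEQ))) he₀
    exact he₁ (eq_of_mul_mem hS hA hQ hP hAQ hz ha₀ ha₁ hm).2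
  have hc1 : Cfsg.RootCommutatorCase S E B := by
    rcases hS.pair E hE B hB with h | h | h
    · exact (hkill hB hAB h).elim
    · exact absurd h hEB
    · exact h
  set L := ⁅E, B⁆ with hL
  have hEL : ⁅E, L⁆ = ⊥ := bot_of_commute (commute_left_comm hc1)
  have hBL : ⁅B, L⁆ = ⊥ := bot_of_commute (commute_right_comm hc1)
  have hc2 : Cfsg.RootCommutatorCase S A L := by
    rcases hS.pair A hA L hc1.1 with h | h | h
    · exfalso
      obtain ⟨b, hb, hb1⟩ := B.bot_or_exists_ne_one.resolve_left (right_ne_bot hAB)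
      obtain ⟨l, hl, hl1⟩ := L.bot_or_exists_ne_one.resolve_left (hS.ne_bot L hc1.1)
      obtain ⟨e, he, ee⟩ := exists_commutator_eq hS (comm_case_symm hc1) hb hb1
        (commutator_comm E B ▸ (inv_mem hl) : l⁻¹ ∈ ⁅B, E⁆)
      have hm : l * b ∈ Cfsg.conjBy B e := by
        have : l * b = e * b * e⁻¹ := by rw [← inv_inv l, ← ee]; group
        rw [this]; exact conj_mem_conjBy e hb
      have hz : l ∈ centralizer ((B ⊔ A : Subgroup G) : Set G) :=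
        le_centralizer_of_bot (bot_symm (commutator_sup_eq_bot hBL h)) hl
      exact hl1 (eq_of_mul_mem hS hB hA (hS.conj_mem B hB e) (rankOne_symm hAB) hz hb hb1 hm).2
    · exact (hkill hc1.1 h hEL).elim
    · exact h
  refine ⟨hc1, hc2, fun a ha ha1 b hb hrel e he => ?_⟩
  set l := b * e * b⁻¹ * e⁻¹ with hl
  have hlL : l ∈ L := by rw [hL, commutator_comm]; exact commutator_mem_commutator hb he
  set m := a * l * a⁻¹ * l⁻¹ with hm
  have hmM : m ∈ ⁅A, L⁆ := commutator_mem_commutator ha hlL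
  have hel : Commute e l := commute_left_comm hc1 e he l hlL
  have hbl : Commute b l := commute_right_comm hc1 b hb l hlL
  have hml : Commute m l := (commute_right_comm hc2 l hlL m hmM).symm
  have hma : ∀ x ∈ A, Commute m x := fun x hx => (commute_left_comm hc2 x hx m hmM).symm
  have hea : ∀ x ∈ A, Commute e x := fun x hx => (commute_of_bot hAE hx he).symm
  have e1 : b⁻¹ * e * b = e * l⁻¹ := by
    have h1 : b * e * b⁻¹ = l * e := by rw [hl]; group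
    calc b⁻¹ * e * b = b⁻¹ * (l⁻¹ * (l * e)) * b := by group
      _ = b⁻¹ * l⁻¹ * b * e := by rw [← h1]; group
      _ = l⁻¹ * b⁻¹ * b * e := by rw [hbl.inv_inv.eq]
      _ = e * l⁻¹ := by rw [inv_mul_cancel_right, hel.inv_right.eq]
  have e2 : a * (b⁻¹ * e * b) * a⁻¹ = e * m⁻¹ * l⁻¹ := by
    rw [e1]
    calc a * (e * l⁻¹) * a⁻¹ = (a * e) * l⁻¹ * a⁻¹ := by group
      _ = (e * a) * l⁻¹ * a⁻¹ := by rw [(hea a ha).eq]
      _ = e * (m * l)⁻¹ := by rw [hm]; group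
      _ = e * m⁻¹ * l⁻¹ := by rw [hml.eq, mul_inv_rev, mul_assoc]
  have hzB : ∀ y ∈ B, Commute (e * m⁻¹) y := by
    intro y hy
    have h2 : Commute (a * (b⁻¹ * e * b) * a⁻¹) y := by
      have h3 : a⁻¹ * y * a⁻¹⁻¹ ∈ Cfsg.conjBy A b⁻¹ := hrel ▸ conj_mem_conjBy a⁻¹ hy
      rw [mem_conjBy] at h3
      have h4 := hea _ h3
      have h5 := congrArg (fun t => a * (b⁻¹ * t * b) * a⁻¹) h4.eq
      show _ * y = y * _
      calc a * (b⁻¹ * e * b) * a⁻¹ * y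
          = a * (b⁻¹ * (e * (b⁻¹⁻¹ * (a⁻¹ * y * a⁻¹⁻¹) * b⁻¹)) * b) * a⁻¹ := by group
        _ = a * (b⁻¹ * ((b⁻¹⁻¹ * (a⁻¹ * y * a⁻¹⁻¹) * b⁻¹) * e) * b) * a⁻¹ := h5
        _ = y * (a * (b⁻¹ * e * b) * a⁻¹) := by group
    rw [e2] at h2
    have h6 := h2.mul_left (show Commute l y from (commute_right_comm hc1 y hy l hlL).symm)
    rwa [inv_mul_cancel_right] at h6
  have hz : e * m⁻¹ ∈ centralizer ((A ⊔ B : Subgroup G) : Set G) := by
    have hle : A ⊔ B ≤ centralizer {e * m⁻¹} := sup_le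
      (fun x hx => mem_centralizer_singleton_iff.2 ((hea x hx).mul_left (hma x hx).inv_left).eq.symm)
      (fun x hx => mem_centralizer_singleton_iff.2 (hzB x hx).eq.symm)
    exact mem_centralizer_iff.2 fun x hx => mem_centralizer_singleton_iff.1 (hle hx)
  obtain ⟨l', hl', el'⟩ := exists_commutator_eq hS hc2 ha ha1 hmM
  obtain ⟨P, hP, hmem⟩ := hprod a ha e he
  have hza : e * m⁻¹ * a ∈ Cfsg.conjBy P l' := by
    have h7 : m⁻¹ * a = l' * a * l'⁻¹ := by rw [← el']; group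
    have hel' : Commute e l' := commute_left_comm hc1 e he l' hl'
    have : e * m⁻¹ * a = l' * (a * e) * l'⁻¹ := by
      rw [mul_assoc, h7, ← (hea a ha).eq]
      calc e * (l' * a * l'⁻¹) = (e * l') * a * l'⁻¹ := by group
        _ = _ := by rw [hel'.eq]; group
    rw [this]; exact conj_mem_conjBy l' hmem
  exact (mul_inv_eq_one.1 (eq_of_mul_mem hS hA hB (hS.conj_mem P hP l') hAB hz ha ha1 hza).2).symm

theorem hexagon_comm {A B E : Subgroup G} (hA : A ∈ S) (hB : B ∈ S) (hE : E ∈ S) (hAB : Cfsg.IsRankOnePair A B)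
    (hAE : ⁅A, E⁆ = ⊥) (hprod : ∀ a ∈ A, ∀ e ∈ E, ∃ P ∈ S, a * e ∈ P) (hEB : ¬ Cfsg.IsRankOnePair E B) :
    ⁅A, ⁅E, B⁆⁆ = E := by
  obtain ⟨hc1, hc2, hid⟩ := hexagon hS hA hB hE hAB hAE hprod hEB
  obtain ⟨a, ha, ha1⟩ := A.bot_or_exists_ne_one.resolve_left (left_ne_bot hAB)
  obtain ⟨e, he, he1⟩ := E.bot_or_exists_ne_one.resolve_left (hS.ne_bot E hE)
  obtain ⟨b, hb, -, hrel⟩ := hAB.cond_left a ha ha1
  refine eq_of_mem' hS hp hE hc2.1 he ?_ he1
  rw [← hid a ha ha1 b hb hrel e he]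
  refine commutator_mem_commutator ha ?_
  rw [commutator_comm]
  exact commutator_mem_commutator hb he

omit hp in
theorem prod_mem_of_covers {N A E : Subgroup G} (hN : Covers S N) (hA : A ∈ S) (hAN : A ≤ N) (hEN : E ≤ N) :
    ∀ a ∈ A, ∀ e ∈ E, ∃ P ∈ S, a * e ∈ P := by
  intro a ha e he
  rcases eq_or_ne (a * e) 1 with h | h
  · exact ⟨A, hA, h ▸ one_mem A⟩
  · obtain ⟨P, hP, hm⟩ := hN _ (mul_mem (hAN ha) (hEN he)) h
    exact ⟨P, hP.1, hm⟩

/-- A line `A U` is a commutator line. -/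
theorem line_struct {A U B : Subgroup G} (hA : A ∈ S) (hU : U ∈ S) (hB : B ∈ S) (hne : U ≠ A)
    (hAU : ⁅A, U⁆ = ⊥) (hcov : Covers S (A ⊔ U)) (hAB : Cfsg.IsRankOnePair A B) :
    ∃ P ∈ S, ¬ Cfsg.IsRankOnePair P B ∧ Cfsg.RootCommutatorCase S P B ∧
      Cfsg.RootCommutatorCase S A ⁅P, B⁆ ∧ ⁅A, ⁅P, B⁆⁆ = P ∧ A ⊔ P = A ⊔ U := by
  have key : ∀ P ∈ S, P ≤ A ⊔ U → ¬ Cfsg.IsRankOnePair P B → ⁅A, P⁆ = ⊥ ∧
      Cfsg.RootCommutatorCase S P B ∧ Cfsg.RootCommutatorCase S A ⁅P, B⁆ ∧ ⁅A, ⁅P, B⁆⁆ = P := by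
    intro P hP hle hPB
    have hAP : ⁅A, P⁆ = ⊥ := le_bot_iff.1 ((commutator_mono le_rfl hle).trans
      (bot_symm (commutator_sup_eq_bot (bot_of_commute fun x hx y hy => commute_of_mem hS hA hx hy)
        (bot_symm hAU))).le)
    have hprod := prod_mem_of_covers hS hcov hA le_sup_left hle
    obtain ⟨h1, h2, -⟩ := hexagon hS hA hB hP hAB hAP hprod hPB
    exact ⟨hAP, h1, h2, hexagon_comm hS hp hA hB hP hAB hAP hprod hPB⟩
  by_cases hUB : Cfsg.IsRankOnePair U B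
  · obtain ⟨u, hu, hu1⟩ := U.bot_or_exists_ne_one.resolve_left (hS.ne_bot U hU)
    obtain ⟨b, hb, hb1, e1⟩ := exists_conjBy_left hUB hu hu1
    obtain ⟨a, ha, ha1, e2⟩ := exists_conjBy_right hAB hb hb1
    have hx1 : u⁻¹ * a ≠ 1 := fun e => ha1 (by
      have hua : u = a := inv_mul_eq_one.1 e
      by_contra h
      exact hne (eq_of_mem' hS hp hA hU ha (hua ▸ hu) h))
    obtain ⟨P, ⟨hP, hPle⟩, hxP⟩ := hcov (u⁻¹ * a)
      (mul_mem (mem_sup_right (inv_mem hu)) (mem_sup_left ha)) hx1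
    have hPB : ¬ Cfsg.IsRankOnePair P B := by
      intro h
      have hne' : Cfsg.conjBy B (u⁻¹ * a) ≠ B := fun e => hx1 (eq_one_of_fix h hxP e)
      have hr := rankOne_of_mem_ne (rankOne_symm h)
        (conjBy_mem_unipotent (left_mem B P) (mem_sup_right hxP)) hne'
      apply not_bot_of_rankOne hr
      have h1 := commutator_bot_conj (commutator_bot_conj (bot_symm hAU) b) u⁻¹
      rw [← e1, e2, conjBy_inv_conjBy, ← conjBy_mul] at h1
      exact h1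
    obtain ⟨hAP, h1, h2, h3⟩ := key P hP hPle hPB
    refine ⟨P, hP, hPB, h1, h2, h3, le_antisymm (sup_le le_sup_left hPle) (sup_le le_sup_left ?_)⟩
    -- `u = a x⁻¹` lies in a conjugate of `A`
    obtain ⟨l, hl, el⟩ := exists_commutator_eq hS h2 ha ha1 (show u⁻¹ * a ∈ ⁅A, ⁅P, B⁆⁆ by rw [h3]; exact hxP)
    have hu' : u ∈ Cfsg.conjBy A l := by
      have hua : Commute u a := (commute_of_bot hAU ha hu).symm
      have : u = l * a * l⁻¹ := by
        calc u = (u⁻¹ * a)⁻¹ * a := by rw [mul_inv_rev, inv_inv, mul_assoc, hua.eq, inv_mul_cancel_left]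
          _ = (a * l * a⁻¹ * l⁻¹)⁻¹ * a := by rw [el]
          _ = l * a * l⁻¹ := by group
      rw [this]; exact conj_mem_conjBy l ha
    rw [eq_of_mem' hS hp (hS.conj_mem A hA l) hU hu' hu hu1]
    conv_rhs => rw [← h3]
    exact conjBy_le_line hS hl
  · obtain ⟨hAP, h1, h2, h3⟩ := key U hU le_sup_right hUB
    exact ⟨U, hU, hUB, h1, h2, h3, rfl⟩

/-- Every ordered pair of members on a line comes from a commutator. -/
theorem line_comm {A U : Subgroup G} (hA : A ∈ S) (hU : U ∈ S) (hne : U ≠ A) (hAU : ⁅A, U⁆ = ⊥)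
    (hcov : Covers S (A ⊔ U)) {P Q : Subgroup G} (hP : P ∈ S) (hQ : Q ∈ S) (hPle : P ≤ A ⊔ U)
    (hQle : Q ≤ A ⊔ U) (hPQ : P ≠ Q) :
    ∃ F ∈ S, Cfsg.RootCommutatorCase S Q F ∧ ⁅Q, F⁆ = P ∧ Q ⊔ P = A ⊔ U := by
  obtain ⟨B, hB, hAB⟩ := hp A hA
  obtain ⟨K, hK, -, hc', hcK, eK, hN⟩ := line_struct hS hp hA hU hB hne hAU hcov hAB
  set N := A ⊔ U with hNdef
  have hKA : A ≠ K := fun e => comm_left_ne hS hA hcK (eK.trans e.symm)
  have hAK : ⁅A, K⁆ = ⊥ := eK ▸ bot_of_commute (commute_left_comm hcK)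
  obtain ⟨B', hB', hKB'⟩ := hp K hK
  have hNK : K ⊔ A = N := by rw [sup_comm]; exact hN
  obtain ⟨K', hK', -, hc'B, hcK', eK', hN'⟩ := line_struct hS hp hK hA hB' hKA (bot_symm hAK)
    (hNK.symm ▸ hcov) hKB'
  rw [hNK] at hN'
  -- a commutator for the first coordinate
  have hmemL : ∀ R ∈ S, R ≤ N → R ≠ K → ∃ f ∈ ⁅K, B⁆, R = Cfsg.conjBy A f := fun R hR hRle hRK =>
    ((mem_line_cases hS hp hA hcK hR (by rw [eK, hN]; exact hRle)).resolve_left (fun h => hRK (h.trans eK)))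
  have hfixK : ∀ f ∈ ⁅K, B⁆, Cfsg.conjBy K f = K := fun f hf =>
    conjBy_eq_of_commute fun k hk => commute_right_comm hcK f hf k (eK.symm ▸ hk)
  have hpoint : ∃ Q₀ ∈ S, ∃ F ∈ S, Cfsg.RootCommutatorCase S Q₀ F ∧ ⁅Q₀, F⁆ = P ∧ Q₀ ⊔ P = N := by
    rcases eq_or_ne P K with rfl | hPK
    · exact ⟨A, hA, _, hc'.1, hcK, eK, hN⟩
    · obtain ⟨f₁, hf₁, e₁⟩ := hmemL P hP hPle hPK
      obtain ⟨f₂, hf₂, e₂⟩ := hmemL K' hK' (hN' ▸ le_sup_right) (fun e => comm_left_ne hS hK hcK' (eK'.trans e))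
      set f := f₁ * f₂⁻¹ with hfdef
      have hf : f ∈ ⁅K, B⁆ := mul_mem hf₁ (inv_mem hf₂)
      have hK'f : Cfsg.conjBy K' f = P := by
        rw [hfdef, conjBy_mul, e₂, conjBy_inv_conjBy, e₁]
      have hc3 := comm_case_conj hS hK hc'B.1 hcK' f
      refine ⟨K, hK, _, hS.conj_mem _ hc'B.1 f, ?_, ?_, ?_⟩
      · rwa [hfixK f hf] at hc3
      · rw [← hK'f]
        conv_rhs => rw [← eK', conjBy_commutator, hfixK f hf]
      · refine le_antisymm (sup_le (hN ▸ le_sup_right) hPle) ?_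
        have hfA : Cfsg.conjBy N f = N := by
          refine conjBy_eq_self_iff.2 ((?_ : ⁅K, B⁆ ≤ normalizer (N : Set G)) hf)
          have hsub : ∀ g ∈ ⁅K, B⁆, Cfsg.conjBy N g ≤ N := fun g hg => by
            rw [← hN, conjBy_sup, hfixK g hg]
            refine sup_le ?_ le_sup_right
            have := conjBy_le_line (A := A) hS hg
            rwa [eK] at this
          intro g hg
          rw [mem_normalizer_iff]
          intro x
          refine ⟨fun hx => hsub g hg (conj_mem_conjBy g hx), fun hx => ?_⟩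
          simpa [mul_assoc] using hsub g⁻¹ (inv_mem hg) (conj_mem_conjBy g⁻¹ hx)
        rw [← hfA, ← hN', conjBy_sup, hfixK f hf, hK'f]
  obtain ⟨Q₀, hQ₀, F, hF, hc, eP, hQ₀P⟩ := hpoint
  obtain ⟨f, hf, rfl⟩ := (mem_line_cases hS hp hQ₀ hc hQ (by rw [eP, hQ₀P]; exact hQle)).resolve_left
    (fun h => hPQ (eP.symm.trans h.symm))
  have hPf : Cfsg.conjBy P f = P :=
    conjBy_eq_of_commute fun k hk => commute_right_comm hc f hf k (eP.symm ▸ hk)
  have hc4 := comm_case_conj hS hQ₀ hF hc f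
  rw [conjBy_of_mem hf] at hc4
  have eP' : ⁅Cfsg.conjBy Q₀ f, F⁆ = P := by
    conv_rhs => rw [← hPf, ← eP, conjBy_commutator, conjBy_of_mem hf]
  refine ⟨F, hF, hc4, eP', le_antisymm (sup_le hQle hPle) (hQ₀P ▸ sup_le ?_ le_sup_right)⟩
  have := conjBy_le_line (A := Cfsg.conjBy Q₀ f) hS (inv_mem hf)
  rwa [conjBy_inv_conjBy, eP'] at this

end InS

end Cfsg.Agent.H87
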