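import Mathlib
import Cfsg.Agent.H87.Lines
import Cfsg.Agent.S5036

/-! Consequences of the structure of lines: speciality, connectivity, generation. -/

namespace Cfsg.Agent.H87

open Subgroup
open scoped commutatorElement

variable {G : Type*} [Group G] {S : Set (Subgroup G)}

section InS

variable (hS : Cfsg.IsRootSubgroupSet S) (hp : HasPartners S)
include hS hp

theorem linePartner_comm {A C : Subgroup G} (hA : A ∈ S) (h : C ∈ Cfsg.linePartners S A) :
    ∃ F ∈ S, Cfsg.RootCommutatorCase S A F ∧ ⁅A, F⁆ = C := by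
  obtain ⟨F, hF, h1, h2, -⟩ := line_comm hS hp hA h.1.1 h.1.2.1 h.1.2.2 (covers_of_linePartner hS h)
    h.1.1 hA le_sup_right le_sup_left h.1.2.1
  exact ⟨F, hF, h1, h2⟩

/-- For a rank one pair `A, B`, every line through `A` carries a member not paired with `B`. -/
theorem exists_linePartner_not_rankOne {A B U : Subgroup G} (hA : A ∈ S) (hB : B ∈ S)
    (hAB : Cfsg.IsRankOnePair A B) (hU : U ∈ Cfsg.linePartners S A) :
    ∃ P ∈ Cfsg.linePartners S A, ¬ Cfsg.IsRankOnePair P B ∧ A ⊔ P = A ⊔ U := by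
  obtain ⟨P, hP, hPB, -, hc2, e, hN⟩ :=
    line_struct hS hp hA hU.1.1 hB hU.1.2.1 hU.1.2.2 (covers_of_linePartner hS hU) hAB
  exact ⟨P, e ▸ linePartner_of_comm hS hp hA hc2, hPB, hN⟩

theorem hexagon_line {A B P : Subgroup G} (hA : A ∈ S) (hB : B ∈ S) (hAB : Cfsg.IsRankOnePair A B)
    (hP : P ∈ Cfsg.linePartners S A) (hPB : ¬ Cfsg.IsRankOnePair P B) :
    Cfsg.RootCommutatorCase S P B ∧ Cfsg.RootCommutatorCase S A ⁅P, B⁆ ∧ ⁅A, ⁅P, B⁆⁆ = P := by
  have hprod := prod_mem_of_covers hS (covers_of_linePartner hS hP) hA le_sup_left le_sup_right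
  obtain ⟨h1, h2, -⟩ := hexagon hS hA hB hP.1.1 hAB hP.1.2.2 hprod hPB
  exact ⟨h1, h2, hexagon_comm hS hp hA hB hP.1.1 hAB hP.1.2.2 hprod hPB⟩

theorem special_of_line {A B P : Subgroup G} (hA : A ∈ S) (hB : B ∈ S) (hAB : Cfsg.IsRankOnePair A B)
    (hP : P ∈ Cfsg.linePartners S A) (hPB : ¬ Cfsg.IsRankOnePair P B) : Cfsg.IsSpecialRankOnePair A B := by
  obtain ⟨hc1, hc2, hPeq⟩ := hexagon_line hS hp hA hB hAB hP hPB
  have hprod := prod_mem_of_covers hS (covers_of_linePartner hS hP) hA le_sup_left le_sup_right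
  obtain ⟨-, -, hid⟩ := hexagon hS hA hB hP.1.1 hAB hP.1.2.2 hprod hPB
  set L := ⁅P, B⁆ with hL
  obtain ⟨-, -, -, -, -, hcen⟩ := Cfsg.Agent.S5036.result hS hP.1.1 hB hc1.1 hA hPeq
  refine ⟨hAB, fun a ha ha1 b hb hb1 hrel => ?_⟩
  set x := b⁻¹ * a * b with hx
  set y := a⁻¹ * b⁻¹ * a with hy
  have hxE : x ∈ Cfsg.conjBy A b⁻¹ := by
    have := conj_mem_conjBy b⁻¹ ha
    rwa [inv_inv] at this
  have hyE : y ∈ Cfsg.conjBy A b⁻¹ := by
    have := conj_mem_conjBy a⁻¹ (inv_mem hb)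
    rw [inv_inv] at this
    rwa [hrel]
  have hA'S := hS.conj_mem A hA b⁻¹
  set d := x * y⁻¹ with hd
  have hdyx : d = y⁻¹ * x := commute_of_mem hS hA'S hxE (inv_mem hyE)
  have hPc : ∀ e ∈ P, Commute d e := by
    intro e he
    set l := b * e * b⁻¹ * e⁻¹ with hl
    have hlL : l ∈ L := by rw [hL, commutator_comm]; exact commutator_mem_commutator hb he
    have h0 : a * l * a⁻¹ * l⁻¹ = e := hid a ha ha1 b hb hrel e he
    have hel : Commute e l := commute_left_comm hc1 e he l hlL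
    have hbl : Commute b l := commute_right_comm hc1 b hb l hlL
    have hea : Commute e a := (commute_of_bot hP.1.2.2 ha he).symm
    have e1 : b⁻¹ * e * b = e * l⁻¹ := by
      have h1 : b * e * b⁻¹ = l * e := by rw [hl]; group
      calc b⁻¹ * e * b = b⁻¹ * (l⁻¹ * (l * e)) * b := by group
        _ = b⁻¹ * l⁻¹ * b * e := by rw [← h1]; group
        _ = l⁻¹ * b⁻¹ * b * e := by rw [hbl.inv_inv.eq]
        _ = e * l⁻¹ := by rw [inv_mul_cancel_right, hel.inv_right.eq]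
    have hxe : x * e * x⁻¹ = e * e * l⁻¹ := by
      calc x * e * x⁻¹ = b⁻¹ * (a * (l * e) * a⁻¹) * b := by rw [hx, hl]; group
        _ = b⁻¹ * ((a * l * a⁻¹) * e) * b := by
            rw [show a * (l * e) * a⁻¹ = (a * l * a⁻¹) * (a * e * a⁻¹) by group,
              show a * e * a⁻¹ = e by rw [← hea.eq, mul_inv_cancel_right]]
        _ = b⁻¹ * (e * (l * e)) * b := by
            rw [show a * l * a⁻¹ = e * l from (mul_inv_eq_iff_eq_mul.1 h0)]; group
        _ = (b⁻¹ * e * b) * (b⁻¹ * l * b) * (b⁻¹ * e * b) := by group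
        _ = e * l⁻¹ * l * (e * l⁻¹) := by
            rw [e1, show b⁻¹ * l * b = l by rw [mul_assoc, ← hbl.eq, inv_mul_cancel_left]]
        _ = e * e * l⁻¹ := by group
    have hye : y * e * y⁻¹ = e * e * l⁻¹ := by
      have h2 : a⁻¹ * l * a = e⁻¹ * l := by
        have h3 : a * l = e * l * a := by
          rw [← mul_inv_eq_iff_eq_mul.1 h0]; group
        calc a⁻¹ * l * a = a⁻¹ * (e⁻¹ * (e * l * a)) := by group
          _ = a⁻¹ * e⁻¹ * a * l := by rw [← h3]; group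
          _ = e⁻¹ * l := by rw [← hea.inv_inv.eq, inv_mul_cancel_right]
      calc y * e * y⁻¹ = a⁻¹ * (b⁻¹ * (a * e * a⁻¹) * b) * a := by rw [hy]; group
        _ = a⁻¹ * (e * l⁻¹) * a := by rw [← hea.eq, mul_inv_cancel_right, e1]
        _ = (a⁻¹ * e * a) * (a⁻¹ * l * a)⁻¹ := by group
        _ = e * (l⁻¹ * e) := by rw [h2, mul_assoc a⁻¹, hea.eq, inv_mul_cancel_left, mul_inv_rev, inv_inv]
        _ = e * e * l⁻¹ := by rw [← hel.inv_right.eq, mul_assoc]
    show d * e = e * d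
    rw [hdyx]
    have h4 := hxe.trans hye.symm
    calc y⁻¹ * x * e = y⁻¹ * (x * e * x⁻¹) * x := by group
      _ = y⁻¹ * (y * e * y⁻¹) * x := by rw [h4]
      _ = e * (y⁻¹ * x) := by group
  have hdX : d ∈ B ⊔ A := by
    rw [hd, hx, hy]
    have ma := mem_sup_right (S := B) ha
    have mb := mem_sup_left (T := A) hb
    exact mul_mem (mul_mem (mul_mem (inv_mem mb) ma) mb) (inv_mem (mul_mem (mul_mem (inv_mem ma) (inv_mem mb)) ma))
  have hdN : d ∈ centralizer ((P ⊔ L : Subgroup G) : Set G) := by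
    have hP' : ∀ e ∈ P, Commute d (b⁻¹ * e * b) := by
      intro e he
      have h5 : b * d * b⁻¹ ∈ A := by
        have := mul_mem hxE (inv_mem hyE)
        rw [mem_conjBy, inv_inv] at this
        exact this
      have h6 : Commute (b * d * b⁻¹) e := commute_of_bot hP.1.2.2 h5 he
      calc d * (b⁻¹ * e * b) = b⁻¹ * ((b * d * b⁻¹) * e) * b := by group
        _ = b⁻¹ * (e * (b * d * b⁻¹)) * b := by rw [h6.eq]
        _ = b⁻¹ * e * b * d := by group
    have hle : P ⊔ L ≤ centralizer {d} := by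
      refine sup_le (fun e he => mem_centralizer_singleton_iff.2 (hPc e he).eq.symm) ?_
      rw [hL, ← hc1.2.2.2 b⁻¹ (inv_mem hb) (by simpa using hb1), closure_le]
      rintro _ ⟨e, he, rfl⟩
      refine mem_centralizer_singleton_iff.2 ?_
      have h7 := (hPc e he).mul_right (hP' e⁻¹ (inv_mem he))
      have h8 : e * b⁻¹ * e⁻¹ * b⁻¹⁻¹ = e * (b⁻¹ * e⁻¹ * b) := by group
      show e * b⁻¹ * e⁻¹ * b⁻¹⁻¹ * d = d * (e * b⁻¹ * e⁻¹ * b⁻¹⁻¹)
      rw [h8]; exact h7.eq.symm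
    exact mem_centralizer_iff.2 fun z hz => mem_centralizer_singleton_iff.1 (hle hz)
  have hdc := hcen d ⟨hdX, hdN⟩
  suffices d = 1 from mul_inv_eq_one.1 this
  have h5 : b * d * b⁻¹ ∈ A := by
    have := mul_mem hxE (inv_mem hyE)
    rw [mem_conjBy, inv_inv] at this
    exact this
  rw [← hdc b (mem_sup_left hb), mul_inv_cancel_right] at h5
  by_contra hd1
  exact hb1 (eq_one_of_rankOne_of_commute hAB h5 hb (hdc b (mem_sup_left hb)) hd1)

omit hp in
theorem linePartner_conj {A C : Subgroup G} (g : G) (h : C ∈ Cfsg.linePartners S A) :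
    Cfsg.conjBy C g ∈ Cfsg.linePartners S (Cfsg.conjBy A g) := by
  obtain ⟨⟨hC, hne, hbot⟩, hpart⟩ := h
  refine ⟨⟨hS.conj_mem C hC g, fun e => hne (conjBy_injective g e), commutator_bot_conj hbot g⟩,
    fun D hD => hD.2, fun x hx hx1 => ?_, fun D hD E hE hne' => ?_⟩
  · rw [← conjBy_sup, mem_conjBy] at hx
    obtain ⟨D, hD, hxD⟩ := hpart.2.1 _ hx (fun e => hx1 (by
      have := congrArg (fun t => g * t * g⁻¹) e
      simpa [mul_assoc] using this))
    refine ⟨Cfsg.conjBy D g, ⟨hS.conj_mem D hD.1 g, ?_⟩, by rw [mem_conjBy]; exact hxD⟩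
    rw [← conjBy_sup]; exact map_mono hD.2
  · have hin : ∀ {D : Subgroup G}, D ∈ Cfsg.membersIn S (Cfsg.conjBy A g ⊔ Cfsg.conjBy C g) →
        Cfsg.conjBy D g⁻¹ ∈ Cfsg.membersIn S (A ⊔ C) := fun {D} hD => by
      refine ⟨hS.conj_mem D hD.1 g⁻¹, ?_⟩
      rw [← conjBy_inv_conjBy (A ⊔ C) g, conjBy_sup A C g]
      exact map_mono hD.2
    have h0 := hpart.2.2 _ (hin hD) _ (hin hE) (fun e => hne' (conjBy_injective g⁻¹ e))
    have h1 := congrArg (fun U => Cfsg.conjBy U g) h0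
    simp only [Cfsg.conjBy, ← Subgroup.map_inf _ _ (MulAut.conj g⁻¹).toMonoidHom (MulAut.conj g⁻¹).injective] at h1
    have : Cfsg.conjBy (Cfsg.conjBy (D ⊓ E) g⁻¹) g = Cfsg.conjBy (⊥ : Subgroup G) g := h1
    rwa [conjBy_conjBy_inv, show Cfsg.conjBy (⊥ : Subgroup G) g = ⊥ from Subgroup.map_bot _] at this

/-- Rank one pairs are connected in the graph of lines. -/
theorem eReach_of_rankOne {A B : Subgroup G} (hA : A ∈ S) (hB : B ∈ S) (hAB : Cfsg.IsRankOnePair A B)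
    (hAF : ∃ F ∈ S, Cfsg.RootCommutatorCase S A F) : Relation.ReflTransGen (Cfsg.EAdj S S) A B := by
  obtain ⟨F, -, hF⟩ := hAF
  obtain ⟨P, hP, hPB, -⟩ := exists_linePartner_not_rankOne hS hp hA hB hAB (linePartner_of_comm hS hp hA hF)
  obtain ⟨hc1, -, -⟩ := hexagon_line hS hp hA hB hAB hP hPB
  have h1 := linePartner_of_comm hS hp hP.1.1 hc1
  have h2 := linePartner_of_comm hS hp hB (comm_case_symm hc1)
  rw [commutator_comm] at h2
  exact ((Relation.ReflTransGen.single (r := Cfsg.EAdj S S) ⟨hA, hP.1.1, hP⟩).tail ⟨hP.1.1, hc1.1, h1⟩).tail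
    ⟨hc1.1, hB, linePartner_symm hS hB h2⟩

omit hp in
theorem eReach_symm {A B : Subgroup G} (h : Relation.ReflTransGen (Cfsg.EAdj S S) A B) :
    Relation.ReflTransGen (Cfsg.EAdj S S) B A := by
  induction h with
  | refl => exact Relation.ReflTransGen.refl
  | tail _ hbc ih =>
    exact (Relation.ReflTransGen.single (r := Cfsg.EAdj S S)
      ⟨hbc.2.1, hbc.1, linePartner_symm hS hbc.1 hbc.2.2⟩).trans ih

theorem eConnected (hcl : Cfsg.IsConjClassOfSubgroups S)
    (hc : ∃ A ∈ S, ∃ B ∈ S, Cfsg.RootCommutatorCase S A B) : Cfsg.IsConnectedFamily (Cfsg.EAdj S S) S := by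
  intro A hA C hC
  obtain ⟨g, rfl⟩ := hcl.2 A hA C hC
  obtain ⟨D, hD, hAD⟩ := hp A hA
  have hr := conj_reach_all hS hA hD hAD g
  generalize Cfsg.conjBy A g = C at hr
  induction hr with
  | refl => exact Relation.ReflTransGen.refl
  | tail _ hedge ih => exact ih.trans (eReach_of_rankOne hS hp hedge.1 hedge.2.1 hedge.2.2 (exists_comm_of_class hS hcl hc hedge.1))

omit hp in
theorem exists_conj_in_pair {A B : Subgroup G} (hAB : Cfsg.IsRankOnePair A B) :
    ∃ x ∈ A ⊔ B, B = Cfsg.conjBy A x := right_mem hAB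

/-- `G` is generated by the line partners of `A` and one rank one partner. -/
theorem generation (hcl : Cfsg.IsConjClassOfSubgroups S)
    (hc : ∃ A ∈ S, ∃ B ∈ S, Cfsg.RootCommutatorCase S A B) {A B : Subgroup G} (hA : A ∈ S) (hB : B ∈ S)
    (hAB : Cfsg.IsRankOnePair A B) : (⨆ C ∈ Cfsg.linePartners S A, C) ⊔ B = ⊤ := by
  set K := (⨆ C ∈ Cfsg.linePartners S A, C) ⊔ B with hK
  have hle : ∀ E ∈ Cfsg.linePartners S A, E ≤ K := fun E hE =>
    le_trans (le_iSup₂ (f := fun C (_ : C ∈ Cfsg.linePartners S A) => C) E hE) le_sup_left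
  have hBK : B ≤ K := le_sup_right
  have hH : ∀ E ∈ Cfsg.linePartners S A, ∃ H ∈ Cfsg.linePartners S A, Cfsg.RootCommutatorCase S E H ∧ ⁅E, H⁆ = A := by
    intro E hE
    obtain ⟨H, hH', hc', e⟩ := linePartner_comm hS hp hE.1.1 (linePartner_symm hS hA hE)
    refine ⟨H, ?_, hc', e⟩
    have h1 := linePartner_of_comm hS hp hH' (comm_case_symm hc')
    rw [commutator_comm, e] at h1
    exact linePartner_symm hS hH' h1
  have hAK : A ≤ K := by
    obtain ⟨F, -, hF⟩ := exists_comm_of_class hS hcl hc hA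
    have hE := linePartner_of_comm hS hp hA hF
    obtain ⟨H, hH', -, e⟩ := hH _ hE
    conv_lhs => rw [← e]
    exact commutator_le.2 fun x hx y hy =>
      mul_mem (mul_mem (mul_mem (hle _ hE hx) (hle _ hH' hy)) (inv_mem (hle _ hE hx))) (inv_mem (hle _ hH' hy))
  have hstep : ∀ E ∈ Cfsg.linePartners S A, ∃ g ∈ K, E = Cfsg.conjBy A g := by
    intro E hE
    by_cases hEB : Cfsg.IsRankOnePair E B
    · obtain ⟨x, hx, ex⟩ := exists_conj_in_pair hS hAB
      obtain ⟨z, hz, ez⟩ := exists_conj_in_pair hS (rankOne_symm hEB)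
      exact ⟨z * x, mul_mem ((sup_le hBK (hle E hE)) hz) ((sup_le hAK hBK) hx), by rw [conjBy_mul, ← ex, ← ez]⟩
    · obtain ⟨hc1, hc2, e2⟩ := hexagon_line hS hp hA hB hAB hE hEB
      obtain ⟨H, hH', hcH, eH⟩ := hH E hE
      obtain ⟨-, hT, -⟩ := Cfsg.Agent.S5036.result hS hE.1.1 hH'.1.1 hcH.1 hc1.1
        (by rw [eH, commutator_comm]; exact e2)
      rw [eH] at hT
      have hmem : E ∈ {E' | ∃ x ∈ H ⊔ ⁅E, B⁆, E' = Cfsg.conjBy A x} := hT ▸ ⟨1, one_mem _, (conjBy_one E).symm⟩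
      obtain ⟨x, hx, ex⟩ := hmem
      refine ⟨x, (sup_le (hle H hH') ?_) hx, ex⟩
      exact commutator_le.2 fun u hu v hv =>
        mul_mem (mul_mem (mul_mem (hle E hE hu) (hBK hv)) (inv_mem (hle E hE hu))) (inv_mem (hBK hv))
  have hall : ∀ C ∈ S, ∃ g ∈ K, C = Cfsg.conjBy A g := by
    intro C hC
    have hr := eConnected hS hp hcl hc A hA C hC
    clear hC
    induction hr with
    | refl => exact ⟨1, one_mem _, (conjBy_one A).symm⟩
    | tail _ hedge ih =>
      obtain ⟨g, hg, rfl⟩ := ih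
      have h1 := linePartner_conj hS g⁻¹ hedge.2.2
      rw [conjBy_inv_conjBy] at h1
      obtain ⟨g', hg', e⟩ := hstep _ h1
      exact ⟨g * g', mul_mem hg hg', by rw [conjBy_mul, ← e, conjBy_conjBy_inv]⟩
  rw [eq_top_iff, ← hS.generates]
  refine iSup₂_le fun C hC x hx => ?_
  obtain ⟨g, hg, rfl⟩ := hall C hC
  rw [mem_conjBy] at hx
  simpa [mul_assoc] using mul_mem (mul_mem hg (hAK hx)) (inv_mem hg)

end InS

end Cfsg.Agent.H87
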