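import Mathlib

/-!
Generated data: the hexads of the dodecad of squares as masks, each with the number of a ternary
code word whose support is carried onto it.
-/

set_option autoImplicit false

namespace Cfsg.Agent.H87.M12CoverData

/-- The 132 hexad masks. -/
def hexMasks : List ℕ :=
  [343, 591, 797, 858, 4127, 4430, 4441, 4691,
   4700, 4875, 4886, 4933, 8285, 8478, 8523, 8731,
   8790, 8967, 9036, 9041, 12359, 12378, 12557, 12563,
   12628, 12814, 12821, 12873, 13080, 13122, 65627, 65807,
   65884, 66078, 66133, 66323, 66374, 66377, 69709, 69718,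
   69909, 69914, 69955, 70151, 70169, 70218, 70412, 70480,
   73751, 73806, 74009, 74053, 74066, 74253, 74307, 74328,
   74506, 74516, 77835, 77852, 77905, 78086, 78152, 78354,
   78404, 78593, 262238, 262427, 262477, 262679, 262745, 262926,
   262979, 262996, 266315, 266325, 266503, 266524, 266578, 266765,
   266778, 266822, 267025, 267080, 270351, 270419, 270613, 270662,
   270680, 270876, 270917, 270922, 271113, 271122, 274454, 274457,
   274508, 274698, 274753, 274947, 275024, 275204, 327709, 327751,
   327958, 328010, 328017, 328203, 328268, 328274, 328453, 328472,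
   331790, 331795, 331864, 332041, 332100, 332308, 332353, 332546,
   335898, 335945, 335956, 336131, 336140, 336390, 336401, 336704,
   339973, 340034, 340240, 340488]

/-- Code word numbers (six base three digits). -/
def hexWits : List ℕ :=
  [187, 49, 154, 219, 229, 39, 190, 85, 144, 61, 102, 10, 604, 696,
   301, 439, 417, 499, 279, 325, 259, 354, 289, 574, 657, 318, 667, 541,
   594, 489, 142, 43, 225, 120, 172, 166, 21, 28, 73, 183, 91, 138,
   4, 25, 109, 57, 63, 81, 346, 552, 703, 505, 570, 307, 493, 675,
   273, 576, 517, 441, 406, 255, 513, 651, 495, 244, 156, 112, 64, 97,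
   217, 66, 7, 90, 34, 100, 22, 117, 165, 37, 192, 12, 163, 27,
   565, 652, 415, 264, 432, 711, 262, 516, 514, 327, 579, 379, 306, 543,
   487, 247, 567, 252, 208, 13, 174, 30, 82, 58, 36, 84, 19, 189,
   48, 169, 108, 55, 9, 171, 1, 3, 462, 271, 333, 250, 522, 507,
   568, 243, 496, 246, 324, 270]

end Cfsg.Agent.H87.M12CoverData
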