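import Cfsg.Agent.H87.M12Upper
import Cfsg.Agent.H87.M12CoverData
import Cfsg.Agent.H44.TernaryAut
import Cfsg.Agent.Golay.OctadList

/-!
The double cover of the dodecad group from the monomial automorphisms of the ternary code.
-/

set_option autoImplicit false

namespace Cfsg.Agent.H87.M12Cover

open Cfsg Cfsg.Agent.Golay
open scoped Pointwise commutatorElement
open M12CoverData

/-- Positions of the array inside the dodecad. -/
def eTbl : List ℕ := [0, 1, 2, 3, 4, 12, 13, 8, 9, 18, 6, 16]

/-- The point of the dodecad at an array position. -/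
def ePt (p : ArrayPt) : GolayPt := pt (eTbl.getD (H44.ternIdx p).1 0)

theorem ePt_injective : Function.Injective ePt := by
  unfold Function.Injective
  decide +kernel

theorem ePt_mem : ∀ p, squareMask.testBit (idx (ePt p)) = true := by decide +kernel

/-- The bijection onto the dodecad. -/
noncomputable def eEquiv : ArrayPt ≃ M12Upper.Pts :=
  Equiv.ofBijective (fun p => ⟨ePt p, by rw [← ptSet_squareMask, mem_ptSet]; exact ePt_mem p⟩)
    ((Fintype.bijective_iff_injective_and_card _).2
      ⟨fun _ _ h => ePt_injective (congrArg Subtype.val h), by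
        rw [M12Upper.card_pts, Fintype.card_prod, Fintype.card_fin, ZMod.card]⟩)

theorem eEquiv_val (p : ArrayPt) : (eEquiv p).1 = ePt p := rfl

/-- The word of a number. -/
def aOf (n : ℕ) : Fin 6 → ZMod 3 := fun j => ((n / 3 ^ j.1 : ℕ) : ZMod 3)

/-- The support of a word. -/
def hexOf (a : Fin 6 → ZMod 3) : Finset ArrayPt := ternarySupport (H44.ternEnc a)

theorem hex_forward : ∀ a : Fin 6 → ZMod 3, (hexOf a).card = 6 →
    hexMasks.contains (maskOf ((hexOf a).image ePt)) = true := by
  decide +kernel

theorem hex_backward : ((hexMasks.zip hexWits).all fun mw =>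
      (hexOf (aOf mw.2)).card == 6 && maskOf ((hexOf (aOf mw.2)).image ePt) == mw.1) = true ∧
    hexMasks.length = hexWits.length := by
  decide +kernel

theorem octad_forward : (octadList.all fun o =>
    popCnt (o &&& squareMask) != 6 || hexMasks.contains (o &&& squareMask)) = true := by
  decide +kernel

theorem octad_backward : (hexMasks.all fun m =>
    popCnt m == 6 && octadList.any fun o => o &&& squareMask == m) = true := by
  decide +kernel

/-- The hexads of the array go onto the hexads on the dodecad. -/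
theorem hex_iff (h : Finset ArrayPt) :
    h ∈ H44.ternHexads ↔
      h.card = 6 ∧ ∃ o ∈ octads, o ∩ Spor.squareDodecad = h.image ePt := by
  constructor
  · intro hh
    obtain ⟨a, ha, rfl⟩ := Finset.mem_image.1 hh
    have ha' : (hexOf a).card = 6 := (Finset.mem_filter.1 ha).2
    refine ⟨ha', ?_⟩
    have h1 := List.contains_iff_mem.1 (hex_forward a ha')
    have h2 := List.all_eq_true.1 octad_backward _ h1
    simp only [Bool.and_eq_true, List.any_eq_true, beq_iff_eq] at h2
    obtain ⟨-, o, ho, he⟩ := h2
    refine ⟨ptSet o, ptSet_mem_octads ho, ?_⟩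
    rw [← ptSet_squareMask, ← ptSet_and, he, ptSet_maskOf]
    rfl
  · rintro ⟨hc, o, ho, he⟩
    have hm := mem_octads_iff.1 ho
    have hmask : maskOf o &&& squareMask = maskOf (h.image ePt) := by
      apply ptSet_injOn (and_lt_full (maskOf_lt o)) (maskOf_lt _)
      rw [ptSet_and, ptSet_maskOf, ptSet_maskOf, ptSet_squareMask, he]
    have h6 : popCnt (maskOf o &&& squareMask) = 6 := by
      rw [hmask, popCnt_maskOf, Finset.card_image_of_injective _ ePt_injective, hc]
    have h1 := List.all_eq_true.1 octad_forward _ hm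
    simp only [h6, bne_self_eq_false, Bool.false_or, List.contains_iff_mem] at h1
    obtain ⟨i, hi, hget⟩ := List.getElem_of_mem h1
    have hmem : (hexMasks[i], hexWits[i]'(hex_backward.2 ▸ hi)) ∈ hexMasks.zip hexWits := by
      rw [List.mem_iff_getElem]
      exact ⟨i, by simp [List.length_zip, hex_backward.2, hex_backward.2 ▸ hi], List.getElem_zip⟩
    have h2 := List.all_eq_true.1 hex_backward.1 _ hmem
    simp only [Bool.and_eq_true, beq_iff_eq] at h2
    rw [hget, hmask] at h2
    have himg := maskOf_injective h2.2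
    have heq := Finset.image_injective ePt_injective himg
    rw [← heq]
    exact Finset.mem_image.2 ⟨_, Finset.mem_filter.2 ⟨Finset.mem_univ _, h2.1⟩, rfl⟩

/-- The dodecad group acting on the array. -/
noncomputable def θ : ↥Spor.M12 →* Equiv.Perm ArrayPt :=
  eEquiv.symm.permCongrHom.toMonoidHom.comp (MulAction.toPermHom ↥Spor.M12 M12Upper.Pts)

theorem ePt_θ (g : ↥Spor.M12) (p : ArrayPt) :
    ePt (θ g p) = (g : Equiv.Perm GolayPt) (ePt p) := by
  have h : eEquiv (θ g p) = g • eEquiv p := eEquiv.apply_symm_apply _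
  exact (eEquiv_val _).symm.trans (congrArg Subtype.val h)

theorem θ_injective : Function.Injective θ := by
  rw [injective_iff_map_eq_one]
  intro g hg
  apply Subtype.ext
  refine spor_M12_base_trivial g.2 fun i => ?_
  have hmem : pt i.1 ∈ Spor.squareDodecad := by
    refine M12Upper.pt_mem (by omega) ?_
    revert i; decide +kernel
  obtain ⟨p, hp⟩ := eEquiv.surjective ⟨pt i.1, hmem⟩
  have hp' : ePt p = pt i.1 := congrArg Subtype.val hp
  have := ePt_θ g p
  rw [hg, Equiv.Perm.one_apply, hp'] at this
  exact this.symm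

theorem θ_mem (g : ↥Spor.M12) : θ g ∈ H44.monoPerms := by
  rw [H44.monoPerms_eq]
  have hsub : ∀ h ∈ H44.ternHexads, θ g • h ∈ H44.ternHexads := by
    intro h hh
    obtain ⟨hc, o, ho, he⟩ := (hex_iff h).1 hh
    refine (hex_iff _).2 ⟨by rw [Finset.card_smul_finset, hc],
      (g : Equiv.Perm GolayPt) • o, smul_mem_octads g.2.1 ho, ?_⟩
    have hd : (g : Equiv.Perm GolayPt) • Spor.squareDodecad = Spor.squareDodecad := g.2.2
    nth_rewrite 1 [← hd]
    rw [← Finset.smul_finset_inter, he]
    ext x
    simp only [Finset.mem_smul_finset, Finset.mem_image, Equiv.Perm.smul_def]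
    constructor
    · rintro ⟨y, ⟨p, hp, rfl⟩, rfl⟩
      exact ⟨θ g p, ⟨p, hp, rfl⟩, ePt_θ g p⟩
    · rintro ⟨q, ⟨p, hp, rfl⟩, rfl⟩
      exact ⟨ePt p, ⟨p, hp, rfl⟩, (ePt_θ g p).symm⟩
  refine MulAction.mem_stabilizer_iff.2 (Set.eq_of_subset_of_ncard_le ?_ ?_ (Set.toFinite _))
  · rintro _ ⟨h, hh, rfl⟩
    exact (H44.mem_ternHexads _).1 (hsub h ((H44.mem_ternHexads h).2 hh))
  · rw [Set.ncard_smul_set]

theorem card_monoPerms : Nat.card ↥H44.monoPerms = 95040 := by
  obtain ⟨⟨_, h⟩, -⟩ := S0425.result (α := Cfsg.ArrayPt)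
    (by rw [Fintype.card_prod, Fintype.card_fin, ZMod.card]) (S1592.result.1)
  rw [H44.monoPerms_eq]
  exact h

/-- The dodecad group is the group of permutation parts. -/
noncomputable def m12Equiv : ↥Spor.M12 ≃* ↥H44.monoPerms :=
  MulEquiv.ofBijective (θ.codRestrict _ θ_mem) ((Nat.bijective_iff_injective_and_card _).2
    ⟨fun _ _ h => θ_injective (congrArg Subtype.val h), card_spor_M12.trans card_monoPerms.symm⟩)

/-- Permutations acting on sign vectors. -/
def signAct : Equiv.Perm ArrayPt →* MulAut (ArrayPt → (ZMod 3)ˣ) where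
  toFun s :=
    { toFun := fun c => c ∘ s.symm
      invFun := fun c => c ∘ s
      left_inv := fun c => funext fun p => by simp
      right_inv := fun c => funext fun p => by simp
      map_mul' := fun _ _ => rfl }
  map_one' := rfl
  map_mul' _ _ := rfl

/-- Signed permutations. -/
abbrev Mono : Type := (ArrayPt → (ZMod 3)ˣ) ⋊[signAct] Equiv.Perm ArrayPt

instance : Finite Mono := Finite.of_equiv _ SemidirectProduct.equivProd.symm

/-- The signed permutations preserving the code, as a monoid. -/
def coverMonoid : Submonoid Mono where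
  carrier := {g | H44.PreservesTern g.right g.left}
  one_mem' := H44.PreservesTern.one
  mul_mem' := fun {g h} hg hh => by
    show H44.PreservesTern (g.right * h.right) (g.left * signAct g.right h.left)
    exact hg.comp hh

/-- The signed permutations preserving the code. -/
def cover : Subgroup Mono :=
  { coverMonoid with
    inv_mem' := fun {g} hg => by
      obtain ⟨n, hn⟩ := (mem_powers_iff_mem_zpowers (x := g) (y := g⁻¹)).2
        (inv_mem (Subgroup.mem_zpowers g))
      show g⁻¹ ∈ coverMonoid
      rw [← hn]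
      exact pow_mem (show g ∈ coverMonoid from hg) n }

theorem mem_cover {g : Mono} : g ∈ cover ↔ H44.PreservesTern g.right g.left := Iff.rfl

/-- The permutation part. -/
noncomputable def permPart : ↥cover →* ↥H44.monoPerms :=
  (SemidirectProduct.rightHom.comp cover.subtype).codRestrict _
    fun g => H44.mem_monoPerms.2 ⟨(g : Mono).left, g.2⟩

/-- The covering map. -/
noncomputable def coverMap : ↥cover →* ↥Spor.M12 := m12Equiv.symm.toMonoidHom.comp permPart

theorem coverMap_surjective : Function.Surjective coverMap := by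
  refine m12Equiv.symm.surjective.comp fun s => ?_
  obtain ⟨c, hc⟩ := H44.mem_monoPerms.1 s.2
  exact ⟨⟨⟨c, s.1⟩, hc⟩, rfl⟩

theorem mem_ker_iff {g : ↥cover} : g ∈ coverMap.ker ↔ (g : Mono).right = 1 := by
  rw [MonoidHom.mem_ker]
  constructor
  · intro h
    exact congrArg Subtype.val (m12Equiv.symm.map_eq_one_iff.1 h)
  · intro h
    exact m12Equiv.symm.map_eq_one_iff.2 (Subtype.ext h)

/-- Negation of all coordinates. -/
def negAll : ↥cover :=
  ⟨⟨fun _ => -1, 1⟩, fun x hx => by
    rw [show monomialMap (1 : Equiv.Perm ArrayPt) (fun _ => (-1 : (ZMod 3)ˣ)) x = -x from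
      funext fun p => by simp [monomialMap, Equiv.Perm.one_def]]
    exact neg_mem hx⟩

theorem negAll_ne_one : negAll ≠ 1 := fun h => by
  have := congrArg (fun g : ↥cover => ((g : Mono).left (0, 0) : ZMod 3)) h
  revert this
  show ((-1 : (ZMod 3)ˣ) : ZMod 3) = ((1 : (ZMod 3)ˣ) : ZMod 3) → False
  decide

theorem eq_or_negAll {g : ↥cover} (hg : g ∈ coverMap.ker) : g = 1 ∨ g = negAll := by
  have hr := mem_ker_iff.1 hg
  have hp : H44.PreservesTern 1 (g : Mono).left := hr ▸ g.2
  rcases S1593.result _ hp with h | h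
  · exact Or.inl (Subtype.ext (SemidirectProduct.ext (funext h) hr))
  · exact Or.inr (Subtype.ext (SemidirectProduct.ext (funext h) hr))

theorem negAll_central : negAll ∈ Subgroup.center ↥cover := by
  rw [Subgroup.mem_center_iff]
  intro g
  apply Subtype.ext
  apply SemidirectProduct.ext
  · funext p
    show (g : Mono).left p * (-1) = -1 * (g : Mono).left p
    rw [mul_comm]
  · show (g : Mono).right * 1 = 1 * (g : Mono).right
    rw [one_mul, mul_one]

/-- A permutation of the array from a packed table. -/
def permOf (t : ℕ) (h : ∀ i, H44.nibAt t (H44.nibAt t i) = i) : Equiv.Perm ArrayPt :=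
  H44.ternPtEquiv.permCongr ⟨H44.nibAt t, H44.nibAt t, h, h⟩

theorem invol_ok : (∀ i, H44.nibAt 113390006782296 (H44.nibAt 113390006782296 i) = i) ∧
    (∀ i, H44.nibAt 144427948941606 (H44.nibAt 144427948941606 i) = i) := by
  decide +kernel

/-- The first signed involution. -/
def monoA : Mono := ⟨H44.bitSign 1103, permOf 113390006782296 invol_ok.1⟩

/-- The second signed involution. -/
def monoB : Mono := ⟨H44.bitSign 970, permOf 144427948941606 invol_ok.2⟩

theorem preserves_of_rows {σ : Equiv.Perm ArrayPt} {c : ArrayPt → (ZMod 3)ˣ}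
    (h : ∀ j : Fin 6, H44.ternCheck (monomialMap σ c fun p => H44.ternRows j (H44.ternIdx p))) :
    H44.PreservesTern σ c := by
  intro x hx
  obtain ⟨a, rfl⟩ := (H44.mem_ternary_iff_enc x).1 hx
  have e : monomialMap σ c (H44.ternEnc a) =
      ∑ j, a j • monomialMap σ c fun p => H44.ternRows j (H44.ternIdx p) := by
    funext p
    simp only [monomialMap, H44.ternEnc, Finset.mul_sum, Finset.sum_apply, Pi.smul_apply,
      smul_eq_mul]
    exact Finset.sum_congr rfl fun j _ => by ring
  rw [e]
  exact Submodule.sum_mem _ fun j _ =>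
    Submodule.smul_mem _ _ ((H44.mem_ternary_iff_check _).2 (h j))

theorem rows_ok :
    (∀ j : Fin 6, H44.ternCheck (monomialMap monoA.right monoA.left
      fun p => H44.ternRows j (H44.ternIdx p))) ∧
    (∀ j : Fin 6, H44.ternCheck (monomialMap monoB.right monoB.left
      fun p => H44.ternRows j (H44.ternIdx p))) ∧
    (∀ p, monoA.left p * monoB.left (monoA.right.symm p) =
      -1 * (monoB.left p * monoA.left (monoB.right.symm p))) ∧
    (∀ p, monoA.right (monoB.right p) = monoB.right (monoA.right p)) := by
  decide +kernel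

theorem negAll_mem_commutator : negAll ∈ commutator ↥cover := by
  let A : ↥cover := ⟨monoA, preserves_of_rows rows_ok.1⟩
  let B : ↥cover := ⟨monoB, preserves_of_rows rows_ok.2.1⟩
  have h : A * B = negAll * (B * A) := by
    apply Subtype.ext
    apply SemidirectProduct.ext
    · funext p
      exact rows_ok.2.2.1 p
    · show monoA.right * monoB.right = 1 * (monoB.right * monoA.right)
      rw [one_mul]
      exact Equiv.ext rows_ok.2.2.2
  have h2 : negAll = ⁅A, B⁆ := by
    rw [commutatorElement_def, h]; group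
  rw [h2]
  exact Subgroup.commutator_mem_commutator (Subgroup.mem_top A) (Subgroup.mem_top B)

theorem isStem : Cfsg.IsStemExtension coverMap := by
  refine ⟨coverMap_surjective, fun g hg => ?_, fun g hg => ?_⟩
  · rcases eq_or_negAll hg with rfl | rfl
    · exact one_mem _
    · exact negAll_central
  · rcases eq_or_negAll hg with rfl | rfl
    · exact one_mem _
    · exact negAll_mem_commutator

theorem card_ker : Nat.card coverMap.ker = 2 := by
  rw [Nat.card_eq_two_iff]
  refine ⟨1, ⟨negAll, mem_ker_iff.2 rfl⟩, fun h => negAll_ne_one (congrArg Subtype.val h).symm, ?_⟩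
  refine Set.eq_univ_of_forall fun z => ?_
  rcases eq_or_negAll z.2 with h | h
  · exact Or.inl (Subtype.ext h)
  · exact Or.inr (Subtype.ext h)

/-- The cover witnesses the lower bound. -/
theorem exists_cover : ∃ (Γ : Type) (_ : Group Γ) (_ : Finite Γ) (σ : Γ →* ↥Spor.M12),
    Cfsg.IsStemExtension σ ∧ Nonempty (σ.ker ≃* Multiplicative (ZMod 2)) := by
  have : Fact (Nat.Prime 2) := ⟨Nat.prime_two⟩
  exact ⟨↥cover, inferInstance, inferInstance, coverMap, isStem,
    ⟨mulEquivOfPrimeCardEq card_ker
      ((Nat.card_congr Multiplicative.toAdd).trans (Nat.card_zmod 2))⟩⟩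

end Cfsg.Agent.H87.M12Cover
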