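import Cfsg.Agent.PGroups.MaxClassUniform

/-!
A group of maximal class of order `p ^ n`, `n ≥ 3`, has outside any proper subgroup an element whose
centralizer has order `p ^ 2`.
-/

set_option autoImplicit false
set_option linter.style.haveILetI false

namespace Cfsg.Agent.H87.MaxClassExists

open Subgroup

universe u

/-- Two proper subgroups do not cover a group. -/
theorem exists_notMem_two {X : Type*} [Group X] {A B : Subgroup X} (hA : A ≠ ⊤) (hB : B ≠ ⊤) :
    ∃ x, x ∉ A ∧ x ∉ B := by
  obtain ⟨a, -, ha⟩ := SetLike.exists_of_lt (lt_top_iff_ne_top.2 hA)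
  obtain ⟨b, -, hb⟩ := SetLike.exists_of_lt (lt_top_iff_ne_top.2 hB)
  by_cases hab : a ∈ B
  · by_cases hba : b ∈ A
    · refine ⟨a * b, fun h => ha ?_, fun h => hb ?_⟩
      · simpa using mul_mem h (inv_mem hba)
      · simpa using mul_mem (inv_mem hab) h
    · exact ⟨b, hba, hb⟩
  · exact ⟨a, ha, hab⟩

theorem exists_uniform_notMem {X : Type u} [Group X] [Finite X] {p : ℕ} [hp : Fact p.Prime] {n : ℕ}
    (hn : 3 ≤ n) (hX : Nat.card X = p ^ n) (hc : Group.nilpotencyClass X = n - 1) {M : Subgroup X}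
    (hM : M ≠ ⊤) : ∃ x : X, x ∉ M ∧ Nat.card (centralizer ({x} : Set X)) = p ^ 2 := by
  have hG := IsPGroup.of_card hX
  obtain ⟨hZ, -, -⟩ := PGroups.card_center_of_maxClass hn hX hc
  have hZtop : center X ≠ ⊤ := fun h => by
    rw [h, Subgroup.card_top, hX] at hZ
    nth_rw 2 [← pow_one p] at hZ
    have := Nat.pow_right_injective hp.out.two_le hZ
    omega
  -- the lower bound for a non-central element
  have hlow : ∀ x : X, x ∉ center X → p ^ 2 ≤ Nat.card (centralizer ({x} : Set X)) := by
    intro x hx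
    have hlt : center X < centralizer ({x} : Set X) :=
      lt_of_le_of_ne (center_le_centralizer _) fun h => hx (h ▸ mem_centralizer_iff.2 (by simp))
    obtain ⟨i, hi, hic⟩ := (Nat.dvd_prime_pow hp.out).1 (hX ▸ card_subgroup_dvd_card (centralizer ({x} : Set X)))
    have h1 : Nat.card (center X) < Nat.card (centralizer ({x} : Set X)) := by
      by_contra h
      exact hlt.ne (Subgroup.eq_of_le_of_card_ge hlt.le (not_lt.1 h))
    rw [hZ, hic] at h1
    rw [hic]
    refine Nat.pow_le_pow_right hp.out.pos ?_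
    by_contra h
    exact absurd h1 (not_lt.2 (by simpa using Nat.pow_le_pow_right hp.out.pos (show i ≤ 1 by omega)))
  rcases hn.eq_or_lt with rfl | h4
  · obtain ⟨x, hxM, hxZ⟩ := exists_notMem_two hM hZtop
    refine ⟨x, hxM, le_antisymm ?_ (hlow x hxZ)⟩
    obtain ⟨i, hi, hic⟩ := (Nat.dvd_prime_pow hp.out).1 (hX ▸ card_subgroup_dvd_card (centralizer ({x} : Set X)))
    rw [hic]
    refine Nat.pow_le_pow_right hp.out.pos ?_
    by_contra h
    refine hxZ (mem_center_iff.2 fun y => ?_)
    have he : centralizer ({x} : Set X) = ⊤ :=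
      Subgroup.eq_top_of_card_eq _ (by rw [hic, hX, show i = 3 by omega])
    have hy : y ∈ centralizer ({x} : Set X) := by rw [he]; exact mem_top y
    exact (mem_centralizer_iff.1 hy x rfl).symm
  · by_cases hp2 : p = 2
    · subst hp2
      obtain ⟨c, y, hc', hy, hrel, -⟩ := PGroups.maxClass_two hn hX hc
      have hctop : zpowers c ≠ ⊤ := fun h => hy (h ▸ mem_top y)
      have hidx : (zpowers c).index = 2 := by
        have h1 := (zpowers c).card_mul_index
        rw [Nat.card_zpowers, hc', hX] at h1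
        nth_rw 2 [show n = (n - 1) + 1 by omega] at h1
        rw [pow_succ] at h1
        exact Nat.eq_of_mul_eq_mul_left (by positivity) h1
      obtain ⟨x, hxM, hxc⟩ := exists_notMem_two hM hctop
      have hyx : y⁻¹ * x ∈ zpowers c := (Subgroup.mul_mem_iff_of_index_two hidx).2 (by
        simp [inv_mem_iff, hy, hxc])
      obtain ⟨k, hk⟩ := mem_zpowers_iff.1 hyx
      have hconj : x * c * x⁻¹ = y * c * y⁻¹ := by
        rw [show x = y * c ^ k by rw [hk, mul_inv_cancel_left]]; group
      obtain ⟨e, he1, he0, he2⟩ : ∃ e : ℕ, y * c * y⁻¹ = c ^ e ∧ 1 ≤ e ∧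
          ∀ j : ℕ, 2 ^ (n - 1) ∣ j * e - j → 2 ^ (n - 2) ∣ j := by
        have hn1 : 2 ^ (n - 1) = 2 * 2 ^ (n - 2) := by
          rw [show n - 1 = n - 2 + 1 by omega, pow_succ']
        have hn3 : 2 ^ (n - 2) = 2 * 2 ^ (n - 3) := by
          rw [show n - 2 = n - 3 + 1 by omega, pow_succ']
        rcases hrel with ⟨h, -⟩ | ⟨-, h, -⟩
        · refine ⟨2 ^ (n - 1) - 1, ?_, by have := Nat.one_le_two_pow (n := n - 2); omega, fun j hj' => ?_⟩
          · rw [h, inv_eq_iff_mul_eq_one, ← pow_succ', Nat.sub_add_cancel Nat.one_le_two_pow, ← hc',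
              pow_orderOf_eq_one]
          · rcases Nat.eq_zero_or_pos j with rfl | hj0
            · simp
            have e : j * (2 ^ (n - 1) - 1) - j + 2 * j = j * 2 ^ (n - 1) := by
              rw [Nat.mul_sub, mul_one]
              have : 2 * j ≤ j * 2 ^ (n - 1) := by
                rw [mul_comm 2 j]
                exact Nat.mul_le_mul_left j (by have := Nat.one_le_two_pow (n := n - 2); omega)
              omega
            have hd := (Nat.dvd_add_right hj').1 (e ▸ dvd_mul_left (2 ^ (n - 1)) j)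
            rw [hn1] at hd
            exact Nat.dvd_of_mul_dvd_mul_left two_pos hd
        · refine ⟨2 ^ (n - 2) - 1, h, by have := Nat.one_le_two_pow (n := n - 3); omega, fun j hj' => ?_⟩
          have h2 : 2 ≤ 2 ^ (n - 2) - 1 := by
            have : 2 ^ 2 ≤ 2 ^ (n - 2) := Nat.pow_le_pow_right two_pos (by omega)
            omega
          have e : j * (2 ^ (n - 2) - 1) - j = 2 * j * (2 ^ (n - 3) - 1) := by
            rw [hn3, Nat.mul_sub, Nat.mul_sub, mul_one, mul_one, ← mul_assoc, mul_comm j 2]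
            omega
          rw [e, hn1, mul_assoc] at hj'
          have hd := Nat.dvd_of_mul_dvd_mul_left two_pos hj'
          refine (Nat.Coprime.dvd_of_dvd_mul_right ?_ hd)
          refine Nat.Coprime.pow_left _ ((Nat.prime_two.coprime_iff_not_dvd).2 ?_)
          have : 2 ^ (n - 3) = 2 * 2 ^ (n - 4) := by
            rw [show n - 3 = n - 4 + 1 by omega, pow_succ']
          have := Nat.one_le_two_pow (n := n - 4)
          omega
      have hxZ : x ∉ center X := by
        intro h
        have h1 : c ^ e = c := by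
          rw [← he1, ← hconj, ← mem_center_iff.1 h c, mul_inv_cancel_right]
        have h2 : e ≡ 1 [MOD 2 ^ (n - 1)] := by
          rw [← hc', ← pow_eq_pow_iff_modEq, h1, pow_one]
        have h3 := Nat.le_of_dvd one_pos (he2 1 (by rw [one_mul]; exact (Nat.modEq_iff_dvd' he0).1 h2.symm))
        have : 2 ^ 1 ≤ 2 ^ (n - 2) := Nat.pow_le_pow_right two_pos (by omega)
        omega
      refine ⟨x, hxM, le_antisymm ?_ (hlow x hxZ)⟩
      set C := centralizer ({x} : Set X)
      have hsub : C ⊓ zpowers c ≤ zpowers (c ^ 2 ^ (n - 2)) := by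
        rintro v ⟨hv, hvc⟩
        obtain ⟨j, rfl⟩ := ((isOfFinOrder_of_finite c).mem_powers_iff_mem_zpowers).2 hvc
        have hcomm : x * c ^ j * x⁻¹ = c ^ j := by
          rw [mem_centralizer_iff.1 hv x rfl, mul_inv_cancel_right]
        rw [← conj_pow, hconj, he1, ← pow_mul, pow_eq_pow_iff_modEq, hc'] at hcomm
        have hd : 2 ^ (n - 2) ∣ j := he2 j (by
          rw [mul_comm e j] at hcomm
          exact (Nat.modEq_iff_dvd' (Nat.le_mul_of_pos_right j he0)).1 hcomm.symm)
        obtain ⟨d, rfl⟩ := hd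
        rw [show (fun x => c ^ x) (2 ^ (n - 2) * d) = (c ^ 2 ^ (n - 2)) ^ d from pow_mul _ _ _]
        exact pow_mem (mem_zpowers _) d
      have h2 : Nat.card ↥(C ⊓ zpowers c) ≤ 2 := by
        refine (card_le_of_le hsub).trans ?_
        rw [Nat.card_zpowers]
        refine Nat.le_of_dvd two_pos (orderOf_dvd_of_pow_eq_one ?_)
        rw [← pow_mul, ← pow_succ, show n - 2 + 1 = n - 1 by omega, ← hc', pow_orderOf_eq_one]
      have h3 := Subgroup.relIndex_mul_index (inf_le_left : C ⊓ zpowers c ≤ C)
      have h4' : (C ⊓ zpowers c).relIndex C ≤ 2 := by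
        rw [Subgroup.inf_relIndex_left, ← hidx]
        exact Nat.le_of_dvd (by rw [hidx]; omega) (by
          haveI : (zpowers c).Normal := normal_of_index_eq_two hidx
          exact Subgroup.relIndex_dvd_index_of_normal _ _)
      have h5 := ((C ⊓ zpowers c).subgroupOf C).card_mul_index
      rw [Nat.card_congr (subgroupOfEquivOfLe inf_le_left).toEquiv] at h5
      rw [← h5]
      calc Nat.card ↥(C ⊓ zpowers c) * (C ⊓ zpowers c).relIndex C ≤ 2 * 2 := Nat.mul_le_mul h2 h4'
        _ = 2 ^ 2 := rfl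
    · have Mx : PGroups.MaxClassGrp X p n := ⟨hX, h4, fun h => by
        haveI := hG.isNilpotent
        rw [Subgroup.lowerCentralSeries_eq_bot_iff_nilpotencyClass_le] at h
        omega⟩
      have hne : ∀ j, 2 ≤ j → j + 2 ≤ n → PGroups.layerCent X j ≠ ⊤ := fun j hj hjn he => by
        have h := Mx.layerCent_index hj hjn
        rw [he, Subgroup.index_top] at h
        exact hp.out.one_lt.ne h
      obtain ⟨x, h1, h2, h3⟩ := Mx.exists_outside_three hp2 (PGroups.layerCent X 2)
        (PGroups.layerCent X (n - 2)) M (hne _ le_rfl (by omega)) (hne _ (by omega) (by omega)) hM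
      exact ⟨x, h3, (Mx.pair_of_notMem hp2 h1 h2).cent⟩

end Cfsg.Agent.H87.MaxClassExists
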