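import Cfsg.Agent.PGroups.Basic
import Mathlib.GroupTheory.Sylow
import Mathlib.FieldTheory.Finite.Basic

/-!
A uniform element `x` of a `p`-group `P ≤ G` (centralizer in `P` of order `p ^ 2`) whose centralizer in
`G` has order divisible by `p ^ 3` has a power conjugate into the centre or the second centre of `P`.
-/

set_option autoImplicit false
set_option linter.unusedSectionVars false
set_option linter.style.haveILetI false

namespace Cfsg.Agent.H87.MaxClassFusion

open Subgroup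
open scoped commutatorElement

universe u

variable {G : Type u} [Group G] {p : ℕ}

/-- The centre of `P` as a subgroup of `G`. -/
def ctr (P : Subgroup G) : Subgroup G := P ⊓ centralizer (P : Set G)

/-- The centralizer of `x` in `P`. -/
def cen (P : Subgroup G) (x : G) : Subgroup G := P ⊓ centralizer ({x} : Set G)

theorem mem_ctr {P : Subgroup G} {v : G} : v ∈ ctr P ↔ v ∈ P ∧ ∀ w ∈ P, w * v = v * w := by
  simp only [ctr, mem_inf, mem_centralizer_iff, SetLike.mem_coe]

theorem mem_cen {P : Subgroup G} {x v : G} : v ∈ cen P x ↔ v ∈ P ∧ x * v = v * x := by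
  simp only [cen, mem_inf, mem_centralizer_iff, Set.mem_singleton_iff, forall_eq]

theorem ctr_le (P : Subgroup G) : ctr P ≤ P := inf_le_left

/-- The second centre of `P` as a subgroup of `G`. -/
def sec (P : Subgroup G) : Subgroup G where
  carrier := {v | v ∈ P ∧ ∀ w ∈ P, ⁅v, w⁆ ∈ ctr P}
  one_mem' := ⟨one_mem _, fun w _ => by simp⟩
  mul_mem' {a b} ha hb := ⟨mul_mem ha.1 hb.1, fun w hw => by
    have hc := (mem_ctr.1 (hb.2 w hw)).2 a ha.1
    rw [show ⁅a * b, w⁆ = a * ⁅b, w⁆ * a⁻¹ * ⁅a, w⁆ by simp only [commutatorElement_def]; group, hc,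
      mul_inv_cancel_right]
    exact mul_mem (hb.2 w hw) (ha.2 w hw)⟩
  inv_mem' {a} ha := ⟨inv_mem ha.1, fun w hw => by
    have hc := (mem_ctr.1 (inv_mem (ha.2 w hw))).2 a⁻¹ (inv_mem ha.1)
    rw [show ⁅a⁻¹, w⁆ = a⁻¹ * ⁅a, w⁆⁻¹ * a by simp only [commutatorElement_def]; group, hc, mul_assoc,
      inv_mul_cancel, mul_one]
    exact inv_mem (ha.2 w hw)⟩

theorem mem_sec {P : Subgroup G} {v : G} : v ∈ sec P ↔ v ∈ P ∧ ∀ w ∈ P, ⁅v, w⁆ ∈ ctr P := Iff.rfl

theorem sec_le (P : Subgroup G) : sec P ≤ P := fun _ h => h.1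

theorem ctr_le_sec (P : Subgroup G) : ctr P ≤ sec P := fun v hv =>
  ⟨ctr_le P hv, fun w hw => by
    rw [commutatorElement_eq_one_iff_mul_comm.2 ((mem_ctr.1 hv).2 w hw).symm]
    exact one_mem _⟩

/-- The second centre commutes with the derived subgroup. -/
theorem comm_sec {P : Subgroup G} {s y : G} (hs : s ∈ sec P) (hy : y ∈ ⁅P, P⁆) : s * y = y * s := by
  let φ : P →* G :=
    { toFun := fun v => ⁅s, (v : G)⁆
      map_one' := by simp
      map_mul' := fun a b => by
        have hc := (mem_ctr.1 (hs.2 b b.2)).2 a a.2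
        simp only [Subgroup.coe_mul]
        rw [show ⁅s, (a : G) * b⁆ = ⁅s, (a : G)⁆ * ((a : G) * ⁅s, (b : G)⁆ * (a : G)⁻¹) by
          simp only [commutatorElement_def]; group, hc, mul_inv_cancel_right] }
  have hker : ⁅(⊤ : Subgroup P), (⊤ : Subgroup P)⁆ ≤ φ.ker := by
    rw [Subgroup.commutator_le]
    intro a _ b _
    rw [MonoidHom.mem_ker, map_commutatorElement, commutatorElement_eq_one_iff_mul_comm]
    exact ((mem_ctr.1 (hs.2 b b.2)).2 _ (ctr_le P (hs.2 a a.2)))
  have hy' : y ∈ ⁅(⊤ : Subgroup P), (⊤ : Subgroup P)⁆.map P.subtype := by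
    rwa [Subgroup.map_commutator, ← MonoidHom.range_eq_map, Subgroup.range_subtype]
  obtain ⟨v, hv, rfl⟩ := hy'
  exact commutatorElement_eq_one_iff_mul_comm.1 (hker hv)

/-- If commutators of `D` with `x` are central, `|D : C_D(x)|` is the order of their group. -/
theorem card_eq_of_commutator_central [Finite G] (D : Subgroup G) (x : G) (Z : Subgroup G) (hZD : Z ≤ D)
    (hZ : ∀ d ∈ D, ⁅d, x⁆ ∈ Z) (hc : ∀ d ∈ D, ∀ z ∈ Z, d * z = z * d) :
    ∃ I : Subgroup G, I ≤ Z ∧ Nat.card D = Nat.card I * Nat.card ↥(D ⊓ centralizer ({x} : Set G)) ∧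
      ∀ d ∈ D, ⁅d, x⁆ ∈ I := by
  let ψ : D →* G :=
    { toFun := fun d => ⁅(d : G), x⁆
      map_one' := by simp
      map_mul' := fun a b => by
        simp only [Subgroup.coe_mul]
        rw [show ⁅(a : G) * b, x⁆ = (a : G) * ⁅(b : G), x⁆ * (a : G)⁻¹ * ⁅(a : G), x⁆ by
          simp only [commutatorElement_def]; group, hc a a.2 _ (hZ b b.2), mul_inv_cancel_right]
        exact hc _ (hZD (hZ b b.2)) _ (hZ a a.2) }
  refine ⟨ψ.range, ?_, ?_, fun d hd => ⟨⟨d, hd⟩, rfl⟩⟩
  · rintro _ ⟨d, rfl⟩; exact hZ d d.2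
  · have hk : ψ.ker = (D ⊓ centralizer ({x} : Set G)).subgroupOf D := by
      ext d
      rw [MonoidHom.mem_ker, Subgroup.mem_subgroupOf, mem_inf, mem_centralizer_iff]
      simp only [Set.mem_singleton_iff, forall_eq, SetLike.coe_mem, true_and]
      show ⁅(d : G), x⁆ = 1 ↔ _
      rw [commutatorElement_eq_one_iff_mul_comm, eq_comm]
    rw [← ψ.ker.card_mul_index, Subgroup.index_ker, hk,
      Nat.card_congr (subgroupOfEquivOfLe (inf_le_left : D ⊓ _ ≤ D)).toEquiv, mul_comm]

variable [Finite G] [hp : Fact p.Prime]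

/-- `x` is a uniform element of the `p`-group `P` of order `p ^ n`. -/
structure Uni (P : Subgroup G) (p n : ℕ) (x : G) : Prop where
  card : Nat.card P = p ^ n
  three_le : 3 ≤ n
  mem : x ∈ P
  card_cen : Nat.card ↥(cen P x) = p ^ 2

namespace Uni

variable {P : Subgroup G} {n : ℕ} {x : G} (U : Uni P p n x)
include U

theorem ctr_le_cen : ctr P ≤ cen P x := fun _ hv =>
  mem_cen.2 ⟨ctr_le P hv, (mem_ctr.1 hv).2 x U.mem⟩

theorem self_mem_cen : x ∈ cen P x := mem_cen.2 ⟨U.mem, rfl⟩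

theorem not_mem_ctr : x ∉ ctr P := by
  intro h
  have he : cen P x = P :=
    le_antisymm inf_le_left fun v hv => mem_cen.2 ⟨hv, ((mem_ctr.1 h).2 v hv).symm⟩
  have h2 := U.card_cen
  rw [he, U.card] at h2
  have := Nat.pow_right_injective hp.out.two_le h2
  have := U.three_le
  omega

theorem ctr_ne_bot : ctr P ≠ ⊥ := by
  haveI : Nontrivial P := Finite.one_lt_card_iff_nontrivial.1 (by
    rw [U.card]; exact Nat.one_lt_pow (by have := U.three_le; omega) hp.out.one_lt)
  have h := (IsPGroup.of_card U.card).bot_lt_center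
  obtain ⟨v, hv, hv1⟩ := (center P).ne_bot_iff_exists_ne_one.1 h.ne' |> fun ⟨⟨v, hv⟩, h1⟩ =>
    (⟨v, hv, fun e => h1 (Subtype.ext e)⟩ : ∃ v ∈ center P, v ≠ 1)
  intro hbot
  have : (v : G) ∈ ctr P := mem_ctr.2 ⟨v.2, fun w hw => congrArg Subtype.val (mem_center_iff.1 hv ⟨w, hw⟩)⟩
  rw [hbot, mem_bot] at this
  exact hv1 (Subtype.ext this)

theorem card_ctr : Nat.card (ctr P) = p := by
  obtain ⟨i, hi, hic⟩ := (Nat.dvd_prime_pow hp.out).1 (U.card_cen ▸ card_dvd_of_le U.ctr_le_cen)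
  have h0 : i ≠ 0 := fun h => U.ctr_ne_bot (card_eq_one.1 (by rw [hic, h, pow_zero]))
  have h2 : i ≠ 2 := fun h => U.not_mem_ctr (by
    rw [Subgroup.eq_of_le_of_card_ge U.ctr_le_cen (by rw [hic, h, U.card_cen])]
    exact U.self_mem_cen)
  rw [hic, show i = 1 by omega, pow_one]

theorem zpowers_eq_ctr {z : G} (hz : z ∈ ctr P) (h1 : z ≠ 1) : zpowers z = ctr P := by
  refine Subgroup.eq_of_le_of_card_ge (zpowers_le.2 hz) ?_
  have hd := card_dvd_of_le (zpowers_le.2 hz)
  rw [U.card_ctr] at hd ⊢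
  rcases hp.out.eq_one_or_self_of_dvd _ hd with h | h
  · exact absurd (Subgroup.zpowers_eq_bot.1 (card_eq_one.1 h)) h1
  · exact h.ge

theorem pow_p_eq_one {z : G} (hz : z ∈ ctr P) : z ^ p = 1 :=
  U.card_ctr ▸ congrArg Subtype.val (pow_card_eq_one' (x := (⟨z, hz⟩ : ctr P)))

/-- Some element of the second centre moves `x`. -/
theorem exists_sec : ∃ u ∈ sec P, ⁅u, x⁆ ≠ 1 := by
  by_contra hall
  push Not at hall
  have hle : sec P ≤ cen P x := fun u hu =>
    mem_cen.2 ⟨hu.1, (commutatorElement_eq_one_iff_mul_comm.1 (hall u hu)).symm⟩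
  have hG := IsPGroup.of_card U.card
  have hne : (center P) ≠ ⊤ := fun h => U.not_mem_ctr
    (mem_ctr.2 ⟨U.mem, fun w hw => congrArg Subtype.val (mem_center_iff.1 (h ▸ mem_top (⟨x, U.mem⟩ : P)) ⟨w, hw⟩)⟩)
  have hcc : Nat.card (center P) = p := by
    rw [← U.card_ctr, ← card_map_of_injective P.subtype_injective]
    congr 2
    ext v
    simp only [mem_map, mem_ctr, mem_center_iff, coe_subtype]
    exact ⟨fun ⟨w, hw, e⟩ => e ▸ ⟨w.2, fun a ha => congrArg Subtype.val (hw ⟨a, ha⟩)⟩,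
      fun ⟨hv, hv'⟩ => ⟨⟨v, hv⟩, fun a => Subtype.ext (hv' a a.2), rfl⟩⟩
  haveI : Nontrivial (P ⧸ center P) := QuotientGroup.nontrivial_iff.2 hne
  obtain ⟨c, hc, hc1⟩ := (center (P ⧸ center P)).ne_bot_iff_exists_ne_one.1
    ((hG.to_quotient (center P)).bot_lt_center).ne' |> fun ⟨⟨v, hv⟩, h1⟩ =>
      (⟨v, hv, fun e => h1 (Subtype.ext e)⟩ : ∃ v ∈ center (P ⧸ center P), v ≠ 1)
  obtain ⟨u, rfl⟩ := QuotientGroup.mk'_surjective (center P) c
  have hus : (u : G) ∈ sec P := by
    refine ⟨u.2, fun w hw => ?_⟩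
    have h : ⁅u, (⟨w, hw⟩ : P)⁆ ∈ center P := (QuotientGroup.eq_one_iff _).1 (by
      show QuotientGroup.mk' (center P) _ = 1
      rw [map_commutatorElement, commutatorElement_eq_one_iff_mul_comm]
      exact (mem_center_iff.1 hc _).symm)
    refine mem_ctr.2 ⟨(⁅u, (⟨w, hw⟩ : P)⁆).2, fun a ha => congrArg Subtype.val (mem_center_iff.1 h ⟨a, ha⟩)⟩
  have huc : (u : G) ∉ ctr P := fun h => hc1 ((QuotientGroup.eq_one_iff _).2
    (mem_center_iff.2 fun a => Subtype.ext ((mem_ctr.1 h).2 a a.2)))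
  have hsec : sec P = cen P x := by
    refine Subgroup.eq_of_le_of_card_ge hle ?_
    obtain ⟨i, hi, hic⟩ := (Nat.dvd_prime_pow hp.out).1 (U.card_cen ▸ card_dvd_of_le hle)
    have hlt : Nat.card (ctr P) < Nat.card (sec P) := by
      by_contra h
      exact huc (Subgroup.eq_of_le_of_card_ge (ctr_le_sec P) (not_lt.1 h) ▸ hus)
    rw [U.card_ctr, hic] at hlt
    have : 2 ≤ i := by
      by_contra h
      exact absurd hlt (not_lt.2 (by simpa using Nat.pow_le_pow_right hp.out.pos (show i ≤ 1 by omega)))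
    rw [hic, U.card_cen]
    exact Nat.pow_le_pow_right hp.out.pos this
  have hxs : x ∈ sec P := hsec ▸ U.self_mem_cen
  obtain ⟨I, hI, hcard, -⟩ := card_eq_of_commutator_central P x (ctr P) (ctr_le P)
    (fun d hd => by rw [← commutatorElement_inv]; exact inv_mem (hxs.2 d hd))
    (fun d hd z hz => (mem_ctr.1 hz).2 d hd)
  have hn : n = 3 := by
    have hle' : p ^ n ≤ p ^ 3 := by
      rw [← U.card, hcard, pow_succ', ← U.card_cen]
      exact Nat.mul_le_mul (U.card_ctr ▸ card_le_of_le hI) le_rfl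
    have := (Nat.pow_le_pow_iff_right hp.out.one_lt).1 hle'
    have := U.three_le
    omega
  have hq : Nat.card (P ⧸ center P) = p ^ 2 := by
    have h := card_eq_card_quotient_mul_card_subgroup (center P)
    rw [U.card, hcc, hn, pow_succ] at h
    exact (Nat.eq_of_mul_eq_mul_right hp.out.pos h).symm
  haveI : IsMulCommutative (P ⧸ center P) := IsPGroup.isMulCommutative_of_card_eq_prime_sq hq
  have hall' : P ≤ sec P := fun v hv => ⟨hv, fun w hw => by
    have h : ⁅(⟨v, hv⟩ : P), (⟨w, hw⟩ : P)⁆ ∈ center P := (QuotientGroup.eq_one_iff _).1 (by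
      show QuotientGroup.mk' (center P) _ = 1
      rw [map_commutatorElement, commutatorElement_eq_one_iff_mul_comm]
      exact mul_comm' _ _)
    exact mem_ctr.2 ⟨(⁅(⟨v, hv⟩ : P), (⟨w, hw⟩ : P)⁆).2,
      fun a ha => congrArg Subtype.val (mem_center_iff.1 h ⟨a, ha⟩)⟩⟩
  have h := card_le_of_le (hall'.trans hle)
  rw [U.card, U.card_cen, hn] at h
  have := (Nat.pow_le_pow_iff_right hp.out.one_lt).1 h
  omega

theorem ctr_le_commutator : ctr P ≤ ⁅P, P⁆ := by
  obtain ⟨u, hu, h1⟩ := U.exists_sec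
  rw [← U.zpowers_eq_ctr (hu.2 x U.mem) h1, zpowers_le]
  exact commutator_mem_commutator hu.1 U.mem

theorem pow_x_mem {b : ℕ} (hb : ¬ p ∣ b) {H : Subgroup G} (h : x ^ b ∈ H) : x ∈ H := by
  have hco : (orderOf x).Coprime b := by
    have : orderOf x ∣ p ^ n := U.card ▸ Subgroup.orderOf_dvd_natCard P U.mem
    exact Nat.Coprime.coprime_dvd_left this (Nat.Coprime.pow_left n (hp.out.coprime_iff_not_dvd.2 hb))
  obtain ⟨m, hm⟩ := exists_pow_eq_self_of_coprime hco.symm
  exact hm ▸ pow_mem h m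

theorem mem_cen_form {w : G} (hw : w ∈ cen P x) : ∃ b < p, ∃ c ∈ ctr P, w = x ^ b * c := by
  let f : Fin p × ctr P → cen P x := fun e =>
    ⟨x ^ (e.1 : ℕ) * (e.2 : G), mul_mem (pow_mem U.self_mem_cen _) (U.ctr_le_cen e.2.2)⟩
  have hxp : x ^ p ∈ ctr P := by
    by_contra hnot
    have hle : zpowers (x ^ p) ⊔ ctr P ≤ cen P x :=
      sup_le (zpowers_le.2 (pow_mem U.self_mem_cen _)) U.ctr_le_cen
    obtain ⟨i, hi, hic⟩ := (Nat.dvd_prime_pow hp.out).1 (U.card_cen ▸ card_dvd_of_le hle)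
    have hlt : Nat.card (ctr P) < Nat.card ↥(zpowers (x ^ p) ⊔ ctr P) := by
      by_contra h
      exact hnot (Subgroup.eq_of_le_of_card_ge le_sup_right (not_lt.1 h) ▸ mem_sup_left (mem_zpowers _))
    rw [U.card_ctr, hic] at hlt
    have h2 : i = 2 := by
      by_contra h
      exact absurd hlt (not_lt.2 (by simpa using Nat.pow_le_pow_right hp.out.pos (show i ≤ 1 by omega)))
    have he := Subgroup.eq_of_le_of_card_ge hle (by rw [hic, U.card_cen, h2])
    have hx : x ∈ zpowers (x ^ p) ⊔ ctr P := he ▸ U.self_mem_cen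
    haveI hcom : IsMulCommutative ↥(cen P x) := IsPGroup.isMulCommutative_of_card_eq_prime_sq U.card_cen
    have hnorm : zpowers (x ^ p) ≤ normalizer (ctr P : Set G) := by
      rw [zpowers_le]
      refine mem_normalizer_iff.2 fun c => ?_
      constructor
      · intro hc
        rwa [(mem_ctr.1 hc).2 _ (pow_mem U.mem p), mul_inv_cancel_right]
      · intro hc
        have e := (mem_ctr.1 hc).2 _ (pow_mem U.mem p)
        have e' : x ^ p * c * (x ^ p)⁻¹ = c := by
          conv_rhs => rw [show c = (x ^ p)⁻¹ * (x ^ p * c * (x ^ p)⁻¹) * x ^ p by group]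
          rw [mul_assoc ((x ^ p)⁻¹), ← e]; group
        rwa [e'] at hc
    rw [← SetLike.mem_coe, Subgroup.coe_mul_of_left_le_normalizer_right _ _ hnorm] at hx
    obtain ⟨a, ha, c, hc, hac⟩ := hx
    obtain ⟨k, rfl⟩ := mem_zpowers_iff.1 ha
    have hmem : x ^ (1 - (p : ℤ) * k) ∈ ctr P := by
      have e : x ^ (1 - (p : ℤ) * k) = c := by
        have e2 : c = ((x ^ p) ^ k)⁻¹ * x := by
          have hac' : (x ^ p) ^ k * c = x := hac
          exact eq_inv_mul_of_mul_eq hac'
        rw [e2, ← zpow_natCast x p, ← zpow_mul, sub_eq_neg_add, zpow_add, zpow_neg, zpow_one]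
      rw [e]; exact hc
    have hnat : x ^ ((1 - (p : ℤ) * k).natAbs) ∈ ctr P := by
      rcases Int.natAbs_eq (1 - (p : ℤ) * k) with e | e
      · rw [← zpow_natCast, ← e]; exact hmem
      · have e' : ((1 - (p : ℤ) * k).natAbs : ℤ) = -(1 - (p : ℤ) * k) := by omega
        rw [← zpow_natCast, e', zpow_neg]; exact inv_mem hmem
    refine U.not_mem_ctr (U.pow_x_mem (fun hd => ?_) hnat)
    have : (p : ℤ) ∣ 1 - (p : ℤ) * k := Int.ofNat_dvd_left.2 hd
    have : (p : ℤ) ∣ 1 := by simpa using dvd_add this (dvd_mul_right (p : ℤ) k)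
    exact hp.out.one_lt.ne' (Nat.dvd_one.1 (Int.natCast_dvd_natCast.1 (by simpa using this)))
  have hinj : Function.Injective f := by
    have key : ∀ (a b : ℕ), a ≤ b → b < p → ∀ c d : ctr P, x ^ a * (c : G) = x ^ b * (d : G) → a = b := by
      intro a b hab hb c d e
      by_contra hne
      have hm : x ^ (b - a) ∈ ctr P := by
        have : x ^ (b - a) = (c : G) * (d : G)⁻¹ := by
          rw [show b = a + (b - a) by omega, pow_add, mul_assoc] at e
          rw [mul_left_cancel e, mul_inv_cancel_right]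
        rw [this]; exact mul_mem c.2 (inv_mem d.2)
      exact U.not_mem_ctr (U.pow_x_mem (Nat.not_dvd_of_pos_of_lt (by omega) (by omega)) hm)
    rintro ⟨a, c⟩ ⟨b, d⟩ h
    have h' : x ^ (a : ℕ) * (c : G) = x ^ (b : ℕ) * (d : G) := congrArg Subtype.val h
    have hab : (a : ℕ) = b := by
      rcases le_total (a : ℕ) b with hl | hl
      · exact key _ _ hl b.2 c d h'
      · exact (key _ _ hl a.2 d c h'.symm).symm
    rw [hab] at h'
    exact Prod.ext (Fin.ext hab) (Subtype.ext (mul_left_cancel h'))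
  have hbij := (Nat.bijective_iff_injective_and_card f).2 ⟨hinj, by
    rw [Nat.card_prod, Nat.card_fin, U.card_ctr, U.card_cen, sq]⟩
  obtain ⟨⟨b, c⟩, hb⟩ := hbij.2 ⟨w, hw⟩
  exact ⟨b, b.2, c, c.2, (congrArg Subtype.val hb).symm⟩

theorem card_sec (h4 : 4 ≤ n) : Nat.card (sec P) = p ^ 2 ∧ ¬ x ∈ sec P := by
  obtain ⟨u, hu, h1⟩ := U.exists_sec
  obtain ⟨I, hI, hcard, hIm⟩ := card_eq_of_commutator_central (sec P) x (ctr P) (ctr_le_sec P)
    (fun d hd => hd.2 x U.mem) (fun d hd z hz => (mem_ctr.1 hz).2 d hd.1)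
  have hIc : Nat.card I = p := by
    have hd := card_dvd_of_le hI
    rw [U.card_ctr] at hd
    rcases hp.out.eq_one_or_self_of_dvd _ hd with h | h
    · have := hIm u hu
      rw [card_eq_one.1 h, mem_bot] at this
      exact absurd this h1
    · exact h
  have hx : x ∉ sec P := by
    intro hxs
    obtain ⟨J, hJ, hJc, -⟩ := card_eq_of_commutator_central P x (ctr P) (ctr_le P)
      (fun d hd => by rw [← commutatorElement_inv]; exact inv_mem (hxs.2 d hd))
      (fun d hd z hz => (mem_ctr.1 hz).2 d hd)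
    have hle : p ^ n ≤ p ^ 3 := by
      rw [← U.card, hJc, pow_succ', ← U.card_cen]
      exact Nat.mul_le_mul (U.card_ctr ▸ card_le_of_le hJ) le_rfl
    have := (Nat.pow_le_pow_iff_right hp.out.one_lt).1 hle
    omega
  have hinf : sec P ⊓ centralizer ({x} : Set G) = ctr P := by
    refine le_antisymm ?_ (le_inf (ctr_le_sec P) fun v hv => (mem_inf.1 (U.ctr_le_cen hv)).2)
    intro v hv
    have hvA : v ∈ cen P x := ⟨hv.1.1, hv.2⟩
    obtain ⟨b, hb, c, hc, rfl⟩ := U.mem_cen_form hvA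
    rcases Nat.eq_zero_or_pos b with rfl | hb0
    · simpa using hc
    · refine absurd (U.pow_x_mem (Nat.not_dvd_of_pos_of_lt hb0 hb) (H := sec P) ?_) hx
      simpa using mul_mem (mem_inf.1 hv).1 (inv_mem (ctr_le_sec P hc))
  exact ⟨by rw [hcard, hIc, hinf, U.card_ctr, sq], hx⟩

theorem sec_le_cen_absurd (h : sec P ≤ cen P x) : False := by
  obtain ⟨u, hu, h1⟩ := U.exists_sec
  exact h1 (commutatorElement_eq_one_iff_mul_comm.2 (mem_cen.1 (h hu)).2.symm)

end Uni

/-- Either a power of `x` is conjugate into the centre, or `p ^ 3` divides `|C(Z) ∩ C(x)|`. -/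
theorem step {P : Subgroup G} {n : ℕ} {x : G} (U : Uni P p n x)
    (h3 : p ^ 3 ∣ Nat.card (centralizer ({x} : Set G))) :
    (∃ g b, ¬ p ∣ b ∧ g * x ^ b * g⁻¹ ∈ ctr P) ∨
      p ^ 3 ∣ Nat.card ↥(centralizer (ctr P : Set G) ⊓ centralizer ({x} : Set G)) := by
  set C := centralizer ({x} : Set G)
  have hAC : cen P x ≤ C := inf_le_right
  obtain ⟨K', hK', hAK'⟩ := Sylow.exists_subgroup_card_pow_succ (n := 2) h3
    (H := (cen P x).subgroupOf C) (by rw [Nat.card_congr (subgroupOfEquivOfLe hAC).toEquiv, U.card_cen])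
  set K := K'.map C.subtype
  have hKc : Nat.card K = p ^ 3 := by rw [card_map_of_injective C.subtype_injective]; exact hK'
  have hKC : K ≤ C := map_subtype_le _
  have hAK : cen P x ≤ K := fun v hv =>
    mem_map.2 ⟨⟨v, hAC hv⟩, hAK' (mem_subgroupOf.2 hv), rfl⟩
  have hidx : ((cen P x).subgroupOf K).index = p := by
    have h := ((cen P x).subgroupOf K).card_mul_index
    rw [Nat.card_congr (subgroupOfEquivOfLe hAK).toEquiv, hKc, U.card_cen, pow_succ p 2] at h
    exact Nat.eq_of_mul_eq_mul_left (pow_pos hp.out.pos _) h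
  have hnorm : ((cen P x).subgroupOf K).Normal :=
    PGroups.normal_of_index_eq (IsPGroup.of_card hKc) hidx
  by_cases hK : K ≤ centralizer (ctr P : Set G)
  · exact Or.inr (hKc ▸ card_dvd_of_le (le_inf hK hKC))
  left
  obtain ⟨g, hgK, hg⟩ := SetLike.not_le_iff_exists.1 hK
  simp only [mem_centralizer_iff, SetLike.mem_coe, not_forall] at hg
  obtain ⟨z, hz, hgz⟩ := hg
  have hz1 : z ≠ 1 := by rintro rfl; simp at hgz
  have hwA : g * z * g⁻¹ ∈ cen P x := by
    simpa [mem_subgroupOf] using hnorm.conj_mem ⟨z, hAK (U.ctr_le_cen hz)⟩ (mem_subgroupOf.2 (U.ctr_le_cen hz))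
      ⟨g, hgK⟩
  have hwne : g * z * g⁻¹ ∉ ctr P := by
    intro hw
    rw [← U.zpowers_eq_ctr hz hz1] at hw
    obtain ⟨a, ha⟩ := ((isOfFinOrder_of_finite z).mem_powers_iff_mem_zpowers).2 hw
    have ha' : z ^ a = g * z * g⁻¹ := ha
    have hit : ∀ k : ℕ, g ^ k * z * (g ^ k)⁻¹ = z ^ (a ^ k) := by
      intro k
      induction k with
      | zero => simp
      | succ k ih =>
        calc g ^ (k + 1) * z * (g ^ (k + 1))⁻¹ = g ^ k * (g * z * g⁻¹) * (g ^ k)⁻¹ := by
              rw [pow_succ]; group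
          _ = (g ^ k * z * (g ^ k)⁻¹) ^ a := by rw [← ha', conj_pow]
          _ = _ := by rw [ih, ← pow_mul, ← pow_succ]
    have hord : orderOf z = p := orderOf_eq_prime (U.pow_p_eq_one hz) hz1
    have hg3 : g ^ p ^ 3 = 1 := by
      have := pow_card_eq_one' (x := (⟨g, hgK⟩ : K))
      rw [hKc] at this
      exact congrArg Subtype.val this
    have h := hit (p ^ 3)
    rw [hg3, one_mul, inv_one, mul_one] at h
    nth_rw 1 [← pow_one z] at h
    rw [pow_eq_pow_iff_modEq, hord, ← ZMod.natCast_eq_natCast_iff, Nat.cast_pow, ZMod.pow_card_pow,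
      Nat.cast_one] at h
    refine hgz ?_
    have hza : z ^ a = z := by
      nth_rw 2 [← pow_one z]
      rw [pow_eq_pow_iff_modEq, hord, ← ZMod.natCast_eq_natCast_iff, ← h, Nat.cast_one]
    rw [ha'] at hza
    calc z * g = (g * z * g⁻¹) * g := by rw [hza]
      _ = g * z := by group
  obtain ⟨b, hb, c, hc, hbc⟩ := U.mem_cen_form hwA
  have hb0 : b ≠ 0 := fun h => hwne (by rw [hbc, h, pow_zero, one_mul]; exact hc)
  have hpb : ¬ p ∣ b := Nat.not_dvd_of_pos_of_lt (Nat.pos_of_ne_zero hb0) hb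
  obtain ⟨u, hu, hu1⟩ := U.exists_sec
  set c₀ := ⁅u, x⁆
  have hc0 : c₀ ∈ ctr P := hu.2 x U.mem
  have hux : u * x * u⁻¹ = c₀ * x := by simp only [c₀, commutatorElement_def]; group
  have hcu : Commute u c₀ := (mem_ctr.1 hc0).2 u hu.1
  have hcx : Commute x c₀ := (mem_ctr.1 hc0).2 x U.mem
  have hk : ∀ k : ℕ, u ^ k * x * (u ^ k)⁻¹ = c₀ ^ k * x := by
    intro k
    induction k with
    | zero => simp
    | succ k ih =>
      calc u ^ (k + 1) * x * (u ^ (k + 1))⁻¹ = u * (u ^ k * x * (u ^ k)⁻¹) * u⁻¹ := by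
            rw [pow_succ']; group
        _ = u * c₀ ^ k * x * u⁻¹ := by rw [ih]; group
        _ = c₀ ^ k * (u * x * u⁻¹) := by rw [(hcu.pow_right k).eq]; group
        _ = _ := by rw [hux, pow_succ, mul_assoc]
  have hzc : c ∈ zpowers (c₀ ^ b) := by
    have hne : c₀ ^ b ≠ 1 := by
      intro h
      have ho := orderOf_dvd_of_pow_eq_one h
      rw [orderOf_eq_prime (U.pow_p_eq_one hc0) hu1] at ho
      exact hpb ho
    rw [U.zpowers_eq_ctr (pow_mem hc0 b) hne]
    exact hc
  obtain ⟨k, hkc⟩ := ((isOfFinOrder_of_finite (c₀ ^ b)).mem_powers_iff_mem_zpowers).2 hzc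
  have hkc' : (c₀ ^ b) ^ k = c := hkc
  refine ⟨g⁻¹ * u ^ k, b, hpb, ?_⟩
  have he : u ^ k * x ^ b * (u ^ k)⁻¹ = g * z * g⁻¹ := by
    rw [hbc, ← conj_pow, hk, ((hcx.pow_right k).symm).mul_pow, ← pow_mul, mul_comm k b, pow_mul, hkc',
      ← hkc', ← pow_mul, ((hcx.pow_left b).pow_right (b * k)).eq]
  have e : g⁻¹ * u ^ k * x ^ b * (g⁻¹ * u ^ k)⁻¹ = g⁻¹ * (u ^ k * x ^ b * (u ^ k)⁻¹) * g := by group
  rw [e, he, show g⁻¹ * (g * z * g⁻¹) * g = z by group]
  exact hz

/-- The hypotheses pass to the quotient by the centre of `P`. -/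
theorem quotient_uni {H' : Type u} [Group H'] (q : G →* H') (hq : Function.Surjective q) {P : Subgroup G}
    (hker : q.ker = ctr P) (hZ : ctr P ≤ center G) {n : ℕ} {x : G} (U : Uni P p n x) (h4 : 4 ≤ n)
    (h3 : p ^ 3 ∣ Nat.card (centralizer ({x} : Set G))) :
    Uni (P.map q) p (n - 1) (q x) ∧ p ^ 3 ∣ Nat.card (centralizer ({q x} : Set H')) ∧
      Nat.card G = p * Nat.card H' ∧ ∀ v ∈ P, q v ∈ ctr (P.map q) → v ∈ sec P := by
  haveI : Finite H' := Finite.of_surjective q hq
  have hcard : ∀ D : Subgroup G, ctr P ≤ D → Nat.card D = Nat.card (D.map q) * p := by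
    intro D hD
    have h := (q.comp D.subtype).ker.card_mul_index
    rw [Subgroup.index_ker, MonoidHom.range_comp, Subgroup.range_subtype, ← MonoidHom.comap_ker, hker] at h
    rw [← h, mul_comm, show (ctr P).comap D.subtype = (ctr P).subgroupOf D from rfl,
      Nat.card_congr (subgroupOfEquivOfLe hD).toEquiv, U.card_ctr]
  set D := (centralizer ({q x} : Set H')).comap q
  have hD : ∀ v, v ∈ D ↔ ⁅v, x⁆ ∈ ctr P := by
    intro v
    rw [← hker, MonoidHom.mem_ker, map_commutatorElement, commutatorElement_eq_one_iff_mul_comm]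
    simp only [D, mem_comap, mem_centralizer_iff, Set.mem_singleton_iff, forall_eq]
    exact eq_comm
  have hZD : ctr P ≤ D := fun v hv => by
    show q v ∈ centralizer _
    rw [MonoidHom.mem_ker.1 (hker ▸ hv : v ∈ q.ker)]
    exact one_mem _
  obtain ⟨u, hu, hu1⟩ := U.exists_sec
  have huD : u ∈ D := (hD u).2 (hu.2 x U.mem)
  have key : ∀ E : Subgroup G, E ≤ D → ctr P ≤ E → u ∈ E →
      Nat.card E = p * Nat.card ↥(E ⊓ centralizer ({x} : Set G)) := by
    intro E hE hZE hu'
    obtain ⟨I, hI, hc, hm⟩ := card_eq_of_commutator_central E x (ctr P) hZE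
      (fun d hd => (hD d).1 (hE hd)) (fun d _ z hz => mem_center_iff.1 (hZ hz) d)
    have hd := card_dvd_of_le hI
    rw [U.card_ctr] at hd
    rcases hp.out.eq_one_or_self_of_dvd _ hd with h | h
    · have := hm u hu'
      rw [card_eq_one.1 h, mem_bot] at this
      exact absurd this hu1
    · rw [hc, h]
  have hW := key (P ⊓ D) inf_le_right (le_inf (ctr_le P) hZD) ⟨hu.1, huD⟩
  have hWinf : P ⊓ D ⊓ centralizer ({x} : Set G) = cen P x := by
    refine le_antisymm (fun v hv => ⟨hv.1.1, hv.2⟩) fun v hv => ⟨⟨hv.1, (hD v).2 ?_⟩, hv.2⟩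
    rw [commutatorElement_eq_one_iff_mul_comm.2 (mem_cen.1 hv).2.symm]
    exact one_mem _
  rw [hWinf, U.card_cen] at hW
  have hcenq : cen (P.map q) (q x) = (P ⊓ D).map q := by
    refine le_antisymm ?_ ?_
    · rintro _ ⟨⟨v, hv, rfl⟩, hc⟩
      exact mem_map_of_mem q ⟨hv, hc⟩
    · rintro _ ⟨v, ⟨hv, hvD⟩, rfl⟩
      exact ⟨mem_map_of_mem q hv, hvD⟩
  refine ⟨⟨?_, by omega, mem_map_of_mem q U.mem, ?_⟩, ?_, ?_, fun v hv hvq => ⟨hv, fun w hw => ?_⟩⟩
  · have h := hcard P (ctr_le P)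
    rw [U.card, show n = n - 1 + 1 by omega, pow_succ] at h
    exact (Nat.eq_of_mul_eq_mul_right hp.out.pos h).symm
  · have h := hcard (P ⊓ D) (le_inf (ctr_le P) hZD)
    rw [← hcenq, hW, mul_comm p] at h
    exact (Nat.eq_of_mul_eq_mul_right hp.out.pos h).symm
  · have hinf : D ⊓ centralizer ({x} : Set G) = centralizer ({x} : Set G) :=
      inf_eq_right.2 fun v hv => (hD v).2 (by
        rw [commutatorElement_eq_one_iff_mul_comm.2
          (mem_centralizer_iff.1 hv x rfl).symm]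
        exact one_mem _)
    have h := key D le_rfl hZD huD
    rw [hinf, hcard D hZD, mul_comm p, Subgroup.map_comap_eq_self_of_surjective hq] at h
    rw [Nat.eq_of_mul_eq_mul_right hp.out.pos h]
    exact h3
  · rw [← Subgroup.card_top (G := G), hcard ⊤ le_top, Subgroup.map_top_of_surjective q hq,
      Subgroup.card_top, mul_comm]
  · rw [← hker, MonoidHom.mem_ker, map_commutatorElement, commutatorElement_eq_one_iff_mul_comm]
    exact ((mem_ctr.1 hvq).2 (q w) (mem_map_of_mem q hw)).symm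

/-- `Uni` and `ctr` inside a subgroup containing `P`. -/
theorem subgroupOf_uni {P L : Subgroup G} (hPL : P ≤ L) {n : ℕ} {x : G} (U : Uni P p n x) :
    Uni (P.subgroupOf L) p n (⟨x, hPL U.mem⟩ : L) ∧ ctr (P.subgroupOf L) = (ctr P).subgroupOf L := by
  refine ⟨⟨by rw [Nat.card_congr (subgroupOfEquivOfLe hPL).toEquiv, U.card], U.three_le,
    mem_subgroupOf.2 U.mem, ?_⟩, ?_⟩
  · have he : cen (P.subgroupOf L) (⟨x, hPL U.mem⟩ : L) = (cen P x).subgroupOf L := by
      ext v
      simp only [mem_cen, mem_subgroupOf, Subtype.ext_iff, Subgroup.coe_mul]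
    rw [he, Nat.card_congr (subgroupOfEquivOfLe (show cen P x ≤ L from inf_le_left.trans hPL)).toEquiv,
      U.card_cen]
  · ext v
    simp only [mem_ctr, mem_subgroupOf]
    refine and_congr_right fun _ => ⟨fun h w hw => congrArg Subtype.val (h ⟨w, hPL hw⟩ hw), fun h w hw => ?_⟩
    exact Subtype.ext (h w hw)

/-- The bottom case: for `n = 3` the hypotheses are contradictory. -/
theorem no_three {P : Subgroup G} {x : G} (U : Uni P p 3 x) (hmax : ¬ p ^ 4 ∣ Nat.card G)
    (hZ : ctr P ≤ center G) (h3 : p ^ 3 ∣ Nat.card (centralizer ({x} : Set G))) : False := by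
  have hAC : cen P x ≤ centralizer ({x} : Set G) := inf_le_right
  obtain ⟨K', hK', hAK'⟩ := Sylow.exists_subgroup_card_pow_succ (n := 2) h3
    (H := (cen P x).subgroupOf (centralizer ({x} : Set G)))
    (by rw [Nat.card_congr (subgroupOfEquivOfLe hAC).toEquiv, U.card_cen])
  set K := K'.map (centralizer ({x} : Set G)).subtype
  have hKc : Nat.card K = p ^ 3 := by
    rw [card_map_of_injective (Subgroup.subtype_injective _)]; exact hK'
  have hfac : p ^ (Nat.card G).factorization p = p ^ 3 := by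
    congr 1
    have h1 : p ^ 3 ∣ Nat.card G := U.card ▸ card_subgroup_dvd_card P
    rw [hp.out.pow_dvd_iff_le_factorization Nat.card_pos.ne'] at h1 hmax
    omega
  let S : Sylow p G := Sylow.ofCard K (by rw [hKc, hfac])
  let T : Sylow p G := Sylow.ofCard P (by rw [U.card, hfac])
  obtain ⟨g, hg⟩ := MulAction.exists_smul_eq G S T
  have hconj : ∀ v, v ∈ P → g⁻¹ * v * g ∈ K := by
    intro v hv
    have h : v ∈ ((g • S : Sylow p G) : Subgroup G) := by rw [hg]; exact hv
    rw [Sylow.smul_def, Sylow.pointwise_smul_def] at h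
    obtain ⟨s, hs, rfl⟩ := h
    simpa [S, MulAut.conj_apply, mul_assoc, Sylow.coe_ofCard] using hs
  have hxK : x ∈ K :=
    mem_map.2 ⟨⟨x, hAC U.self_mem_cen⟩, hAK' (mem_subgroupOf.2 U.self_mem_cen), rfl⟩
  have hxP : g * x * g⁻¹ ∈ ctr P := by
    have h : g * x * g⁻¹ ∈ ((g • S : Sylow p G) : Subgroup G) := by
      rw [Sylow.smul_def, Sylow.pointwise_smul_def]
      exact ⟨x, hxK, by simp [MulAut.conj_apply]⟩
    rw [hg] at h
    refine mem_ctr.2 ⟨h, fun w hw => ?_⟩
    have hc : x * (g⁻¹ * w * g) = g⁻¹ * w * g * x :=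
      mem_centralizer_iff.1 ((map_subtype_le K') (hconj w hw)) x rfl
    calc w * (g * x * g⁻¹) = g * (g⁻¹ * w * g * x) * g⁻¹ := by group
      _ = g * (x * (g⁻¹ * w * g)) * g⁻¹ := by rw [hc]
      _ = _ := by group
  have hxc := mem_center_iff.1 (hZ hxP) g
  refine U.not_mem_ctr ?_
  have : g * x * g⁻¹ = x := by
    calc g * x * g⁻¹ = g⁻¹ * (g * (g * x * g⁻¹)) := by group
      _ = g⁻¹ * (g * x * g⁻¹ * g) := by rw [hxc]
      _ = x := by group
  rwa [this] at hxP

/-- If the centre of a Sylow subgroup `P` is central in `G`, and `p ^ 3` divides `|C(x)|`, then a power of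
`x` is conjugate into the derived subgroup of `P`. -/
theorem conj_into_commutator : ∀ (n : ℕ) {G : Type u} [Group G] [Finite G] {P : Subgroup G} {x : G},
    Uni P p n x → ¬ p ^ (n + 1) ∣ Nat.card G → ctr P ≤ center G →
      p ^ 3 ∣ Nat.card (centralizer ({x} : Set G)) → ∃ g b, ¬ p ∣ b ∧ g * x ^ b * g⁻¹ ∈ ⁅P, P⁆ := by
  intro n
  induction n with
  | zero => intro G _ _ P x U; exact absurd U.three_le (by omega)
  | succ m ih =>
    intro G _ _ P x U hmax hZ h3
    rcases Nat.lt_or_ge m 3 with hm | hm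
    · exfalso
      obtain rfl : m = 2 := by have := U.three_le; omega
      exact no_three U hmax hZ h3
    · haveI hn : (ctr P).Normal := PGroups.normal_of_le_center hZ
      set q := QuotientGroup.mk' (ctr P)
      have hker : q.ker = ctr P := QuotientGroup.ker_mk' _
      obtain ⟨U', h3', hcard, -⟩ := quotient_uni q (QuotientGroup.mk'_surjective _) hker hZ U (by omega) h3
      rw [show m + 1 - 1 = m by omega] at U'
      have hlift : ∀ g b, q g * q x ^ b * (q g)⁻¹ ∈ ⁅P.map q, P.map q⁆ → g * x ^ b * g⁻¹ ∈ ⁅P, P⁆ := by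
        intro g b h
        rw [← map_pow, ← map_inv, ← map_mul, ← map_mul, ← map_commutator, ← mem_comap, comap_map_eq, hker,
          sup_eq_left.2 U.ctr_le_commutator] at h
        exact h
      rcases step U' h3' with ⟨g, b, hb, hg⟩ | h
      · obtain ⟨g, rfl⟩ := QuotientGroup.mk'_surjective _ g
        exact ⟨g, b, hb, hlift g b (U'.ctr_le_commutator hg)⟩
      · set L := centralizer (ctr (P.map q) : Set (G ⧸ ctr P))
        have hPL : P.map q ≤ L := fun v hv =>
          mem_centralizer_iff.2 fun w hw => ((mem_ctr.1 hw).2 v hv).symm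
        obtain ⟨U'', hctr⟩ := subgroupOf_uni hPL U'
        have hc : ctr ((P.map q).subgroupOf L) ≤ center L := by
          rw [hctr]
          intro v hv
          exact mem_center_iff.2 fun w => Subtype.ext (mem_centralizer_iff.1 w.2 _ (mem_subgroupOf.1 hv)).symm
        have hmax' : ¬ p ^ (m + 1) ∣ Nat.card L := fun hd => hmax (by
          rw [hcard, pow_succ']
          exact Nat.mul_dvd_mul_left p (hd.trans (card_subgroup_dvd_card L)))
        have h3'' : p ^ 3 ∣ Nat.card (centralizer ({(⟨q x, hPL U'.mem⟩ : L)} : Set L)) := by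
          have he : centralizer ({(⟨q x, hPL U'.mem⟩ : L)} : Set L) =
              (L ⊓ centralizer ({q x} : Set _)).subgroupOf L := by
            ext v
            simp only [mem_centralizer_iff, mem_subgroupOf, mem_inf, Set.mem_singleton_iff, forall_eq,
              Subtype.ext_iff, Subgroup.coe_mul]
            exact ⟨fun h => ⟨fun w hw => mem_centralizer_iff.1 v.2 w hw, h ⟨q x, hPL U'.mem⟩ rfl⟩, fun h w hw => hw ▸ h.2⟩
          rw [he, Nat.card_congr (subgroupOfEquivOfLe inf_le_left).toEquiv]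
          exact h
        obtain ⟨g, b, hb, hg⟩ := ih U'' hmax' hc h3''
        obtain ⟨g', hg'⟩ := QuotientGroup.mk'_surjective _ (g : G ⧸ ctr P)
        refine ⟨g', b, hb, hlift g' b ?_⟩
        rw [hg']
        have := mem_map_of_mem L.subtype hg
        rw [map_commutator, subgroupOf_map_subtype, inf_eq_left.2 hPL] at this
        exact this

/-- A power of `x` is conjugate into the centre, or (`n ≥ 4`) the second centre, of the Sylow subgroup `P`. -/
theorem conj_into_sec {P : Subgroup G} {n : ℕ} {x : G} (U : Uni P p n x)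
    (hmax : ¬ p ^ (n + 1) ∣ Nat.card G) (h3 : p ^ 3 ∣ Nat.card (centralizer ({x} : Set G))) :
    ∃ g b, ¬ p ∣ b ∧ (g * x ^ b * g⁻¹ ∈ ctr P ∨ 4 ≤ n ∧ g * x ^ b * g⁻¹ ∈ sec P) := by
  rcases step U h3 with ⟨g, b, hb, hg⟩ | h3'
  · exact ⟨g, b, hb, Or.inl hg⟩
  set L := centralizer (ctr P : Set G)
  have hPL : P ≤ L := fun v hv => mem_centralizer_iff.2 fun w hw => ((mem_ctr.1 hw).2 v hv).symm
  obtain ⟨UL, hctr⟩ := subgroupOf_uni hPL U
  set xL : L := ⟨x, hPL U.mem⟩
  set PL := P.subgroupOf L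
  have hZ : ctr PL ≤ center L := by
    rw [hctr]
    exact fun v hv => mem_center_iff.2 fun w =>
      Subtype.ext (mem_centralizer_iff.1 w.2 _ (mem_subgroupOf.1 hv)).symm
  have hmaxL : ¬ p ^ (n + 1) ∣ Nat.card L := fun hd => hmax (hd.trans (card_subgroup_dvd_card L))
  have h3L : p ^ 3 ∣ Nat.card (centralizer ({xL} : Set L)) := by
    have he : centralizer ({xL} : Set L) = (L ⊓ centralizer ({x} : Set G)).subgroupOf L := by
      ext v
      simp only [xL, mem_centralizer_iff, mem_subgroupOf, mem_inf, Set.mem_singleton_iff, forall_eq,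
        Subtype.ext_iff, Subgroup.coe_mul]
      exact ⟨fun h => ⟨fun w hw => mem_centralizer_iff.1 v.2 w hw, h ⟨x, hPL U.mem⟩ rfl⟩, fun h w hw => hw ▸ h.2⟩
    rw [he, Nat.card_congr (subgroupOfEquivOfLe inf_le_left).toEquiv]
    exact h3'
  rcases Nat.lt_or_ge n 4 with hn | hn
  · obtain rfl : n = 3 := by have := U.three_le; omega
    exact absurd (no_three UL hmaxL hZ h3L) id
  · haveI hnor : (ctr PL).Normal := PGroups.normal_of_le_center hZ
    set q := QuotientGroup.mk' (ctr PL)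
    have hker : q.ker = ctr PL := QuotientGroup.ker_mk' _
    obtain ⟨U', h3q, hcard, hlift⟩ :=
      quotient_uni q (QuotientGroup.mk'_surjective _) hker hZ UL hn h3L
    have hsecL : ∀ v : L, v ∈ sec PL → (v : G) ∈ sec P := by
      intro v hv
      refine ⟨mem_subgroupOf.1 hv.1, fun w hw => ?_⟩
      have := hv.2 ⟨w, hPL hw⟩ (mem_subgroupOf.2 hw)
      rw [hctr] at this
      exact mem_subgroupOf.1 this
    have hback : ∀ v : L, q v ∈ ctr (PL.map q) → v ∈ PL := by
      intro v hv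
      obtain ⟨w, hw, hwv⟩ := mem_map.1 (ctr_le _ hv)
      have : w⁻¹ * v ∈ ctr PL := hker ▸ (by rw [MonoidHom.mem_ker, map_mul, map_inv, hwv, inv_mul_cancel] :
        w⁻¹ * v ∈ q.ker)
      simpa using mul_mem hw (ctr_le _ this)
    rcases step U' h3q with ⟨g, b, hb, hg⟩ | hM
    · obtain ⟨g, rfl⟩ := QuotientGroup.mk'_surjective _ g
      refine ⟨(g : G), b, hb, Or.inr ⟨hn, ?_⟩⟩
      rw [← map_pow, ← map_inv, ← map_mul, ← map_mul] at hg
      exact hsecL _ (hlift _ (hback _ hg) hg)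
    · exfalso
      set M := centralizer ((ctr (PL.map q) : Subgroup (L ⧸ ctr PL)) : Set (L ⧸ ctr PL))
      have hPM : PL.map q ≤ M := fun v hv =>
        mem_centralizer_iff.2 fun w hw => ((mem_ctr.1 hw).2 v hv).symm
      obtain ⟨U'', hctr''⟩ := subgroupOf_uni hPM U'
      have hc : ctr ((PL.map q).subgroupOf M) ≤ center M := by
        rw [hctr'']
        exact fun v hv => mem_center_iff.2 fun w =>
          Subtype.ext (mem_centralizer_iff.1 w.2 _ (mem_subgroupOf.1 hv)).symm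
      have hmax' : ¬ p ^ (n - 1 + 1) ∣ Nat.card M := fun hd => hmaxL (by
        rw [hcard, pow_succ', show n = n - 1 + 1 by omega]
        exact Nat.mul_dvd_mul_left p (hd.trans (card_subgroup_dvd_card M)))
      have h3'' : p ^ 3 ∣ Nat.card (centralizer ({(⟨q xL, hPM U'.mem⟩ : M)} : Set M)) := by
        have he : centralizer ({(⟨q xL, hPM U'.mem⟩ : M)} : Set M) =
            (M ⊓ centralizer ({q xL} : Set _)).subgroupOf M := by
          ext v
          simp only [mem_centralizer_iff, mem_subgroupOf, mem_inf, Set.mem_singleton_iff, forall_eq,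
            Subtype.ext_iff, Subgroup.coe_mul]
          exact ⟨fun h => ⟨fun w hw => mem_centralizer_iff.1 v.2 w hw, h ⟨q xL, hPM U'.mem⟩ rfl⟩, fun h w hw => hw ▸ h.2⟩
        rw [he, Nat.card_congr (subgroupOfEquivOfLe inf_le_left).toEquiv]
        exact hM
      obtain ⟨g, b, hb, hg⟩ := conj_into_commutator (n - 1) U'' hmax' hc h3''
      obtain ⟨g', hg'⟩ := QuotientGroup.mk'_surjective (ctr PL) (g : L ⧸ ctr PL)
      have hy : g' * xL ^ b * g'⁻¹ ∈ ⁅PL, PL⁆ := by
        have := mem_map_of_mem M.subtype hg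
        rw [map_commutator, subgroupOf_map_subtype, inf_eq_left.2 hPM, ← map_commutator] at this
        rw [← sup_eq_left.2 UL.ctr_le_commutator, ← hker, ← comap_map_eq, mem_comap, map_mul, map_mul, map_pow,
          map_inv, hg']
        exact this
      refine UL.sec_le_cen_absurd fun s hs => mem_cen.2 ⟨hs.1, ?_⟩
      have hsq : q s ∈ ctr (PL.map q) := mem_ctr.2 ⟨mem_map_of_mem q hs.1, fun w hw => by
        obtain ⟨w, hw, rfl⟩ := hw
        rw [eq_comm, ← commutatorElement_eq_one_iff_mul_comm, ← map_commutatorElement, ← MonoidHom.mem_ker,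
          hker]
        exact hs.2 w hw⟩
      have hs' : g' * s * g'⁻¹ ∈ sec PL := by
        have e : q (g' * s * g'⁻¹) = q s := by
          rw [map_mul, map_mul, map_inv, hg', ← mem_centralizer_iff.1 g.2 _ hsq, mul_inv_cancel_right]
        exact hlift _ (hback _ (by rw [e]; exact hsq)) (by rw [e]; exact hsq)
      have hcom : Commute (xL ^ b) s := by
        show _ = _
        have h := comm_sec hs' hy
        calc xL ^ b * s = g'⁻¹ * ((g' * xL ^ b * g'⁻¹) * (g' * s * g'⁻¹)) * g' := by group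
          _ = g'⁻¹ * ((g' * s * g'⁻¹) * (g' * xL ^ b * g'⁻¹)) * g' := by rw [h]
          _ = s * xL ^ b := by group
      exact mem_centralizer_iff.1
        (UL.pow_x_mem hb (H := centralizer ({s} : Set L)) (mem_centralizer_iff.2 fun w hw => by
          rw [Set.mem_singleton_iff.1 hw]; exact hcom.eq.symm)) s rfl |>.symm

end Cfsg.Agent.H87.MaxClassFusion
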