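import Cfsg.Prelude.Def_KGroupFacts
import Cfsg.Agent.H74.SchurPerfect
import Mathlib

/-!
Stem extensions of multiply transitive groups with perfect, multiplier-free point stabilisers:
the kernel is controlled by the abelian quotients of a two point stabiliser.
-/

set_option autoImplicit false

namespace Cfsg.Agent.H87.MultiTrans

open Subgroup MulAction

universe u w

variable {G : Type u} {Ω : Type*} [Group G] [MulAction G Ω]
variable {Γ : Type u} [Group Γ] {σ : Γ →* G}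

/-- Three-fold transitivity. -/
def Trans3 (G Ω : Type*) [Group G] [MulAction G Ω] : Prop :=
  ∀ a b c a' b' c' : Ω, a ≠ b → a ≠ c → b ≠ c → a' ≠ b' → a' ≠ c' → b' ≠ c' →
    ∃ g : G, g • a = a' ∧ g • b = b' ∧ g • c = c'

/-- There are at least five points. -/
def Five (Ω : Type*) : Prop := ∀ a b c d : Ω, ∃ e, e ≠ a ∧ e ≠ b ∧ e ≠ c ∧ e ≠ d

theorem mul_smul_fix {x y : G} {a : Ω} (hx : x • a = a) (hy : y • a = a) :
    (x * y) • a = a := by rw [mul_smul, hy, hx]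

theorem inv_smul_fix {x : G} {a : Ω} (hx : x • a = a) : x⁻¹ • a = a := by
  rw [inv_smul_eq_iff, hx]

theorem trans2 (h3 : Trans3 G Ω) (h5 : Five Ω) {a b a' b' : Ω} (hab : a ≠ b) (hab' : a' ≠ b') :
    ∃ g : G, g • a = a' ∧ g • b = b' := by
  obtain ⟨c, hca, hcb, -, -⟩ := h5 a b a b
  obtain ⟨c', hca', hcb', -, -⟩ := h5 a' b' a' b'
  obtain ⟨g, h1, h2, -⟩ := h3 a b c a' b' c' hab hca.symm hcb.symm hab' hca'.symm hcb'.symm
  exact ⟨g, h1, h2⟩

/-- The two point stabilisers avoiding a point generate. -/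
theorem pair_stabilisers_generate (h3 : Trans3 G Ω) (h5 : Five Ω) (a : Ω) (H : Subgroup G)
    (hH : ∀ (k : G) (d e : Ω), d ≠ a → e ≠ a → d ≠ e → k • d = d → k • e = e → k ∈ H) :
    H = ⊤ := by
  have hone : ∀ (d : Ω) (g : G), d ≠ a → g • d = d → g ∈ H := by
    intro d g hda hg
    obtain ⟨e, hea, hed, -, -⟩ := h5 a d a d
    by_cases hfe : g • e = e
    · exact hH g d e hda hea hed.symm hg hfe
    have hfd : g • e ≠ d := fun h => hed (smul_left_cancel g (h.trans hg.symm))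
    obtain ⟨e', he'a, he'd, he'e, he'f⟩ := h5 a d e (g • e)
    obtain ⟨h, h1, h2, h3'⟩ := h3 d e' e d e' (g • e) he'd.symm hed.symm he'e he'd.symm hfd.symm he'f
    have hh : h ∈ H := hH h d e' hda he'a he'd.symm h1 h2
    have hk : h⁻¹ * g ∈ H := by
      refine hH _ d e hda hea hed.symm ?_ ?_
      · rw [mul_smul, hg, inv_smul_eq_iff, h1]
      · rw [mul_smul, inv_smul_eq_iff, h3']
    simpa using mul_mem hh hk
  refine eq_top_iff.2 fun g _ => ?_
  obtain ⟨d, hda, -, -, -⟩ := h5 a a a a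
  by_cases hg : g • d = d
  · exact hone d g hda hg
  obtain ⟨d', hd'a, hd'd, hd'f, -⟩ := h5 a d (g • d) a
  obtain ⟨h, h1, h2⟩ := trans2 (G := G) h3 h5 hd'd hd'f
  have hh : h ∈ H := hone d' h hd'a h1
  have hk : h⁻¹ * g ∈ H := hone d _ hda (by rw [mul_smul, inv_smul_eq_iff, h2])
  simpa using mul_mem hh hk

/-- Lifts of the point stabilisers. -/
structure Lifts (σ : Γ →* G) (Ω : Type*) [MulAction G Ω] where
  /-- The lift at a point. -/
  s : Ω → G → Γ
  map_s : ∀ (a : Ω) (x : G), x • a = a → σ (s a x) = x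
  s_mul : ∀ (a : Ω) (x y : G), x • a = a → y • a = a → s a (x * y) = s a x * s a y

namespace Lifts

variable (L : Lifts σ Ω)

theorem s_one (a : Ω) : L.s a 1 = 1 := by
  have h := L.s_mul a 1 1 (one_smul _ _) (one_smul _ _)
  rw [mul_one] at h
  exact left_eq_mul.1 h

theorem s_inv {a : Ω} {x : G} (hx : x • a = a) : L.s a x⁻¹ = (L.s a x)⁻¹ := by
  refine eq_inv_of_mul_eq_one_right ?_
  rw [← L.s_mul a x x⁻¹ hx (inv_smul_fix hx), mul_inv_cancel, L.s_one]

/-- The coset attached to the point `b`, relative to the point `a`. -/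
def Coset (a b : Ω) : Set Γ :=
  {γ | ∃ (d : Ω) (T x : G), d ≠ a ∧ d ≠ b ∧ T • d = d ∧ T • a = b ∧ x • a = a ∧
    γ = L.s d T * L.s a x}

/-- The union of all the cosets. -/
def Total (a : Ω) : Set Γ :=
  {γ | (∃ x : G, x • a = a ∧ γ = L.s a x) ∨ ∃ b, b ≠ a ∧ γ ∈ L.Coset a b}

/-- The lifts agree on intersections. -/
def Agree : Prop := ∀ (a b : Ω) (x : G), x • a = a → x • b = b → L.s a x = L.s b x

variable {L}

theorem coset_indep (hL : L.Agree) (h3 : Trans3 G Ω) {a b d e : Ω} (_hab : b ≠ a)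
    (hda : d ≠ a) (hdb : d ≠ b) (hea : e ≠ a) (heb : e ≠ b) {T T' : G} (hTd : T • d = d)
    (hTa : T • a = b) (hTe : T' • e = e) (hT'a : T' • a = b) :
    ∃ y : G, y • a = a ∧ L.s e T' = L.s d T * L.s a y := by
  have same : ∀ {f : Ω} {U V : G}, U • f = f → V • f = f → U • a = b → V • a = b →
      (U⁻¹ * V) • a = a ∧ L.s f V = L.s f U * L.s a (U⁻¹ * V) := by
    intro f U V hUf hVf hUa hVa
    have hf : (U⁻¹ * V) • f = f := mul_smul_fix (inv_smul_fix hUf) hVf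
    have ha : (U⁻¹ * V) • a = a := by rw [mul_smul, hVa, inv_smul_eq_iff, hUa]
    refine ⟨ha, ?_⟩
    rw [← hL f a _ hf ha, ← L.s_mul f U _ hUf hf, mul_inv_cancel_left]
  by_cases hde : d = e
  · subst hde
    exact ⟨_, same hTd hTe hTa hT'a⟩
  obtain ⟨U, hUa, hUd, hUe⟩ :=
    h3 a d e b d e hda.symm hea.symm hde hdb.symm heb.symm hde
  obtain ⟨h1, e1⟩ := same hTd hUd hTa hUa
  obtain ⟨h2, e2⟩ := same hUe hTe hUa hT'a
  refine ⟨T⁻¹ * U * (U⁻¹ * T'), mul_smul_fix h1 h2, ?_⟩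
  rw [e2, ← hL d e U hUd hUe, e1, mul_assoc, ← L.s_mul a _ _ h1 h2]

theorem injOn_total (hL : L.Agree) (h3 : Trans3 G Ω) (a : Ω) :
    Set.InjOn σ (L.Total a) := by
  have himg : ∀ {b : Ω} {γ : Γ}, γ ∈ L.Coset a b → σ γ • a = b := by
    rintro b γ ⟨d, T, x, -, -, hTd, hTa, hx, rfl⟩
    rw [map_mul, L.map_s d T hTd, L.map_s a x hx, mul_smul, hx, hTa]
  rintro γ hγ γ' hγ' heq
  rcases hγ with ⟨x, hx, rfl⟩ | ⟨b, hb, hγ⟩ <;> rcases hγ' with ⟨x', hx', rfl⟩ | ⟨b', hb', hγ'⟩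
  · rw [L.map_s a x hx, L.map_s a x' hx'] at heq
    rw [heq]
  · have := himg hγ'
    rw [← heq, L.map_s a x hx, hx] at this
    exact absurd this.symm hb'
  · have := himg hγ
    rw [heq, L.map_s a x' hx', hx'] at this
    exact absurd this.symm hb
  · have hbb : b = b' := by rw [← himg hγ, heq, himg hγ']
    subst hbb
    obtain ⟨d, T, x, hda, hdb, hTd, hTa, hx, rfl⟩ := hγ
    obtain ⟨e, T', x', hea, heb, hTe, hT'a, hx', rfl⟩ := hγ'
    obtain ⟨y, hy, e1⟩ := coset_indep hL h3 hb hda hdb hea heb hTd hTa hTe hT'a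
    rw [e1, mul_assoc, ← L.s_mul a y x' hy hx'] at heq ⊢
    simp only [map_mul, L.map_s a x hx, L.map_s a _ (mul_smul_fix hy hx'), L.map_s d T hTd] at heq
    rw [mul_left_cancel heq]

theorem mul_mem_total (hL : L.Agree) (h3 : Trans3 G Ω) (h5 : Five Ω) {a d e : Ω} (hda : d ≠ a)
    (hea : e ≠ a) (hde : d ≠ e) {k : G} (hkd : k • d = d) (hke : k • e = e) {γ : Γ}
    (hγ : γ ∈ L.Total a) : L.s d k * γ ∈ L.Total a := by
  rcases hγ with ⟨x, hx, rfl⟩ | ⟨b, hb, d₀, T₀, x, hd₀a, hd₀b, hT₀d, hT₀a, hx, rfl⟩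
  · by_cases hka : k • a = a
    · refine Or.inl ⟨k * x, mul_smul_fix hka hx, ?_⟩
      rw [L.s_mul a k x hka hx, hL d a k hkd hka]
    · refine Or.inr ⟨k • a, hka, d, k, x, hda, ?_, hkd, rfl, hx, rfl⟩
      intro h
      exact hda (smul_left_cancel k (hkd.trans h))
  obtain ⟨f, hfa, hfb, hkf, hs⟩ : ∃ f, f ≠ a ∧ f ≠ b ∧ k • f = f ∧ L.s d k = L.s f k := by
    by_cases hdb : d = b
    · exact ⟨e, hea, fun h => hde (hdb.trans h.symm), hke, hL d e k hkd hke⟩
    · exact ⟨d, hda, hdb, hkd, rfl⟩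
  obtain ⟨T, hTf, hTa⟩ := trans2 (G := G) h3 h5 hfa hfb
  obtain ⟨y, hy, e1⟩ := coset_indep hL h3 hb hfa hfb hd₀a hd₀b hTf hTa hT₀d hT₀a
  have hnew : L.s d k * (L.s d₀ T₀ * L.s a x) = L.s f (k * T) * L.s a (y * x) := by
    rw [e1, hs, L.s_mul f k T hkf hTf, L.s_mul a y x hy hx]
    simp only [mul_assoc]
  have hkTf : (k * T) • f = f := mul_smul_fix hkf hTf
  rw [hnew]
  by_cases hkTa : (k * T) • a = a
  · refine Or.inl ⟨k * T * (y * x), mul_smul_fix hkTa (mul_smul_fix hy hx), ?_⟩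
    rw [L.s_mul a _ _ hkTa (mul_smul_fix hy hx), hL f a _ hkTf hkTa]
  · refine Or.inr ⟨(k * T) • a, hkTa, f, k * T, y * x, hfa, ?_, hkTf, rfl,
      mul_smul_fix hy hx, rfl⟩
    intro h
    exact hfa (smul_left_cancel (k * T) (hkTf.trans h))

/-- Agreeing lifts force the stem extension to be trivial. -/
theorem ker_eq_bot (hL : L.Agree) (hσ : Cfsg.IsStemExtension σ) (h3 : Trans3 G Ω)
    (h5 : Five Ω) (a : Ω) : σ.ker = ⊥ := by
  set S : Set Γ := {γ | ∃ (k : G) (d e : Ω), d ≠ a ∧ e ≠ a ∧ d ≠ e ∧ k • d = d ∧ k • e = e ∧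
    γ = L.s d k} with hS
  have hinv : ∀ g ∈ S, g⁻¹ ∈ S := by
    rintro g ⟨k, d, e, h1, h2, h3', h4, h6, rfl⟩
    exact ⟨k⁻¹, d, e, h1, h2, h3', inv_smul_fix h4, inv_smul_fix h6, (L.s_inv h4).symm⟩
  have hY : ∀ g ∈ Subgroup.closure S, (∀ γ ∈ L.Total a, g * γ ∈ L.Total a) ∧
      (∀ γ ∈ L.Total a, g⁻¹ * γ ∈ L.Total a) := by
    intro g hg
    have step : ∀ g ∈ S, ∀ γ ∈ L.Total a, g * γ ∈ L.Total a := by
      rintro g ⟨k, d, e, h1, h2, h3', h4, h6, rfl⟩ γ hγ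
      exact mul_mem_total hL h3 h5 h1 h2 h3' h4 h6 hγ
    induction hg using closure_induction with
    | mem g hg => exact ⟨step g hg, step _ (hinv g hg)⟩
    | one => simp
    | mul g h _ _ ih1 ih2 =>
      exact ⟨fun γ hγ => by rw [mul_assoc]; exact ih1.1 _ (ih2.1 _ hγ),
        fun γ hγ => by rw [mul_inv_rev, mul_assoc]; exact ih2.2 _ (ih1.2 _ hγ)⟩
    | inv g _ ih => exact ⟨ih.2, by simpa using ih.1⟩
  have hone : (1 : Γ) ∈ L.Total a := Or.inl ⟨1, one_smul _ _, (L.s_one a).symm⟩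
  have hmem : ∀ g ∈ Subgroup.closure S, g ∈ L.Total a := fun g hg => by
    simpa using (hY g hg).1 1 hone
  have hmap : (Subgroup.closure S).map σ = ⊤ := by
    refine pair_stabilisers_generate h3 h5 a _ fun k d e h1 h2 h3' h4 h6 => ?_
    exact ⟨L.s d k, subset_closure ⟨k, d, e, h1, h2, h3', h4, h6, rfl⟩, L.map_s d k h4⟩
  have key : ∀ u : Γ, ∃ h ∈ Subgroup.closure S, ∃ z ∈ center Γ, u = h * z := fun u => by
    obtain ⟨h, hh, he⟩ : σ u ∈ (Subgroup.closure S).map σ := hmap ▸ mem_top _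
    refine ⟨h, hh, h⁻¹ * u, hσ.2.1 ?_, (mul_inv_cancel_left _ _).symm⟩
    rw [MonoidHom.mem_ker, map_mul, map_inv, he, inv_mul_cancel]
  have hcomm : commutator Γ ≤ Subgroup.closure S := by
    rw [commutator_def, Subgroup.commutator_le]
    intro u _ v _
    obtain ⟨g, hg, z, hz, hu⟩ := key u
    obtain ⟨g', hg', z', hz', hv⟩ := key v
    rw [hu, hv, commutatorElement_def, Cfsg.Agent.H74.Schur.commutatorElement_mul_central hz hz']
    exact mul_mem (mul_mem (mul_mem hg hg') (inv_mem hg)) (inv_mem hg')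
  refine eq_bot_iff.2 fun z hz => ?_
  exact injOn_total hL h3 a (hmem z (hcomm (hσ.2.2 hz))) hone
    ((MonoidHom.mem_ker.1 hz).trans σ.map_one.symm)

/-- The lifts pushed to a quotient of the extension. -/
def push {Γ' : Type u} [Group Γ'] {σ' : Γ' →* G} (L : Lifts σ Ω) (q : Γ →* Γ')
    (hq : σ'.comp q = σ) : Lifts σ' Ω where
  s a x := q (L.s a x)
  map_s a x hx := (DFunLike.congr_fun hq (L.s a x)).trans (L.map_s a x hx)
  s_mul a x y hx hy := by rw [L.s_mul a x y hx hy, map_mul]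

end Lifts

/-- Point stabilisers isomorphic to a perfect group with trivial multiplier have equivariant lifts. -/
theorem exists_lifts [Finite G] {G₀ : Type u} [Group G₀] [Finite G₀] (hG₀ : Group.IsPerfect G₀)
    (h1 : Cfsg.HasCyclicSchurMultiplier G₀ 1)
    (he : ∀ a : Ω, Nonempty (G₀ ≃* stabilizer G a)) (hσ : Cfsg.IsStemExtension σ) :
    ∃ L : Lifts σ Ω, ∀ (γ : Γ) (a : Ω) (x : G), x • a = a →
      L.s (σ γ • a) (σ γ * x * (σ γ)⁻¹) = γ * L.s a x * γ⁻¹ := by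
  classical
  let e := fun a => (he a).some
  have hsec : ∀ a : Ω, ∃ S : stabilizer G a →* Γ, ∀ x, σ (S x) = x := by
    intro a
    let ρ : (stabilizer G a).comap σ →* G₀ :=
      (e a).symm.toMonoidHom.comp (σ.subgroupComap (stabilizer G a))
    have hρ : Function.Surjective ρ := (e a).symm.surjective.comp
      (MonoidHom.subgroupComap_surjective_of_surjective σ _ hσ.1)
    have hc : ρ.ker ≤ center _ := by
      intro x hx
      have hx' : σ.subgroupComap (stabilizer G a) x = 1 := by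
        have := MonoidHom.mem_ker.1 hx
        exact (e a).symm.map_eq_one_iff.1 this
      have hk : (x : Γ) ∈ σ.ker := congrArg Subtype.val hx'
      exact mem_center_iff.2 fun g => Subtype.ext (mem_center_iff.1 (hσ.2.1 hk) g)
    obtain ⟨s, hs⟩ := Cfsg.Agent.H74.Schur.exists_section hG₀ h1 ρ hρ hc
    refine ⟨(((stabilizer G a).comap σ).subtype.comp s).comp (e a).symm.toMonoidHom, fun x => ?_⟩
    have h2 : ρ (s ((e a).symm x)) = (e a).symm x := DFunLike.congr_fun hs _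
    exact congrArg Subtype.val ((e a).symm.injective h2)
  choose S hS using hsec
  have huniq : ∀ (a : Ω) (S' : stabilizer G a →* Γ), (∀ x, σ (S' x) = x) → S' = S a := by
    intro a S' hS'
    have h := Cfsg.Agent.H74.Schur.hom_ext_perfect hG₀ (ξ := σ) hσ.2.1
      (η := S'.comp (e a).toMonoidHom) (η' := (S a).comp (e a).toMonoidHom)
      (MonoidHom.ext fun x => by simp [hS', hS])
    refine MonoidHom.ext fun x => ?_
    have := DFunLike.congr_fun h ((e a).symm x)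
    simpa using this
  let L : Lifts σ Ω :=
    { s := fun a x => if h : x • a = a then S a ⟨x, h⟩ else 1
      map_s := fun a x hx => by simp only [dif_pos hx]; exact hS a _
      s_mul := fun a x y hx hy => by
        simp only [dif_pos hx, dif_pos hy, dif_pos (mul_smul_fix hx hy)]
        exact map_mul (S a) ⟨x, hx⟩ ⟨y, hy⟩ }
  refine ⟨L, fun γ a x hx => ?_⟩
  have hconj : ∀ y : stabilizer G a, (σ γ * (y : G) * (σ γ)⁻¹) • (σ γ • a) = σ γ • a := fun y => by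
    rw [mul_smul, mul_smul, inv_smul_smul, mem_stabilizer_iff.1 y.2]
  let S' : stabilizer G a →* Γ :=
    { toFun := fun y => γ⁻¹ * S (σ γ • a) ⟨σ γ * (y : G) * (σ γ)⁻¹, hconj y⟩ * γ
      map_one' := by
        have : (⟨σ γ * ((1 : stabilizer G a) : G) * (σ γ)⁻¹, hconj 1⟩ : stabilizer G (σ γ • a)) = 1 :=
          Subtype.ext (by simp)
        rw [this, map_one, mul_one, inv_mul_cancel]
      map_mul' := fun y z => by
        have : (⟨σ γ * ((y * z : stabilizer G a) : G) * (σ γ)⁻¹, hconj _⟩ : stabilizer G (σ γ • a))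
            = ⟨σ γ * (y : G) * (σ γ)⁻¹, hconj y⟩ * ⟨σ γ * (z : G) * (σ γ)⁻¹, hconj z⟩ :=
          Subtype.ext (by simp [mul_assoc])
        rw [this, map_mul]
        simp [mul_assoc] }
  have hS' : S' = S a := huniq a S' fun y => by
    show σ (γ⁻¹ * S _ _ * γ) = y
    rw [map_mul, map_mul, map_inv, hS]
    group
  have hfin := DFunLike.congr_fun hS' ⟨x, hx⟩
  have hx2 := hconj ⟨x, hx⟩
  show (if h : _ then _ else (1 : Γ)) = γ * (if h : _ then _ else (1 : Γ)) * γ⁻¹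
  rw [dif_pos hx2, dif_pos hx, ← hfin]
  show _ = γ * (γ⁻¹ * _ * γ) * γ⁻¹
  group

/-- The kernel of a stem extension is an image of the group with two elements. -/
theorem exists_surjection_two [Finite G] {G₀ : Type u} [Group G₀] [Finite G₀]
    (hG₀ : Group.IsPerfect G₀) (h1 : Cfsg.HasCyclicSchurMultiplier G₀ 1)
    (he : ∀ a : Ω, Nonempty (G₀ ≃* stabilizer G a)) (h3 : Trans3 G Ω) (h5 : Five Ω)
    {a₀ b₀ : Ω} (hab : a₀ ≠ b₀) (w : ↥(stabilizer G a₀ ⊓ stabilizer G b₀))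
    (hw2 : w ^ 2 ∈ commutator ↥(stabilizer G a₀ ⊓ stabilizer G b₀))
    (hcov : ∀ x : ↥(stabilizer G a₀ ⊓ stabilizer G b₀),
      x ∈ commutator _ ∨ w⁻¹ * x ∈ commutator _)
    [Finite Γ] (hσ : Cfsg.IsStemExtension σ) :
    ∃ π : Multiplicative (ZMod 2) →* σ.ker, Function.Surjective π := by
  obtain ⟨L, hconj⟩ := exists_lifts (Ω := Ω) hG₀ h1 he hσ
  let _ : CommGroup σ.ker := { (inferInstance : Group σ.ker) with
    mul_comm := fun u v => Subtype.ext (mem_center_iff.1 (hσ.2.1 v.2) u.1) }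
  have cen : ∀ z ∈ σ.ker, ∀ g : Γ, g * z = z * g := fun z hz g => mem_center_iff.1 (hσ.2.1 hz) g
  have hker : ∀ x : ↥(stabilizer G a₀ ⊓ stabilizer G b₀), L.s b₀ x * (L.s a₀ x)⁻¹ ∈ σ.ker := fun x => by
    rw [MonoidHom.mem_ker, map_mul, map_inv, L.map_s b₀ _ x.2.2, L.map_s a₀ _ x.2.1, mul_inv_cancel]
  let φ : ↥(stabilizer G a₀ ⊓ stabilizer G b₀) →* σ.ker :=
    { toFun := fun x => ⟨L.s b₀ x * (L.s a₀ x)⁻¹, hker x⟩
      map_one' := Subtype.ext (by simp [L.s_one])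
      map_mul' := fun x y => Subtype.ext (by
        show L.s b₀ ((x : G) * y) * (L.s a₀ ((x : G) * y))⁻¹
          = L.s b₀ x * (L.s a₀ x)⁻¹ * (L.s b₀ y * (L.s a₀ y)⁻¹)
        rw [L.s_mul b₀ _ _ x.2.2 y.2.2, L.s_mul a₀ _ _ x.2.1 y.2.1, mul_inv_rev, mul_assoc,
          mul_assoc (L.s b₀ (x : G)) (L.s a₀ (x : G))⁻¹, cen _ (hker y)]
        simp only [mul_assoc]) }
  have hD : commutator ↥(stabilizer G a₀ ⊓ stabilizer G b₀) ≤ φ.ker := Abelianization.commutator_subset_ker φ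
  have hvals : ∀ x, φ x = 1 ∨ φ x = φ w := by
    intro x
    rcases hcov x with h | h
    · exact Or.inl (MonoidHom.mem_ker.1 (hD h))
    · refine Or.inr ?_
      have := MonoidHom.mem_ker.1 (hD h)
      rw [map_mul, map_inv, inv_mul_eq_one] at this
      exact this.symm
  have hε2 : φ w ^ 2 = 1 := by rw [← map_pow]; exact MonoidHom.mem_ker.1 (hD hw2)
  set E : Subgroup Γ := Subgroup.zpowers ((φ w : σ.ker) : Γ) with hE
  have hEk : E ≤ σ.ker := Subgroup.zpowers_le.2 (φ w).2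
  have hdiff : ∀ (a b : Ω) (x : G), x • a = a → x • b = b →
      L.s b x * (L.s a x)⁻¹ ∈ E := by
    intro a b x hxa hxb
    by_cases h : a = b
    · subst h; rw [mul_inv_cancel]; exact one_mem _
    obtain ⟨g, hga, hgb⟩ := trans2 (G := G) h3 h5 hab h
    obtain ⟨γ, hγ⟩ := hσ.1 g
    set y := g⁻¹ * x * g with hy
    have hya : y • a₀ = a₀ := by rw [hy, mul_smul, mul_smul, hga, hxa, inv_smul_eq_iff, hga]
    have hyb : y • b₀ = b₀ := by rw [hy, mul_smul, mul_smul, hgb, hxb, inv_smul_eq_iff, hgb]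
    have hyx : g * y * g⁻¹ = x := by rw [hy]; group
    have e1 := hconj γ a₀ y hya
    have e2 := hconj γ b₀ y hyb
    rw [hγ, hyx, hga] at e1
    rw [hγ, hyx, hgb] at e2
    have e3 : L.s b x * (L.s a x)⁻¹ = L.s b₀ y * (L.s a₀ y)⁻¹ := by
      rw [e1, e2]
      calc γ * L.s b₀ y * γ⁻¹ * (γ * L.s a₀ y * γ⁻¹)⁻¹
          = γ * (L.s b₀ y * (L.s a₀ y)⁻¹) * γ⁻¹ := by group
        _ = _ := by rw [cen _ (hker ⟨y, hya, hyb⟩) γ, mul_inv_cancel_right]
    rw [e3, show L.s b₀ y * (L.s a₀ y)⁻¹ = ((φ ⟨y, hya, hyb⟩ : σ.ker) : Γ) from rfl]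
    rcases hvals ⟨y, hya, hyb⟩ with h | h <;> rw [h]
    · exact one_mem E
    · exact Subgroup.mem_zpowers _
  have hEn : E.Normal := ⟨fun z hz g => by
    rw [cen z (hEk hz) g, mul_inv_cancel_right]; exact hz⟩
  let σ' : Γ ⧸ E →* G := QuotientGroup.lift E σ hEk
  have hq : σ'.comp (QuotientGroup.mk' E) = σ := MonoidHom.ext fun _ => rfl
  have hσ' : Cfsg.IsStemExtension σ' := by
    refine ⟨fun g => ?_, ?_, ?_⟩
    · obtain ⟨γ, rfl⟩ := hσ.1 g
      exact ⟨QuotientGroup.mk' E γ, rfl⟩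
    · intro z hz
      obtain ⟨γ, rfl⟩ := QuotientGroup.mk'_surjective E z
      refine mem_center_iff.2 fun u => ?_
      obtain ⟨δ, rfl⟩ := QuotientGroup.mk'_surjective E u
      rw [← map_mul, ← map_mul, cen γ hz δ]
    · intro z hz
      obtain ⟨γ, rfl⟩ := QuotientGroup.mk'_surjective E z
      rw [← Cfsg.Agent.H74.Schur.map_commutator_of_surjective _ (QuotientGroup.mk'_surjective E)]
      exact Subgroup.mem_map_of_mem _ (hσ.2.2 hz)
  have hagree : (L.push (QuotientGroup.mk' E) hq).Agree := by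
    intro a b x hxa hxb
    show QuotientGroup.mk' E (L.s a x) = QuotientGroup.mk' E (L.s b x)
    rw [eq_comm, ← mul_inv_eq_one, ← map_inv, ← map_mul, QuotientGroup.mk'_apply,
      QuotientGroup.eq_one_iff]
    exact hdiff a b x hxa hxb
  have hbot := (L.push (QuotientGroup.mk' E) hq).ker_eq_bot hagree hσ' h3 h5 a₀
  let π : Multiplicative (ZMod 2) →* σ.ker := AddMonoidHom.toMultiplicativeLeft
    (ZMod.lift 2 ⟨(zmultiplesHom (Additive σ.ker)) (Additive.ofMul (φ w)), by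
      show (2 : ℤ) • Additive.ofMul (φ w) = 0
      rw [← ofMul_zpow, zpow_two, ← pow_two, hε2, ofMul_one]⟩)
  refine ⟨π, fun z => ?_⟩
  have hzE : (z : Γ) ∈ E := by
    rw [← QuotientGroup.eq_one_iff]
    exact Subgroup.mem_bot.1 (hbot ▸ (MonoidHom.mem_ker.2 z.2 : QuotientGroup.mk' E (z : Γ) ∈ σ'.ker))
  obtain ⟨i, hi⟩ := hzE
  refine ⟨Multiplicative.ofAdd (i : ZMod 2), Subtype.ext ?_⟩
  rw [← hi]
  simp [π]

end Cfsg.Agent.H87.MultiTrans
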