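import Mathlib

/-!
A group with generators satisfying the even relations of a Coxeter matrix up to a central involution
has at most the order of the Coxeter group.
-/

set_option autoImplicit false

namespace Cfsg.Agent.H87.TwistedBound

open Subgroup

variable {n : ℕ} (M : CoxeterMatrix (Fin n)) {P : Type*} [Group P]

/-- The involution attached to an element, on two copies of the group. -/
def swapPerm (x : P) : Equiv.Perm (P × Bool) where
  toFun q := if q.2 then (x⁻¹ * q.1, false) else (x * q.1, true)
  invFun q := if q.2 then (x⁻¹ * q.1, false) else (x * q.1, true)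
  left_inv := by rintro ⟨g, _ | _⟩ <;> simp
  right_inv := by rintro ⟨g, _ | _⟩ <;> simp

theorem swap_mul_false (x y g : P) :
    (swapPerm x * swapPerm y) (g, false) = (x⁻¹ * y * g, false) := by
  simp [swapPerm, mul_assoc]

theorem swap_mul_true (x y g : P) :
    (swapPerm x * swapPerm y) (g, true) = (x * y⁻¹ * g, true) := by
  simp [swapPerm, mul_assoc]

theorem swap_pow_false (x y g : P) : ∀ m : ℕ,
    ((swapPerm x * swapPerm y) ^ m) (g, false) = ((x⁻¹ * y) ^ m * g, false)
  | 0 => by simp
  | m + 1 => by
    rw [pow_succ', Equiv.Perm.mul_apply, swap_pow_false x y g m, swap_mul_false, pow_succ']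
    simp only [mul_assoc]

theorem swap_pow_true (x y g : P) : ∀ m : ℕ,
    ((swapPerm x * swapPerm y) ^ m) (g, true) = ((x * y⁻¹) ^ m * g, true)
  | 0 => by simp
  | m + 1 => by
    rw [pow_succ', Equiv.Perm.mul_apply, swap_pow_true x y g m, swap_mul_true, pow_succ']
    simp only [mul_assoc]

theorem conj_pow_eq_one {x y : P} {m : ℕ} (h : (x⁻¹ * y) ^ m = 1) : (x * y⁻¹) ^ m = 1 := by
  have e : x * y⁻¹ = x * (x⁻¹ * y)⁻¹ * x⁻¹ := by group
  rw [e, conj_pow, inv_pow, h]
  simp

theorem isLiftable {u : Fin n → P} (hrel : ∀ i j, ((u i)⁻¹ * u j) ^ M i j = 1) :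
    M.IsLiftable fun i => swapPerm (u i) := by
  intro i j
  refine Equiv.ext ?_
  rintro ⟨g, _ | _⟩
  · rw [swap_pow_false, hrel, one_mul]; rfl
  · rw [swap_pow_true, conj_pow_eq_one (hrel i j), one_mul]; rfl

/-- The permutations commuting with the translations. -/
def equivariant : Subgroup (Equiv.Perm (P × Bool)) where
  carrier := {π | ∀ g d b, π (g * d, b) = ((π (g, b)).1 * d, (π (g, b)).2)}
  one_mem' g d b := rfl
  mul_mem' := by
    intro π π' hπ hπ' g d b
    simp only [Equiv.Perm.mul_apply]
    rw [hπ' g d b, hπ]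
  inv_mem' := by
    intro π hπ g d b
    apply π.injective
    rw [Equiv.Perm.coe_inv, Equiv.apply_symm_apply, hπ _ d, Prod.mk.eta, Equiv.apply_symm_apply]

theorem two_mul_card_closure_le [Finite M.Group] {u : Fin n → P} (b : Fin n) (hb : u b = 1)
    (hrel : ∀ i j, ((u i)⁻¹ * u j) ^ M i j = 1) :
    2 * Nat.card ↥(closure (Set.range u)) ≤ Nat.card M.Group := by
  let cs := M.toCoxeterSystem
  let φ : M.Group →* Equiv.Perm (P × Bool) := cs.lift ⟨_, isLiftable M hrel⟩
  have hφ : ∀ i, φ (cs.simple i) = swapPerm (u i) := fun i =>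
    cs.lift_apply_simple (isLiftable M hrel) i
  have hE : ∀ w, φ w ∈ equivariant := by
    suffices h : (equivariant.comap φ : Subgroup M.Group) = ⊤ by
      intro w
      exact (h ▸ mem_top w : w ∈ equivariant.comap φ)
    rw [eq_top_iff, ← cs.subgroup_closure_range_simple, closure_le]
    rintro _ ⟨i, rfl⟩
    rw [SetLike.mem_coe, mem_comap, hφ]
    intro g d c
    cases c <;> simp [swapPerm, mul_assoc]
  let a : M.Group → P := fun w => (φ w (1, false)).1
  have hcomp : ∀ w w', (φ w' (1, false)).2 = false →
      φ (w * w') (1, false) = (a w * a w', (φ w (1, false)).2) := by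
    intro w w' h
    have h1 : φ w' (1, false) = (1 * a w', false) := Prod.ext (one_mul _).symm h
    rw [map_mul, Equiv.Perm.mul_apply, h1, hE w]
  let K : Subgroup M.Group :=
    { carrier := {w | (φ w (1, false)).2 = false}
      one_mem' := by simp
      mul_mem' := fun {w w'} hw hw' => by
        show (φ (w * w') (1, false)).2 = false
        rw [hcomp w w' hw']; exact hw
      inv_mem' := fun {w} hw => by
        show (φ w⁻¹ (1, false)).2 = false
        have e : φ w⁻¹ (1, false) = ((a w)⁻¹, false) := by
          rw [map_inv, Equiv.Perm.coe_inv, Equiv.symm_apply_eq]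
          have h := hE w 1 (a w)⁻¹ false
          rw [one_mul] at h
          rw [h, hw]
          exact Prod.ext (mul_inv_cancel _).symm rfl
        rw [e] }
  have hKne : K ≠ ⊤ := by
    intro h
    have h1 : cs.simple b ∈ K := by rw [h]; exact mem_top _
    change (φ (cs.simple b) (1, false)).2 = false at h1
    rw [hφ] at h1
    simp [swapPerm] at h1
  let ah : K →* P :=
    { toFun := fun w => a w
      map_one' := by simp [a]
      map_mul' := fun w w' => congrArg Prod.fst (hcomp w w' w'.2) }
  have hle : closure (Set.range u) ≤ ah.range := by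
    rw [closure_le]
    rintro _ ⟨i, rfl⟩
    have e : φ (cs.simple b * cs.simple i) (1, false) = (u i, false) := by
      rw [map_mul, hφ, hφ, swap_mul_false, hb, inv_one, one_mul, mul_one]
    exact ⟨⟨cs.simple b * cs.simple i, congrArg Prod.snd e⟩, congrArg Prod.fst e⟩
  have : Finite ah.range := Finite.of_surjective _ ah.rangeRestrict_surjective
  have h1 : Nat.card ↥(closure (Set.range u)) ≤ Nat.card K :=
    (Subgroup.card_le_of_le hle).trans (Nat.card_le_card_of_surjective _ ah.rangeRestrict_surjective)
  have h2 := K.card_mul_index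
  have h3 : 2 ≤ K.index := by
    have h0 : K.index ≠ 0 := Subgroup.index_ne_zero_of_finite
    have h1' : K.index ≠ 1 := fun h => hKne (Subgroup.index_eq_one.1 h)
    omega
  nlinarith

/-- The bound, with a central involution. -/
theorem card_twisted_le [Finite M.Group] [Finite P] (ν : P) (hνc : ν ∈ center P) (hν2 : ν * ν = 1)
    (u : Fin n → P) (b : Fin n) (hb : u b = 1)
    (hrel : ∀ i j, ((u i)⁻¹ * u j) ^ M i j = 1 ∨ ((u i)⁻¹ * u j) ^ M i j = ν) :
    Nat.card ↥(closure (Set.range u ∪ {ν})) ≤ Nat.card M.Group := by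
  set N := zpowers ν with hN
  have hNn : N.Normal := ⟨fun z hz y => by
    obtain ⟨i, rfl⟩ := hz
    have : Commute y (ν ^ i) := Commute.zpow_right (mem_center_iff.1 hνc y) i
    show y * ν ^ i * y⁻¹ ∈ N
    rw [this.eq, mul_inv_cancel_right]
    exact zpow_mem_zpowers _ _⟩
  let q := QuotientGroup.mk' N
  have h := two_mul_card_closure_le M (u := fun i => q (u i)) b (by rw [hb, map_one]) (fun i j => by
    rw [← map_inv, ← map_mul, ← map_pow, QuotientGroup.mk'_apply, QuotientGroup.eq_one_iff]
    rcases hrel i j with h | h <;> rw [h]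
    · exact one_mem _
    · exact mem_zpowers _)
  set S := closure (Set.range fun i => q (u i)) with hS
  have hle : closure (Set.range u ∪ {ν}) ≤ S.comap q := by
    rw [closure_le]
    rintro x (⟨i, rfl⟩ | rfl)
    · exact subset_closure ⟨i, rfl⟩
    · show q x ∈ S
      rw [show q x = 1 from (QuotientGroup.eq_one_iff _).2 (mem_zpowers _)]
      exact one_mem _
  have hN2 : Nat.card N ≤ 2 := by
    rw [hN, Nat.card_zpowers]
    exact Nat.le_of_dvd (by norm_num) (orderOf_dvd_of_pow_eq_one (by rw [pow_two, hν2]))
  have hidx : (S.comap q).index = S.index :=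
    S.index_comap_of_surjective (QuotientGroup.mk'_surjective N)
  have e1 := (S.comap q).card_mul_index
  have e2 := S.card_mul_index
  have e3 := Subgroup.card_eq_card_quotient_mul_card_subgroup N
  have hpos : 0 < S.index := Nat.pos_of_ne_zero Subgroup.index_ne_zero_of_finite
  have e4 : Nat.card ↥(S.comap q) = Nat.card S * Nat.card N := by
    apply Nat.eq_of_mul_eq_mul_right hpos
    rw [hidx] at e1
    rw [e1, e3, ← e2]
    ring
  have h2 := Subgroup.card_le_of_le hle
  nlinarith

end Cfsg.Agent.H87.TwistedBound
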