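import Cfsg.Agent.H87.OmegaEightData
import Cfsg.Agent.H87.TwistedStem

/-!
A realisation of the twisted relations by pairs of matrices over three elements.
-/

set_option autoImplicit false

namespace Cfsg.Agent.H87.TwistedWitness

open OmegaEightData
open Cfsg.Agent.H87.TwistedStem
open scoped commutatorElement

local notation "E8" => CoxeterMatrix.E₈

/-- The group of units of matrices. -/
abbrev GL8 := (Matrix (Fin 8) (Fin 8) (ZMod 3))ˣ

/-- The first component. -/
def unitA (i : Fin 8) : GL8 :=
  ⟨matsA i, matsA' i, by revert i; decide +kernel, by revert i; decide +kernel⟩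

/-- The second component. -/
def unitB (i : Fin 8) : GL8 :=
  ⟨matsB i, matsB' i, by revert i; decide +kernel, by revert i; decide +kernel⟩

theorem unitA_seven : unitA 7 = 1 := by decide +kernel

theorem unitB_seven : unitB 7 = 1 := by decide +kernel

theorem unitA_twisted : Twisted unitA (-1) := by
  intro i
  fin_cases i <;> intro j <;> fin_cases j <;> decide +kernel

theorem unitB_twisted : Twisted unitB (-1) := by
  intro i
  fin_cases i <;> intro j <;> fin_cases j <;> decide +kernel

theorem unitA_word :
    ((unitA 0)⁻¹ * unitA 1 * ((unitA 2)⁻¹ * unitA 3) * ((unitA 4)⁻¹ * unitA 5) *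
      ((unitA 6)⁻¹ * unitA 7)) ^ 15 = -1 := by
  decide +kernel

theorem unitB_word :
    ((unitB 0)⁻¹ * unitB 1 * ((unitB 2)⁻¹ * unitB 3) * ((unitB 4)⁻¹ * unitB 5) *
      ((unitB 6)⁻¹ * unitB 7)) ^ 15 = 1 := by
  decide +kernel

theorem unitA_anti : ⁅unitA 0, unitA 1⁆ = -1 ∧ (-1 : GL8) ≠ 1 := by
  simp only [commutatorElement_def]
  decide +kernel

theorem unitB_anti : ⁅unitB 0, unitB 1⁆ = -1 := by
  simp only [commutatorElement_def]
  decide +kernel

/-- The pairs. -/
def pairs (i : Fin 8) : GL8 × GL8 := (unitA i, unitB i)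

/-- The central involution. -/
def nu : GL8 × GL8 := (-1, -1)

/-- The second central involution. -/
def omg : GL8 × GL8 := (-1, 1)

theorem nu_central : nu ∈ Subgroup.center (GL8 × GL8) :=
  Subgroup.mem_center_iff.2 fun x => by simp [nu, Prod.ext_iff]

theorem omg_central : omg ∈ Subgroup.center (GL8 × GL8) :=
  Subgroup.mem_center_iff.2 fun x => by simp [omg, Prod.ext_iff]

theorem pairs_twisted : Twisted pairs nu := by
  intro i j
  refine Prod.ext ?_ ?_
  · show ((unitA i)⁻¹ * unitA j) ^ E8 i j = (if Pat i j then nu else 1).1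
    rw [unitA_twisted i j, apply_ite Prod.fst]
    rfl
  · show ((unitB i)⁻¹ * unitB j) ^ E8 i j = (if Pat i j then nu else 1).2
    rw [unitB_twisted i j, apply_ite Prod.snd]
    rfl

end Cfsg.Agent.H87.TwistedWitness
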