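import Cfsg.Prelude.Def_KGroupFacts
import Cfsg.Agent.H87.TwistedBound
import Cfsg.Agent.H87.TwistedWitness
import Cfsg.Agent.H87.OmegaEightGen
import Cfsg.Agent.H37.Weyl.Summary
import Cfsg.Agent.S0293

/-!
The multiplier of the projective commutator subgroup of the orthogonal group of plus type in
dimension eight over two elements, from the twisted relations of type E eight.
-/

set_option autoImplicit false

namespace Cfsg.Agent.H87.OmegaEight

open Cfsg.Agent.H87.TwistedStem Cfsg.Agent.H87.TwistedWitness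
open Subgroup
open scoped commutatorElement

universe u

local notation "E8" => CoxeterMatrix.E₈

theorem finite_weyl : Finite (CoxeterMatrix.E₈).Group :=
  Nat.finite_of_card_ne_zero (by rw [H37.Weyl.cardE8]; norm_num)

theorem card_eq {F : Type u} [Field F] [Fintype F] (hF : Fintype.card F = 2) :
    4 * Nat.card (Cfsg.POmega F (Cfsg.quadFormPlus 4 F)) = Nat.card (CoxeterMatrix.E₈).Group := by
  have h := Cfsg.Agent.S0293.result hF 4 le_rfl
  rw [H37.Weyl.cardE8]
  norm_num [Finset.prod_range_succ] at h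
  omega

/-- The generated subgroup meets the bound. -/
theorem card_le_of_twisted {P : Type*} [Group P] [Finite P] {v : Fin 8 → P} {ν : P}
    (hv : Twisted v ν) (hνc : ν ∈ center P) (hν2 : ν * ν = 1) (h7 : v 7 = 1) :
    Nat.card ↥(closure (Set.range v ∪ {ν})) ≤ Nat.card (CoxeterMatrix.E₈).Group := by
  haveI := finite_weyl
  refine TwistedBound.card_twisted_le _ ν hνc hν2 v 7 h7 fun i j => ?_
  rw [hv i j]
  split_ifs
  · exact Or.inr rfl
  · exact Or.inl rfl

variable {F : Type u} [Field F] (e : ZMod 2 ≃+* F)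

local notation "G" => Cfsg.POmega F (Cfsg.quadFormPlus 4 F)

/-- The generators of the cover in the direct product. -/
noncomputable def cgen (i : Fin 8) : (GL8 × GL8) × G := (pairs i, gen e i)

/-- The first central element. -/
noncomputable def cnu : (GL8 × GL8) × G := (nu, 1)

/-- The cover. -/
noncomputable def cover : Subgroup ((GL8 × GL8) × G) :=
  closure (Set.range (cgen e) ∪ {(cnu : (GL8 × GL8) × G)})

theorem cgen_twisted : Twisted (cgen e) (cnu : (GL8 × GL8) × G) := by
  intro i j
  refine Prod.ext ?_ ?_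
  · show ((pairs i)⁻¹ * pairs j) ^ E8 i j = (if Pat i j then cnu else (1 : (GL8 × GL8) × G)).1
    rw [pairs_twisted i j, apply_ite Prod.fst]
    rfl
  · show ((gen e i)⁻¹ * gen e j) ^ E8 i j = (if Pat i j then cnu else (1 : (GL8 × GL8) × G)).2
    rw [gen_relations, apply_ite Prod.snd]
    exact (ite_self _).symm

/-- The projection. -/
noncomputable def coverMap : cover e →* G := (MonoidHom.snd _ _).comp (cover e).subtype

theorem cgen_mem (i : Fin 8) : cgen e i ∈ cover e := subset_closure (Or.inl ⟨i, rfl⟩)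

theorem cnu_mem : (cnu : (GL8 × GL8) × G) ∈ cover e := subset_closure (Or.inr rfl)

theorem coverMap_surjective : Function.Surjective (coverMap e) := by
  rw [← MonoidHom.range_eq_top, eq_top_iff, ← gen_generate e, closure_le]
  rintro _ ⟨i, rfl⟩
  exact ⟨⟨cgen e i, cgen_mem e i⟩, rfl⟩

theorem cover_perfect : commutator (cover e) = ⊤ := by
  let x : Fin 8 → cover e := fun i => ⟨cgen e i, cgen_mem e i⟩
  let n : cover e := ⟨cnu, cnu_mem e⟩
  let of := @Abelianization.of (cover e) _
  have hx : ∀ i j, ((of (x i))⁻¹ * of (x j)) ^ E8 i j = if Pat i j then of n else 1 := fun i j => by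
    have h : ((x i)⁻¹ * x j) ^ E8 i j = if Pat i j then n else 1 := by
      refine Subtype.ext ?_
      rw [apply_ite Subtype.val]
      exact cgen_twisted e i j
    rw [← map_inv, ← map_mul, ← map_pow, h, apply_ite of, map_one]
  have hn : of n = 1 := by
    have h : n = ⁅x 0, x 1⁆ := by
      refine Subtype.ext (Prod.ext (Prod.ext unitA_anti.1.symm unitB_anti.symm) ?_)
      show (1 : G) = ⁅gen e 0, gen e 1⁆
      refine (commutatorElement_eq_one_iff_mul_comm.2 ?_).symm
      have a01 := gen_relations e 0 1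
      have s0 := gen_relations e 0 7
      have s1 := gen_relations e 1 7
      rw [show E8 0 1 = 2 by decide +kernel, pow_two] at a01
      rw [gen_seven, mul_one, show E8 0 7 = 2 by decide +kernel, pow_two, ← mul_inv_rev,
        inv_eq_one] at s0
      rw [gen_seven, mul_one, show E8 1 7 = 2 by decide +kernel, pow_two, ← mul_inv_rev,
        inv_eq_one] at s1
      have i0 := inv_eq_of_mul_eq_one_right s0
      have i1 := inv_eq_of_mul_eq_one_right s1
      rw [i0] at a01
      calc gen e 0 * gen e 1 = (gen e 0 * gen e 1)⁻¹ :=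
            (inv_eq_of_mul_eq_one_right a01).symm
        _ = gen e 1 * gen e 0 := by rw [mul_inv_rev, i0, i1]
    rw [h, map_commutatorElement, commutatorElement_eq_one_iff_mul_comm, mul_comm]
  set z : Fin 8 → Abelianization (cover e) := fun i => of (x i)
  have hz : ∀ i j, ((z i)⁻¹ * z j) ^ E8 i j = 1 := fun i j => by
    rw [show ((z i)⁻¹ * z j) ^ E8 i j = _ from hx i j, hn, ite_self]
  have z7 : z 7 = 1 := by
    have : x 7 = 1 := Subtype.ext (Prod.ext (Prod.ext unitA_seven unitB_seven) (gen_seven e))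
    show of (x 7) = 1
    rw [this, map_one]
  have hsq : ∀ i, E8 i 7 = 2 → z i * z i = 1 := fun i h => by
    have e1 := hz i 7
    rw [z7, mul_one, h, inv_pow, inv_eq_one, pow_two] at e1
    exact e1
  have sq0 := hsq 0 (by decide)
  have sq1 := hsq 1 (by decide)
  have sq2 := hsq 2 (by decide)
  have sq3 := hsq 3 (by decide)
  have sq4 := hsq 4 (by decide)
  have sq5 := hsq 5 (by decide)
  have z6 : z 6 = 1 := by
    have h3 := hz 7 6
    rw [z7, inv_one, one_mul, show E8 7 6 = 3 by decide] at h3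
    have h2 := hz 0 6
    rw [show E8 0 6 = 2 by decide, mul_pow, inv_pow, pow_two, sq0, inv_one, one_mul] at h2
    rw [pow_succ, h2, one_mul] at h3
    exact h3
  have z5 : z 5 = 1 := by
    have h3 := hz 6 5
    rw [z6, inv_one, one_mul, show E8 6 5 = 3 by decide, pow_succ, pow_two, sq5, one_mul] at h3
    exact h3
  have hadj : ∀ i j, E8 i j = 3 → z i * z i = 1 → z j * z j = 1 → z i = z j := fun i j h hi hj => by
    have h1 := hz i j
    rw [h, mul_pow, pow_succ, pow_succ (z j), inv_pow, pow_two, pow_two, hi, hj, inv_one, one_mul,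
      one_mul] at h1
    exact inv_mul_eq_one.1 h1
  have z4 : z 4 = 1 := (hadj 4 5 (by decide) sq4 sq5).trans z5
  have z3 : z 3 = 1 := (hadj 3 4 (by decide) sq3 sq4).trans z4
  have z2 : z 2 = 1 := (hadj 2 3 (by decide) sq2 sq3).trans z3
  have z1 : z 1 = 1 := (hadj 1 3 (by decide) sq1 sq3).trans z3
  have z0 : z 0 = 1 := (hadj 0 2 (by decide) sq0 sq2).trans z2
  have hall : ∀ i, z i = 1 := by
    intro i
    fin_cases i <;> assumption
  rw [eq_top_iff, ← Abelianization.ker_of]
  rintro ⟨y, hy⟩ -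
  rw [MonoidHom.mem_ker]
  induction hy using closure_induction with
  | one => exact map_one _
  | mem y hy =>
    rcases hy with ⟨i, rfl⟩ | rfl
    · exact hall i
    · exact hn
  | mul a b ha hb iha ihb =>
    show Abelianization.of ((⟨a, ha⟩ : cover e) * ⟨b, hb⟩) = 1
    rw [map_mul, iha, ihb, one_mul]
  | inv a ha iha =>
    show Abelianization.of ((⟨a, ha⟩ : cover e)⁻¹) = 1
    rw [map_inv, iha, inv_one]

/-- The second central element. -/
noncomputable def comg : (GL8 × GL8) × G := (omg, 1)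

theorem comg_mem : (comg : (GL8 × GL8) × G) ∈ cover e := by
  have m := cgen_mem e
  have h : (((cgen e 0)⁻¹ * cgen e 1 * ((cgen e 2)⁻¹ * cgen e 3) * ((cgen e 4)⁻¹ * cgen e 5) *
      ((cgen e 6)⁻¹ * cgen e 7)) ^ 15) = comg :=
    Prod.ext (Prod.ext unitA_word unitB_word) (gen_word e)
  rw [← h]
  exact pow_mem (mul_mem (mul_mem (mul_mem (mul_mem (inv_mem (m 0)) (m 1))
    (mul_mem (inv_mem (m 2)) (m 3))) (mul_mem (inv_mem (m 4)) (m 5)))
    (mul_mem (inv_mem (m 6)) (m 7))) 15

theorem neg_one_mul_self : (-1 : GL8) * -1 = 1 := by simp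

theorem card_cover_le [Fintype F] :
    Nat.card (cover e) ≤ Nat.card (CoxeterMatrix.E₈).Group :=
  card_le_of_twisted (cgen_twisted e)
    (mem_center_iff.2 fun x => Prod.ext (mem_center_iff.1 nu_central x.1) (by simp [cnu]))
    (Prod.ext (Prod.ext neg_one_mul_self neg_one_mul_self) (one_mul _))
    (Prod.ext (Prod.ext unitA_seven unitB_seven) (gen_seven e))

/-- The pairs of scalars. -/
def kerPair (z : Multiplicative (ZMod 2 × ZMod 2)) : GL8 × GL8 :=
  ((-1 : GL8) ^ ((z.toAdd.1 + z.toAdd.2).val), (-1 : GL8) ^ (z.toAdd.1.val))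

theorem kerPair_values :
    kerPair (Multiplicative.ofAdd (0, 0)) = 1 ∧ kerPair (Multiplicative.ofAdd (1, 0)) = nu ∧
      kerPair (Multiplicative.ofAdd (0, 1)) = omg ∧
        kerPair (Multiplicative.ofAdd (1, 1)) = nu * omg := by
  decide +kernel

/-- The kernel as a homomorphism from the four group. -/
noncomputable def kerHom (z : Multiplicative (ZMod 2 × ZMod 2)) : (GL8 × GL8) × G :=
  (kerPair z, 1)

theorem neg_one_pow_zmod (a b : ZMod 2) :
    (-1 : GL8) ^ (a + b).val = (-1 : GL8) ^ a.val * (-1 : GL8) ^ b.val := by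
  revert a b
  decide +kernel

theorem exists_iso [Fintype F] (hF : Fintype.card F = 2) :
    Cfsg.IsStemExtension (coverMap e) ∧
      Nonempty ((coverMap e).ker ≃* Multiplicative (ZMod 2 × ZMod 2)) ∧
      Nat.card (cover e) = Nat.card (CoxeterMatrix.E₈).Group := by
  have hG : 4 * Nat.card G = _ := card_eq hF
  have hGpos : 0 < Nat.card G := Nat.card_pos
  have h1 := Subgroup.card_eq_card_quotient_mul_card_subgroup (coverMap e).ker
  rw [Nat.card_congr (QuotientGroup.quotientKerEquivOfSurjective _ (coverMap_surjective e)).toEquiv]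
    at h1
  have hk4 : Nat.card (coverMap e).ker ≤ 4 := by
    have h2 := card_cover_le e
    rw [h1, ← hG, mul_comm 4] at h2
    exact Nat.le_of_mul_le_mul_left h2 hGpos
  have hmem : ∀ z, kerHom (F := F) z ∈ cover e := by
    intro z
    have hb : ∀ a : ZMod 2, a = 0 ∨ a = 1 := by decide
    have h00 : kerHom (F := F) (Multiplicative.ofAdd (0, 0)) = 1 :=
      Prod.ext kerPair_values.1 rfl
    have h10 : kerHom (F := F) (Multiplicative.ofAdd (1, 0)) = cnu :=
      Prod.ext kerPair_values.2.1 rfl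
    have h01 : kerHom (F := F) (Multiplicative.ofAdd (0, 1)) = comg :=
      Prod.ext kerPair_values.2.2.1 rfl
    have h11 : kerHom (F := F) (Multiplicative.ofAdd (1, 1)) = cnu * comg :=
      Prod.ext kerPair_values.2.2.2 (one_mul 1).symm
    obtain ⟨⟨a, b⟩, rfl⟩ := Multiplicative.ofAdd.surjective z
    rcases hb a with rfl | rfl <;> rcases hb b with rfl | rfl
    · rw [h00]; exact one_mem _
    · rw [h01]; exact comg_mem e
    · rw [h10]; exact cnu_mem e
    · rw [h11]; exact mul_mem (cnu_mem e) (comg_mem e)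
  let π : Multiplicative (ZMod 2 × ZMod 2) →* (coverMap e).ker :=
    MonoidHom.mk' (fun z => ⟨⟨kerHom z, hmem z⟩, MonoidHom.mem_ker.2 rfl⟩) fun z w => by
      refine Subtype.ext (Subtype.ext (Prod.ext (Prod.ext ?_ ?_) (one_mul _).symm))
      · show (-1 : GL8) ^ ((z.toAdd.1 + w.toAdd.1) + (z.toAdd.2 + w.toAdd.2)).val =
          (-1 : GL8) ^ (z.toAdd.1 + z.toAdd.2).val * (-1 : GL8) ^ (w.toAdd.1 + w.toAdd.2).val
        rw [add_add_add_comm, neg_one_pow_zmod]
      · exact neg_one_pow_zmod _ _
  have hinj : Function.Injective π := by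
    intro z w h
    have h' : kerHom (F := F) z = kerHom w :=
      congrArg (fun d : (coverMap e).ker => ((d : cover e) : (GL8 × GL8) × G)) h
    have key : ∀ a b c d : ZMod 2, (-1 : GL8) ^ (a + b).val = (-1 : GL8) ^ (c + d).val →
        (-1 : GL8) ^ a.val = (-1 : GL8) ^ c.val → a = c ∧ b = d := by
      decide +kernel
    obtain ⟨ha, hb⟩ := key _ _ _ _ (congrArg (fun d => d.1.1) h') (congrArg (fun d => d.1.2) h')
    exact Multiplicative.toAdd.injective (Prod.ext ha hb)
  have hcard4 : Nat.card (Multiplicative (ZMod 2 × ZMod 2)) = 4 := by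
    rw [Nat.card_congr Multiplicative.toAdd, Nat.card_prod, Nat.card_zmod]
  have hbij : Function.Bijective π := hinj.bijective_of_nat_card_le (by omega)
  have hge : 4 ≤ Nat.card (coverMap e).ker := le_of_eq_of_le hcard4.symm (Nat.card_le_card_of_injective (⇑π) hinj)
  refine ⟨⟨coverMap_surjective e, fun d hd => ?_, fun d _ => cover_perfect e ▸ mem_top d⟩,
    ⟨(MulEquiv.ofBijective π hbij).symm⟩, ?_⟩
  · obtain ⟨z, hz⟩ := hbij.2 ⟨d, hd⟩
    have hd' : (d : (GL8 × GL8) × G) = kerHom z := by
      rw [show d = ((π z : (coverMap e).ker) : cover e) from congrArg Subtype.val hz.symm]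
      rfl
    refine mem_center_iff.2 fun y => Subtype.ext ?_
    show ((y : (GL8 × GL8) × G)) * (d : (GL8 × GL8) × G) = d * (y : (GL8 × GL8) × G)
    rw [hd']
    exact Prod.ext (Prod.ext ((Commute.neg_one_right _).pow_right _).eq
      ((Commute.neg_one_right _).pow_right _).eq) (by simp [kerHom])
  · rw [h1, ← hG, le_antisymm hk4 hge, mul_comm]

theorem exists_cover [Fintype F] (hF : Fintype.card F = 2) :
    ∃ (Γ : Type u) (_ : Group Γ) (_ : Finite Γ) (σ : Γ →* G),
      Cfsg.IsStemExtension σ ∧ Nonempty (σ.ker ≃* Multiplicative (ZMod 2 × ZMod 2)) := by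
  let e := ZMod.ringEquivOfPrime F Nat.prime_two hF
  obtain ⟨h1, h2, -⟩ := exists_iso e hF
  exact ⟨cover e, inferInstance, inferInstance, coverMap e, h1, h2⟩

theorem exists_surjection [Fintype F] (hF : Fintype.card F = 2) {Γ : Type u} [Group Γ] [Finite Γ]
    (σ : Γ →* G) (hσ : Cfsg.IsStemExtension σ) :
    ∃ π : Multiplicative (ZMod 2 × ZMod 2) →* σ.ker, Function.Surjective π := by
  let e := ZMod.ringEquivOfPrime F Nat.prime_two hF
  obtain ⟨hstem, ⟨iso⟩, hcard⟩ := exists_iso e hF
  obtain ⟨U, ε, hεk, hε2, hU7, hσU, hU⟩ :=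
    exists_twisted (gen_seven e) (gen_relations e) hσ.2.1 hσ.1
  let v : Fin 8 → Γ × cover e := fun i => (U i, ⟨cgen e i, cgen_mem e i⟩)
  let w : Γ × cover e := (ε, ⟨cnu, cnu_mem e⟩)
  have hv : Twisted v w := fun i j => by
    refine Prod.ext ?_ (Subtype.ext ?_)
    · show ((U i)⁻¹ * U j) ^ E8 i j = (if Pat i j then w else 1).1
      rw [hU i j, apply_ite Prod.fst]
      rfl
    · show ((cgen e i)⁻¹ * cgen e j) ^ E8 i j = ((if Pat i j then w else 1).2 : cover e)
      rw [cgen_twisted e i j, apply_ite Prod.snd, apply_ite Subtype.val]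
      rfl
  have hw2 : w * w = 1 := Prod.ext hε2 (Subtype.ext
    (Prod.ext (Prod.ext neg_one_mul_self neg_one_mul_self) (one_mul _)))
  have hwc : w ∈ center (Γ × cover e) := mem_center_iff.2 fun x => Prod.ext
    (mem_center_iff.1 (hσ.2.1 hεk) x.1) (Subtype.ext (Prod.ext
      (mem_center_iff.1 nu_central _) (by simp [w, cnu])))
  set P := closure (Set.range v ∪ {w})
  let p : P →* cover e := (MonoidHom.snd _ _).comp P.subtype
  have hp : Function.Surjective p := by
    rintro ⟨y, hy⟩
    induction hy using closure_induction with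
    | one => exact ⟨1, rfl⟩
    | mem y hy =>
      rcases hy with ⟨i, rfl⟩ | rfl
      · exact ⟨⟨v i, subset_closure (Or.inl ⟨i, rfl⟩)⟩, rfl⟩
      · exact ⟨⟨w, subset_closure (Or.inr rfl)⟩, rfl⟩
    | mul a b ha hb iha ihb =>
      obtain ⟨a', ha'⟩ := iha
      obtain ⟨b', hb'⟩ := ihb
      exact ⟨a' * b', by rw [map_mul, ha', hb']; rfl⟩
    | inv a ha iha =>
      obtain ⟨a', ha'⟩ := iha
      exact ⟨a'⁻¹, by rw [map_inv, ha']; rfl⟩
  have hpbij : Function.Bijective p := hp.bijective_of_nat_card_le (by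
    rw [hcard]
    exact card_le_of_twisted hv hwc hw2 (Prod.ext hU7 (Subtype.ext
      (Prod.ext (Prod.ext unitA_seven unitB_seven) (gen_seven e)))))
  let f : cover e →* Γ := ((MonoidHom.fst _ _).comp P.subtype).comp
    (MulEquiv.ofBijective p hpbij).symm.toMonoidHom
  have hf : ∀ y, σ (f y) = coverMap e y := by
    intro y
    obtain ⟨⟨d, hd⟩, rfl⟩ := (MulEquiv.ofBijective p hpbij).surjective y
    show σ (((MulEquiv.ofBijective p hpbij).symm (MulEquiv.ofBijective p hpbij ⟨d, hd⟩) : P) :
      Γ × cover e).1 = coverMap e d.2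
    rw [MulEquiv.symm_apply_apply]
    show σ d.1 = coverMap e d.2
    induction hd using closure_induction with
    | one => exact (map_one σ).trans (map_one _).symm
    | mem d hd =>
      rcases hd with ⟨i, rfl⟩ | rfl
      · exact hσU i
      · exact hεk
    | mul a b ha hb iha ihb =>
      show σ (a.1 * b.1) = coverMap e (a.2 * b.2)
      rw [map_mul, map_mul, iha, ihb]
    | inv a ha iha =>
      show σ a.1⁻¹ = coverMap e a.2⁻¹
      rw [map_inv, map_inv, iha]
  have hperf : commutator G = ⊤ := by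
    rw [← Cfsg.Agent.H74.Schur.map_commutator_of_surjective _ (coverMap_surjective e),
      cover_perfect, map_top_of_surjective _ (coverMap_surjective e)]
  have hΓ : commutator Γ = ⊤ := by
    obtain ⟨hmap, -⟩ := Cfsg.Agent.H74.Schur.commutator_perfect hσ.1 hσ.2.1
      (Group.isPerfect_def.2 hperf)
    refine eq_top_iff.2 fun x _ => ?_
    obtain ⟨y, hy, hyx⟩ : σ x ∈ (commutator Γ).map σ := hmap ▸ mem_top _
    have : y⁻¹ * x ∈ commutator Γ :=
      hσ.2.2 (by rw [MonoidHom.mem_ker, map_mul, map_inv, hyx, inv_mul_cancel])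
    simpa using mul_mem hy this
  have hfs : Function.Surjective f := by
    rw [← MonoidHom.range_eq_top, eq_top_iff, ← hΓ, commutator_def, commutator_le]
    have hdec : ∀ x : Γ, ∃ y, ∃ z ∈ center Γ, x = f y * z := fun x => by
      obtain ⟨y, hy⟩ := coverMap_surjective e (σ x)
      exact ⟨y, (f y)⁻¹ * x, hσ.2.1 (by
        rw [MonoidHom.mem_ker, map_mul, map_inv, hf, hy, inv_mul_cancel]),
        (mul_inv_cancel_left _ _).symm⟩
    intro a _ b _
    obtain ⟨y, z, hz, rfl⟩ := hdec a
    obtain ⟨y', z', hz', rfl⟩ := hdec b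
    rw [commutatorElement_def, Cfsg.Agent.H74.Schur.commutatorElement_mul_central hz hz',
      ← commutatorElement_def, ← map_commutatorElement]
    exact ⟨_, rfl⟩
  let fk : (coverMap e).ker →* σ.ker :=
    (f.comp (coverMap e).ker.subtype).codRestrict σ.ker fun y =>
      MonoidHom.mem_ker.2 ((hf _).trans y.2)
  refine ⟨fk.comp iso.symm.toMonoidHom, ?_⟩
  have hfk : Function.Surjective fk := ?_
  · exact hfk.comp iso.symm.surjective
  intro z
  obtain ⟨y, hy⟩ := hfs z
  exact ⟨⟨y, MonoidHom.mem_ker.2 ((hf y).symm.trans (hy ▸ z.2))⟩, Subtype.ext hy⟩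

end Cfsg.Agent.H87.OmegaEight
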