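import Cfsg.Agent.H87.OrthModel
import Cfsg.Agent.Orthogonal.Order

/-! Decompositions of the standard forms in odd characteristic into copies of `x² + y²`. -/

set_option autoImplicit false

namespace Cfsg.Agent.H87.OrthSyl

open QuadraticMap Module Cfsg.Agent.Orthogonal

variable {F : Type*} [Field F]

/-- Isometric forms. -/
def Iso {V V' : Type*} [AddCommGroup V] [Module F V] [AddCommGroup V'] [Module F V']
    (Q : QuadraticForm F V) (Q' : QuadraticForm F V') : Prop := ∃ E : V ≃ₗ[F] V', ∀ x, Q' (E x) = Q x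

section Iso

variable {V V' V'' U U' : Type*} [AddCommGroup V] [Module F V] [AddCommGroup V'] [Module F V']
  [AddCommGroup V''] [Module F V''] [AddCommGroup U] [Module F U] [AddCommGroup U'] [Module F U']
  {Q : QuadraticForm F V} {Q' : QuadraticForm F V'} {Q'' : QuadraticForm F V''}
  {R : QuadraticForm F U} {R' : QuadraticForm F U'}

theorem Iso.refl (Q : QuadraticForm F V) : Iso Q Q := ⟨LinearEquiv.refl F V, fun _ => rfl⟩

theorem Iso.symm (h : Iso Q Q') : Iso Q' Q :=
  ⟨h.choose.symm, fun x => by rw [← h.choose_spec (h.choose.symm x), LinearEquiv.apply_symm_apply]⟩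

theorem Iso.trans (h : Iso Q Q') (h' : Iso Q' Q'') : Iso Q Q'' :=
  ⟨h.choose.trans h'.choose, fun x => by rw [LinearEquiv.trans_apply, h'.choose_spec, h.choose_spec]⟩

theorem Iso.prod (h : Iso Q Q') (h' : Iso R R') : Iso (Q.prod R) (Q'.prod R') :=
  ⟨h.choose.prodCongr h'.choose, fun x => by simp [QuadraticMap.prod_apply, h.choose_spec, h'.choose_spec]⟩

theorem iso_comm (Q : QuadraticForm F V) (R : QuadraticForm F U) : Iso (Q.prod R) (R.prod Q) :=
  ⟨LinearEquiv.prodComm F V U, fun x => by simp [QuadraticMap.prod_apply, add_comm]⟩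

theorem iso_assoc (Q : QuadraticForm F V) (Q' : QuadraticForm F V') (R : QuadraticForm F U) :
    Iso ((Q.prod Q').prod R) (Q.prod (Q'.prod R)) :=
  ⟨LinearEquiv.prodAssoc F V V' U, fun x => by simp [QuadraticMap.prod_apply, add_assoc]⟩

end Iso

/-- The plane `x² + y²`. -/
noncomputable def planeForm (F : Type*) [Field F] : QuadraticForm F (Fin 2 → F) :=
  QuadraticMap.proj 0 0 + QuadraticMap.proj 1 1

theorem planeForm_apply (v : Fin 2 → F) : planeForm F v = v 0 * v 0 + v 1 * v 1 := rfl

theorem polar_planeForm (v w : Fin 2 → F) : polar (planeForm F) v w = 2 * (v 0 * w 0 + v 1 * w 1) := by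
  simp only [polar, planeForm_apply, Pi.add_apply]; ring

theorem planeForm_nondeg (h2 : (2 : F) ≠ 0) : Nondeg (planeForm F) := by
  intro x hx
  funext i
  fin_cases i
  · simpa [polar_planeForm, h2] using hx ![1, 0]
  · simpa [polar_planeForm, h2] using hx ![0, 1]

/-- `n` planes. -/
noncomputable def planes (F : Type*) [Field F] (n : ℕ) : QuadraticForm F (Fin n → Fin 2 → F) :=
  QuadraticMap.pi fun _ => planeForm F

theorem planes_succ (n : ℕ) : Iso (planes F (n + 1)) ((planeForm F).prod (planes F n)) :=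
  ⟨(Fin.consLinearEquiv F fun _ : Fin (n + 1) => (Fin 2 → F)).symm, fun x => by
    simp [planes, QuadraticMap.prod_apply, QuadraticMap.pi_apply, Fin.sum_univ_succ, Fin.tail]⟩

theorem formPlus_apply (m : ℕ) (v : Fin m ⊕ Fin m → F) :
    formPlus F m v = ∑ i, v (.inl i) * v (.inr i) := congrFun (formPlus_coe F m) v

theorem plus_add (j k : ℕ) : Iso ((formPlus F j).prod (formPlus F k)) (formPlus F (j + k)) :=
  ⟨((LinearEquiv.sumArrowLequivProdArrow (Fin j ⊕ Fin j) (Fin k ⊕ Fin k) F F).symm).trans
      (LinearEquiv.funCongrLeft F F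
        ((Equiv.sumCongr finSumFinEquiv.symm finSumFinEquiv.symm).trans (Equiv.sumSumSumComm _ _ _ _))),
    fun ⟨x, y⟩ => by
      simp [QuadraticMap.prod_apply, formPlus_apply, Fin.sum_univ_add, LinearEquiv.funCongrLeft_apply,
        LinearMap.funLeft_apply, Equiv.sumSumSumComm, Equiv.sumAssoc,
        LinearEquiv.sumArrowLequivProdArrow_symm_apply_inl, LinearEquiv.sumArrowLequivProdArrow_symm_apply_inr]⟩

theorem formMinus_apply (m : ℕ) (a b : F) (v : (Fin m ⊕ Fin m) ⊕ Fin 2 → F) :
    formMinus F m a b v = (∑ i, v (.inl (.inl i)) * v (.inl (.inr i))) +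
      (v (.inr 0) ^ 2 + a * v (.inr 0) * v (.inr 1) + b * v (.inr 1) ^ 2) :=
  congrFun (formMinus_coe F m a b) v

/-- The binary part of the minus form. -/
noncomputable def ellForm (a b : F) : QuadraticForm F (Fin 2 → F) :=
  QuadraticMap.proj 0 0 + a • QuadraticMap.proj 0 1 + b • QuadraticMap.proj 1 1

theorem ellForm_apply (a b : F) (v : Fin 2 → F) :
    ellForm a b v = v 0 * v 0 + a * (v 0 * v 1) + b * (v 1 * v 1) := rfl

theorem minus_eq (m : ℕ) (a b : F) : Iso ((formPlus F m).prod (ellForm a b)) (formMinus F m a b) :=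
  ⟨(LinearEquiv.sumArrowLequivProdArrow (Fin m ⊕ Fin m) (Fin 2) F F).symm, fun ⟨x, y⟩ => by
    simp [QuadraticMap.prod_apply, formPlus_apply, formMinus_apply, ellForm_apply, pow_two, mul_assoc,
      LinearEquiv.sumArrowLequivProdArrow_symm_apply_inl, LinearEquiv.sumArrowLequivProdArrow_symm_apply_inr]⟩

theorem plus_zero {V : Type*} [AddCommGroup V] [Module F V] (Q : QuadraticForm F V) :
    Iso ((formPlus F 0).prod Q) Q :=
  ⟨{ toFun := Prod.snd
     map_add' := fun _ _ => rfl
     map_smul' := fun _ _ => rfl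
     invFun := fun v => (0, v)
     left_inv := fun x => Prod.ext (Subsingleton.elim _ _) rfl
     right_inv := fun _ => rfl }, fun x => by simp [QuadraticMap.prod_apply, formPlus_apply]⟩

theorem planes_zero {V : Type*} [AddCommGroup V] [Module F V] (Q : QuadraticForm F V) :
    Iso ((planes F 0).prod Q) Q :=
  ⟨{ toFun := Prod.snd
     map_add' := fun _ _ => rfl
     map_smul' := fun _ _ => rfl
     invFun := fun v => (0, v)
     left_inv := fun x => Prod.ext (Subsingleton.elim _ _) rfl
     right_inv := fun _ => rfl }, fun x => by simp [QuadraticMap.prod_apply, planes, QuadraticMap.pi_apply]⟩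

theorem neg_one_square_plane (h2 : (2 : F) ≠ 0) {i : F} (hi : i * i = -1) :
    Iso (planeForm F) (formPlus F 1) :=
  ⟨{ toFun := fun v => Sum.elim (fun _ => v 0 + i * v 1) (fun _ => v 0 - i * v 1)
     map_add' := fun u v => by funext s; rcases s with s | s <;> simp <;> ring
     map_smul' := fun c v => by funext s; rcases s with s | s <;> simp <;> ring
     invFun := fun w => ![(w (.inl 0) + w (.inr 0)) / 2, -i * (w (.inl 0) - w (.inr 0)) / 2]
     left_inv := fun v => by
      funext k
      fin_cases k <;> simp <;> field_simp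
      · ring
      · linear_combination (-2 * v 1) * hi
     right_inv := fun w => by
      funext s
      rcases s with s | s <;> (obtain rfl : s = 0 := Subsingleton.elim _ _) <;> simp <;> field_simp
      · linear_combination (-(w (.inl 0) - w (.inr 0))) * hi
      · linear_combination ((w (.inl 0) - w (.inr 0))) * hi }, fun v => by
    simp [formPlus_apply, planeForm_apply]
    linear_combination (-(v 1) ^ 2) * hi⟩

theorem two_planes (h2 : (2 : F) ≠ 0) {a b : F} (hab : a ^ 2 + b ^ 2 = -1) :
    Iso ((planeForm F).prod (planeForm F)) (formPlus F 2) := by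
  let M : ((Fin 2 → F) × (Fin 2 → F)) →ₗ[F] (Fin 2 ⊕ Fin 2 → F) :=
    { toFun := fun v => Sum.elim ![v.1 0 + (a * v.2 0 + b * v.2 1), v.1 1 + (-b * v.2 0 + a * v.2 1)]
        ![v.1 0 - (a * v.2 0 + b * v.2 1), v.1 1 - (-b * v.2 0 + a * v.2 1)]
      map_add' := fun u v => by
        funext s
        rcases s with s | s <;> fin_cases s <;> simp <;> ring
      map_smul' := fun c v => by
        funext s
        rcases s with s | s <;> fin_cases s <;> simp <;> ring }
  have hinj : Function.Injective M := by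
    rw [injective_iff_map_eq_zero]
    intro v hv
    have e1 : v.1 0 + (a * v.2 0 + b * v.2 1) = 0 := by simpa [M] using congrFun hv (.inl 0)
    have e2 : v.1 1 + (-b * v.2 0 + a * v.2 1) = 0 := by simpa [M] using congrFun hv (.inl 1)
    have e3 : v.1 0 - (a * v.2 0 + b * v.2 1) = 0 := by simpa [M] using congrFun hv (.inr 0)
    have e4 : v.1 1 - (-b * v.2 0 + a * v.2 1) = 0 := by simpa [M] using congrFun hv (.inr 1)
    refine Prod.ext ?_ ?_ <;> funext k <;> fin_cases k <;> refine ((mul_eq_zero (a := (2 : F))).1 ?_).resolve_left h2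
    · simp only [Fin.zero_eta, Prod.fst_zero, Pi.zero_apply]
      linear_combination e1 + e3
    · simp only [Fin.mk_one, Prod.fst_zero, Pi.zero_apply]
      linear_combination e2 + e4
    · simp only [Fin.zero_eta, Prod.snd_zero, Pi.zero_apply]
      linear_combination (-a) * (e1 - e3) + b * (e2 - e4) + (2 * v.2 0) * hab
    · simp only [Fin.mk_one, Prod.snd_zero, Pi.zero_apply]
      linear_combination (-b) * (e1 - e3) + (-a) * (e2 - e4) + (2 * v.2 1) * hab
  have hbij : Function.Bijective M :=
    ⟨hinj, (LinearMap.injective_iff_surjective_of_finrank_eq_finrank (by simp)).1 hinj⟩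
  refine ⟨LinearEquiv.ofBijective M hbij, fun v => ?_⟩
  simp [M, formPlus_apply, QuadraticMap.prod_apply, planeForm_apply, Fin.sum_univ_two]
  linear_combination (-(v.2 0 * v.2 0 + v.2 1 * v.2 1)) * hab

/-- An anisotropic binary form is `x² + y²` when `-1` is not a square. -/
theorem ell_iso_plane [Finite F] (h2 : (2 : F) ≠ 0) (hneg : ¬ IsSquare (-1 : F)) {a b : F}
    (hab : ∀ z₁ z₂ : F, z₁ ^ 2 + a * z₁ * z₂ + b * z₂ ^ 2 = 0 → z₁ = 0 ∧ z₂ = 0) :
    Iso (planeForm F) (ellForm a b) := by
  have hpol : ∀ v w : Fin 2 → F, polar (ellForm a b) v w =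
      2 * (v 0 * w 0) + a * (v 0 * w 1 + v 1 * w 0) + 2 * b * (v 1 * w 1) := fun v w => by
    simp only [polar, ellForm_apply, Pi.add_apply]; ring
  have han : ∀ v : Fin 2 → F, ellForm a b v = 0 → v = 0 := by
    intro v hv
    obtain ⟨e0, e1⟩ := hab (v 0) (v 1) (by rw [ellForm_apply] at hv; linear_combination hv)
    funext k; fin_cases k <;> assumption
  set x : Fin 2 → F := ![1, 0] with hx
  set w : Fin 2 → F := ![-a / 2, 1] with hw
  have hQx : ellForm a b x = 1 := by simp [hx, ellForm_apply]
  have hxw : polar (ellForm a b) x w = 0 := by simp [hx, hw, hpol]; field_simp; ring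
  have hQw : ellForm a b w ≠ 0 := fun h => by simpa [hw] using congrFun (han w h) 1
  have hsq : IsSquare (ellForm a b w) := by
    by_contra hns
    have h1 : IsSquare (-(ellForm a b w)) := by
      have := (isSquare_mul_iff h2 (neg_ne_zero.2 one_ne_zero) hQw).2 (iff_of_false hneg hns)
      simpa using this
    obtain ⟨s, hs⟩ := h1
    have h3 : ellForm a b (s • x + w) = 0 := by
      rw [map_add_polar, polar_smul_left', hxw, qmap_smul, hQx]
      linear_combination (-1 : F) * hs
    simpa [hw, hx] using congrFun (han _ h3) 1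
  obtain ⟨s, hs⟩ := hsq
  have hs0 : s ≠ 0 := fun h => hQw (by rw [hs, h, zero_mul])
  let M : (Fin 2 → F) →ₗ[F] (Fin 2 → F) :=
    { toFun := fun v => v 0 • x + (s⁻¹ * v 1) • w
      map_add' := fun u v => by simp only [Pi.add_apply, mul_add, add_smul]; abel
      map_smul' := fun c v => by simp [smul_add, smul_smul, mul_left_comm] }
  have hval : ∀ v, ellForm a b (M v) = planeForm F v := by
    intro v
    show ellForm a b (v 0 • x + (s⁻¹ * v 1) • w) = _
    rw [map_add_polar, polar_smul_left', polar_smul_right', hxw, qmap_smul, qmap_smul, hQx, hs, planeForm_apply]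
    field_simp
    ring
  have hinj : Function.Injective M := by
    rw [injective_iff_map_eq_zero]
    intro v hv
    have h1 : s⁻¹ * v 1 = 0 := by simpa [M, hx, hw] using congrFun hv 1
    have h3 : v 1 = 0 := (mul_eq_zero.1 h1).resolve_left (inv_ne_zero hs0)
    have h0 : v 0 = 0 := by simpa [M, hx, hw, h3] using congrFun hv 0
    funext k; fin_cases k <;> assumption
  exact ⟨LinearEquiv.ofBijective M ⟨hinj, LinearMap.injective_iff_surjective.1 hinj⟩, hval⟩

theorem planes_plus_zero : Iso (planes F 0) (formPlus F 0) :=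
  ⟨{ toFun := fun _ => 0
     map_add' := fun _ _ => (add_zero 0).symm
     map_smul' := fun _ _ => (smul_zero _).symm
     invFun := fun _ => 0
     left_inv := fun _ => Subsingleton.elim _ _
     right_inv := fun _ => Subsingleton.elim _ _ },
    fun x => by simp [formPlus_apply, planes, QuadraticMap.pi_apply]⟩

/-- Copies of `x² + y²` when `-1` is a square. -/
theorem planes_plus_of_square (h2 : (2 : F) ≠ 0) {i : F} (hi : i * i = -1) :
    ∀ n, Iso (planes F n) (formPlus F n)
  | 0 => planes_plus_zero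
  | n + 1 => ((planes_succ n).trans ((neg_one_square_plane h2 hi).prod (planes_plus_of_square h2 hi n))).trans
      ((plus_add 1 n).trans (Nat.add_comm 1 n ▸ Iso.refl _))

/-- An even number of copies of `x² + y²`. -/
theorem planes_plus_even [Finite F] (h2 : (2 : F) ≠ 0) : ∀ k, Iso (planes F (2 * k)) (formPlus F (2 * k))
  | 0 => planes_plus_zero
  | k + 1 => by
      obtain ⟨a, b, hab⟩ : ∃ a b : F, a ^ 2 + b ^ 2 = -1 := by
        obtain ⟨a, b, h⟩ := exists_sq_add_sq (a := (1 : F)) (b := 1) one_ne_zero one_ne_zero (-1)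
        exact ⟨a, b, by simpa using h⟩
      have h := ((planes_succ (2 * k + 1)).trans ((Iso.refl (planeForm F)).prod (planes_succ (2 * k)))).trans
        ((iso_assoc _ _ _).symm.trans (((two_planes h2 hab).prod (planes_plus_even h2 k)).trans (plus_add 2 (2 * k))))
      rw [show 2 + 2 * k = 2 * k + 1 + 1 by omega] at h
      exact h

/-! ### 2-parts -/

theorem two_val_pow {q i : ℕ} (hq : Odd q) (hq3 : 1 < q) (hi : i ≠ 0) :
    (q ^ (2 * i) - 1).factorization 2 = (q ^ 2 - 1).factorization 2 + i.factorization 2 := by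
  have hx : ¬ 2 ∣ q := by rw [Nat.two_dvd_ne_zero]; exact Nat.odd_iff.1 hq
  have hxy : 2 ∣ q - 1 := by rw [Nat.odd_iff] at hq; omega
  have h := padicValNat.pow_two_sub_pow hq3 hxy hx (n := 2 * i) (by omega) (even_two_mul i)
  have h' := padicValNat.pow_two_sub_pow hq3 hxy hx (n := 2) (by omega) even_two
  rw [one_pow] at h h'
  rw [padicValNat.mul (by omega) hi, padicValNat_self] at h
  rw [padicValNat_self] at h'
  simp only [Nat.factorization_def _ Nat.prime_two]
  omega

theorem two_val_oprod {q : ℕ} (hq : Odd q) (hq3 : 1 < q) (k : ℕ) :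
    (oprod q k).factorization 2 = k * (q ^ 2 - 1).factorization 2 + k.factorial.factorization 2 ∧ oprod q k ≠ 0 := by
  induction k with
  | zero => simp [oprod]
  | succ k ih =>
    have hne : q ^ (2 * (k + 1)) - 1 ≠ 0 :=
      Nat.sub_ne_zero_of_lt (Nat.one_lt_pow (by omega) hq3)
    rw [oprod_succ]
    refine ⟨?_, mul_ne_zero ih.2 hne⟩
    rw [Nat.factorization_mul ih.2 hne, Finsupp.add_apply, ih.1, two_val_pow hq hq3 (Nat.succ_ne_zero k),
      Nat.factorial_succ, Nat.factorization_mul (Nat.succ_ne_zero k) k.factorial_ne_zero, Finsupp.add_apply]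
    ring

/-- The 2-parts of `q^m - 1` and `q^m + 1`. -/
theorem two_val_pm {q m : ℕ} (hq : Odd q) (hq3 : 1 < q) (hm : m ≠ 0) :
    (q ^ m % 4 = 1 → (q ^ m + 1).factorization 2 = 1 ∧
      (q ^ m - 1).factorization 2 + 1 = (q ^ 2 - 1).factorization 2 + m.factorization 2) ∧
    (q ^ m % 4 = 3 → (q ^ m - 1).factorization 2 = 1 ∧
      (q ^ m + 1).factorization 2 + 1 = (q ^ 2 - 1).factorization 2 + m.factorization 2) := by
  have hp : 1 < q ^ m := Nat.one_lt_pow hm hq3
  have hmul : (q ^ m - 1).factorization 2 + (q ^ m + 1).factorization 2 =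
      (q ^ 2 - 1).factorization 2 + m.factorization 2 := by
    rw [← two_val_pow hq hq3 hm, ← Finsupp.add_apply, ← Nat.factorization_mul (by omega) (by omega)]
    congr 2
    rw [pow_mul', Nat.mul_comm (q ^ m - 1), ← Nat.sq_sub_sq]
  have key : ∀ n : ℕ, n % 4 = 2 → n.factorization 2 = 1 := by
    intro n hn
    obtain ⟨c, rfl⟩ : ∃ c, n = 2 * c := ⟨n / 2, by omega⟩
    rw [Nat.factorization_mul two_ne_zero (by omega), Finsupp.add_apply, Nat.prime_two.factorization_self,
      Nat.factorization_eq_zero_of_not_dvd (by omega)]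
  constructor <;> intro h
  · have := key (q ^ m + 1) (by omega)
    omega
  · have := key (q ^ m - 1) (by omega)
    omega

end Cfsg.Agent.H87.OrthSyl
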