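import Cfsg.Agent.H87.OrthDecomp

/-! Sylow 2-subgroups of `Ω` in odd characteristic: the squares lie in the derived subgroup. -/

set_option autoImplicit false

namespace Cfsg.Agent.H87.OrthSyl

open QuadraticMap Module Cfsg.Agent.Orthogonal

variable {F : Type*} [Field F] [Finite F]

theorem card_O_iso {V V' : Type*} [AddCommGroup V] [Module F V] [AddCommGroup V'] [Module F V']
    {Q : QuadraticForm F V} {Q' : QuadraticForm F V'} (h : Iso Q Q') : Nat.card (O Q) = Nat.card (O Q') :=
  Nat.card_congr (congrO h.choose h.choose_spec).toEquiv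

theorem nondeg_iso {V V' : Type*} [AddCommGroup V] [Module F V] [AddCommGroup V'] [Module F V']
    {Q : QuadraticForm F V} {Q' : QuadraticForm F V'} (h : Iso Q Q') (hQ : Nondeg Q) : Nondeg Q' := by
  intro x hx
  have h0 : h.choose.symm x = 0 := hQ _ fun y => by
    have := hx (h.choose y)
    simp only [polar] at this ⊢
    rw [← h.choose_spec (h.choose.symm x), ← h.choose_spec y, ← h.choose_spec (h.choose.symm x + y),
      map_add, LinearEquiv.apply_symm_apply]
    exact this
  simpa using h0

theorem sqProp_omega {ι : Type} [Fintype ι] [DecidableEq ι] {V : Type*} [AddCommGroup V] [Module F V]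
    [FiniteDimensional F V] {Q₀ : QuadraticForm F V} (Q : QuadraticForm F (ι → F)) (h : Iso Q₀ Q)
    (hs : SqProp (commutator (O Q₀))) : SqProp (Cfsg.Omega F (⇑Q)) := by
  haveI := finite_O' Q₀
  haveI := finite_O' Q
  haveI : Finite (Cfsg.isometryGroup F (⇑Q)) := Finite.of_equiv _ (toO Q).symm.toEquiv
  let e := congrO h.choose h.choose_spec
  have he : (commutator (O Q₀)).map e.toMonoidHom = commutator (O Q) := by
    rw [commutator_def, commutator_def, Subgroup.map_commutator, Subgroup.map_top_of_surjective _ e.surjective]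
  have h1 : SqProp (commutator (O Q)) :=
    hs.congr ((e.subgroupMap _).trans (MulEquiv.subgroupCongr he))
  exact h1.congr (((toO Q).subgroupMap _).trans (MulEquiv.subgroupCongr (toO_map_omega Q))).symm

theorem refl_dim_one {R : Type*} [AddCommGroup R] [Module F R] [FiniteDimensional F R] {QR : QuadraticForm F R}
    (hR : Nondeg QR) (h2 : (2 : F) ≠ 0) (h1 : finrank F R = 1) (g : O QR)
    (hg : detSign QR hR h2 g = -1) : ∃ b, QR b ≠ 0 ∧ g = rO QR b := by
  obtain ⟨v, hv0⟩ := (Module.finrank_pos_iff_exists_ne_zero (R := F) (M := R)).1 (by omega)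
  obtain ⟨y, hy⟩ := hR.exists_polar_ne hv0
  obtain ⟨c, rfl⟩ := (finrank_eq_one_iff_of_nonzero' v hv0).1 h1 y
  have hv : QR v ≠ 0 := fun e => hy (by rw [polar_smul_right', polar_self', e, mul_zero, mul_zero])
  obtain ⟨l, hl⟩ := (finrank_eq_one_iff_of_nonzero' v hv0).1 h1 ((g : R ≃ₗ[F] R) v)
  have hl2 : l ^ 2 = 1 := by
    have := O.map_app g v
    rw [← hl, qmap_smul] at this
    exact mul_right_cancel₀ hv (this.trans (one_mul _).symm)
  have hact : ∀ x, (g : R ≃ₗ[F] R) x = l • x := fun x => by
    obtain ⟨d, rfl⟩ := (finrank_eq_one_iff_of_nonzero' v hv0).1 h1 x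
    rw [map_smul, ← hl, smul_comm]
  rcases (sq_eq_one_iff.1 hl2) with rfl | rfl
  · have : g = 1 := O.ext_app fun x => by rw [hact, one_smul]; rfl
    rw [this, map_one] at hg
    exact absurd hg (by decide)
  · refine ⟨v, hv, O.ext_app fun x => ?_⟩
    obtain ⟨d, rfl⟩ := (finrank_eq_one_iff_of_nonzero' v hv0).1 h1 x
    rw [hact, map_smul, rO_self hv]
    module

theorem refl_dim_zero {R : Type*} [AddCommGroup R] [Module F R] [FiniteDimensional F R] [Subsingleton R]
    {QR : QuadraticForm F R} (hR : Nondeg QR) (h2 : (2 : F) ≠ 0) (g : O QR)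
    (hg : detSign QR hR h2 g = -1) : ∃ b, QR b ≠ 0 ∧ g = rO QR b := by
  have : g = 1 := O.ext_app fun x => Subsingleton.elim _ _
  rw [this, map_one] at hg
  exact absurd hg (by decide)

variable (F) in
/-- The odd order of the field, with the facts used below. -/
theorem field_facts (hodd : Odd (Nat.card F)) :
    (2 : F) ≠ 0 ∧ 1 < Nat.card F ∧ (Nat.card F % 4 = 1 → IsSquare (-1 : F)) ∧
      (Nat.card F % 4 = 3 → ¬ IsSquare (-1 : F)) := by
  haveI := Fintype.ofFinite F
  rw [Nat.card_eq_fintype_card] at hodd ⊢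
  have hchar : ringChar F ≠ 2 := by
    intro h
    have := FiniteField.even_card_iff_char_two.1 h
    rw [Nat.odd_iff] at hodd
    omega
  refine ⟨Ring.two_ne_zero hchar, Fintype.one_lt_card, fun h => ?_, fun h => ?_⟩
  · rw [FiniteField.isSquare_neg_one_iff]; omega
  · rw [FiniteField.isSquare_neg_one_iff]; omega

theorem v2_card_plus (hodd : Odd (Nat.card F)) (k : ℕ) :
    (Nat.card (O (formPlus F (k + 1)))).factorization 2 =
      1 + (Nat.card F ^ (k + 1) - 1).factorization 2 + k * (Nat.card F ^ 2 - 1).factorization 2 +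
        k.factorial.factorization 2 := by
  obtain ⟨-, hq1, -, -⟩ := field_facts F hodd
  rw [card_O_plus k (formPlus F (k + 1)) (formPlus_nondeg F (k + 1)) (formPlus_frame F (k + 1))
    (formPlus_aniso F (k + 1)) (finrank_formPlus F (k + 1))]
  obtain ⟨h1, h1'⟩ := two_val_oprod hodd hq1 k
  have ha : Nat.card F ^ (k + 1) - 1 ≠ 0 := Nat.sub_ne_zero_of_lt (Nat.one_lt_pow (Nat.succ_ne_zero k) hq1)
  have hp : Nat.card F ^ ((k + 1) * k) ≠ 0 := pow_ne_zero _ (by omega)
  rw [Nat.factorization_mul (mul_ne_zero (mul_ne_zero two_ne_zero hp) ha) h1', Finsupp.add_apply,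
    Nat.factorization_mul (mul_ne_zero two_ne_zero hp) ha, Finsupp.add_apply,
    Nat.factorization_mul two_ne_zero hp, Finsupp.add_apply, Nat.prime_two.factorization_self,
    Nat.factorization_pow, Finsupp.smul_apply,
    Nat.factorization_eq_zero_of_not_dvd (show ¬ 2 ∣ Nat.card F by rw [Nat.odd_iff] at hodd; omega), h1]
  simp only [smul_zero, add_zero]
  ring

theorem v2_card_minus (hodd : Odd (Nat.card F)) (k : ℕ) {a b : F}
    (hab : ∀ z₁ z₂ : F, z₁ ^ 2 + a * z₁ * z₂ + b * z₂ ^ 2 = 0 → z₁ = 0 ∧ z₂ = 0) :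
    (Nat.card (O (formMinus F k a b))).factorization 2 =
      1 + (Nat.card F ^ (k + 1) + 1).factorization 2 + k * (Nat.card F ^ 2 - 1).factorization 2 +
        k.factorial.factorization 2 := by
  obtain ⟨-, hq1, -, -⟩ := field_facts F hodd
  rw [card_O_minus k (formMinus F k a b) (formMinus_nondeg (m := k) hab) (formMinus_frame F k a b)
    (formMinus_aniso F k hab) (finrank_formMinus F k)]
  obtain ⟨h1, h1'⟩ := two_val_oprod hodd hq1 k
  have ha : Nat.card F ^ (k + 1) + 1 ≠ 0 := Nat.succ_ne_zero _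
  have hp : Nat.card F ^ ((k + 1) * k) ≠ 0 := pow_ne_zero _ (by omega)
  rw [Nat.factorization_mul (mul_ne_zero (mul_ne_zero two_ne_zero hp) ha) h1', Finsupp.add_apply,
    Nat.factorization_mul (mul_ne_zero two_ne_zero hp) ha, Finsupp.add_apply,
    Nat.factorization_mul two_ne_zero hp, Finsupp.add_apply, Nat.prime_two.factorization_self,
    Nat.factorization_pow, Finsupp.smul_apply,
    Nat.factorization_eq_zero_of_not_dvd (show ¬ 2 ∣ Nat.card F by rw [Nat.odd_iff] at hodd; omega), h1]
  simp only [smul_zero, add_zero]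
  ring

theorem plane_aniso (hneg : ¬ IsSquare (-1 : F)) :
    ∀ z₁ z₂ : F, z₁ ^ 2 + 0 * z₁ * z₂ + 1 * z₂ ^ 2 = 0 → z₁ = 0 ∧ z₂ = 0 := by
  intro z₁ z₂ h
  by_cases hz : z₂ = 0
  · subst hz; exact ⟨by simpa using h, rfl⟩
  · refine absurd ⟨z₁ / z₂, ?_⟩ hneg
    field_simp
    linear_combination -h

theorem planeForm_eq_ell : Iso (planeForm F) (ellForm (0 : F) 1) :=
  ⟨LinearEquiv.refl F _, fun v => by simp [planeForm_apply, ellForm_apply]⟩

theorem v2_card_plane (hodd : Odd (Nat.card F)) :
    (Nat.card (O (planeForm F))).factorization 2 = (Nat.card F ^ 2 - 1).factorization 2 := by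
  obtain ⟨h2, hq1, hs, hns⟩ := field_facts F hodd
  have hpm := two_val_pm (m := 1) hodd hq1 one_ne_zero
  rw [pow_one, Nat.factorization_one, Finsupp.zero_apply, add_zero] at hpm
  have h4 : Nat.card F % 4 = 1 ∨ Nat.card F % 4 = 3 := by rw [Nat.odd_iff] at hodd; omega
  rcases h4 with h | h
  · obtain ⟨i, hi⟩ := hs h
    rw [card_O_iso (neg_one_square_plane h2 hi.symm), v2_card_plus hodd 0]
    have := hpm.1 h
    simp only [Nat.zero_add, pow_one, zero_mul, add_zero, Nat.factorial_zero, Nat.factorization_one, Finsupp.zero_apply]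
    omega
  · rw [card_O_iso ((planeForm_eq_ell (F := F)).trans ((plus_zero _).symm.trans (minus_eq 0 0 1))),
      v2_card_minus hodd 0 (plane_aniso (hns h))]
    have := hpm.2 h
    simp only [Nat.zero_add, pow_one, zero_mul, add_zero, Nat.factorial_zero, Nat.factorization_one, Finsupp.zero_apply]
    omega

/-- The model with planes `x² + y²`. -/
theorem planes_sqProp {R : Type*} [AddCommGroup R] [Module F R] [FiniteDimensional F R] (hodd : Odd (Nat.card F))
    (n : ℕ) (hn : 2 ≤ n) (QR : QuadraticForm F R) (hR : Nondeg QR)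
    (hdim : finrank F R ≤ 2) (hR0 : Subsingleton R ∨ ∃ r, QR r ≠ 0)
    (hcard : (Nat.card (O ((planes F n).prod QR))).factorization 2 ≤
      n * (Nat.card F ^ 2 - 1).factorization 2 + n.factorial.factorization 2 + (Nat.card (O QR)).factorization 2) :
    SqProp (commutator (O ((planes F n).prod QR))) := by
  obtain ⟨h2, -, -, -⟩ := field_facts F hodd
  refine model_sqProp n (planeForm F) QR (planeForm_nondeg h2) hR h2 hn (Module.finrank_fin_fun F)
    (e₀ := ![1, 0]) (e₁ := ![0, 1]) (by simp [planeForm_apply]) (by simp [planeForm_apply])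
    (by simp [polar_planeForm]) (fun w => ⟨w 0, w 1, by funext k; fin_cases k <;> simp⟩)
    (by simp [planeForm_apply]) (fun g hg => ?_) hR0 ?_
  · rcases (show finrank F R = 0 ∨ finrank F R = 1 ∨ finrank F R = 2 by omega) with h | h | h
    · haveI : Subsingleton R := Module.finrank_zero_iff.1 h
      exact refl_dim_zero hR h2 g hg
    · exact refl_dim_one hR h2 h g hg
    · exact hR.plane_neg_refl h h2 g hg
  · rw [v2_card_plane hodd]
    exact hcard

theorem pow_mod_four {q : ℕ} (m : ℕ) :
    (q % 4 = 1 → q ^ m % 4 = 1) ∧ (q % 4 = 3 → (Even m → q ^ m % 4 = 1) ∧ (Odd m → q ^ m % 4 = 3)) := by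
  refine ⟨fun h => by rw [Nat.pow_mod, h, one_pow, Nat.one_mod], fun h => ⟨fun he => ?_, fun ho => ?_⟩⟩
  · obtain ⟨j, rfl⟩ := he
    rw [Nat.pow_mod, h, ← two_mul, pow_mul, Nat.pow_mod]
    norm_num
  · obtain ⟨j, rfl⟩ := ho
    rw [Nat.pow_mod, h, pow_succ, pow_mul, Nat.mul_mod, Nat.pow_mod]
    norm_num

omit [Finite F] in
theorem val_fact {k : ℕ} :
    (k + 1).factorization 2 + k.factorial.factorization 2 = (k + 1).factorial.factorization 2 := by
  rw [Nat.factorial_succ, Nat.factorization_mul (Nat.succ_ne_zero k) k.factorial_ne_zero, Finsupp.add_apply]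

theorem omega_odd (hodd : Odd (Nat.card F)) (m : ℕ) (hm : 2 ≤ m) : SqProp (Cfsg.Omega F (⇑(formOdd F m))) := by
  obtain ⟨h2, hq1, hs, hns⟩ := field_facts F hodd
  -- `n` planes and a line
  let QR : QuadraticForm F (Fin 1 → F) := QuadraticMap.proj 0 0
  have hQR : ∀ v, QR v = v 0 * v 0 := fun v => rfl
  have hR : Nondeg QR := by
    intro x hx
    funext i
    obtain rfl : i = 0 := Subsingleton.elim _ _
    have := hx ![1]
    simp only [polar, hQR, Pi.add_apply, Matrix.cons_val_zero] at this
    have h : (2 : F) * x 0 = 0 := by linear_combination this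
    exact (mul_eq_zero.1 h).resolve_left h2
  set Q₀ := (planes F m).prod QR
  have hQ₀ : Nondeg Q₀ := sumForm_nondeg m (planeForm F) QR (planeForm_nondeg h2) hR
  have hdim : finrank F ((Fin m → Fin 2 → F) × (Fin 1 → F)) = 2 * m + 1 := by
    simp [Module.finrank_prod, Module.finrank_pi_fintype]; ring
  obtain ⟨-, α, E, hα, hE⟩ := hQ₀.classify_odd hdim
  let e : (Unit ⊕ (Fin m ⊕ Fin m) → F) ≃ₗ[F] ((Fin m → Fin 2 → F) × (Fin 1 → F)) := E
  -- similar forms have the same isometry group
  have hO : ∀ g, g ∈ O (α • formOdd F m) ↔ g ∈ O (formOdd F m) := fun g => by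
    simp [mem_O, hα]
  have hO' : O (α • formOdd F m) = O (formOdd F m) := Subgroup.ext hO
  have hiso : Iso Q₀ (α • formOdd F m) := ⟨E.symm, fun x => by
    rw [QuadraticMap.smul_apply, smul_eq_mul, ← hE, LinearEquiv.apply_symm_apply]⟩
  haveI := finite_O' Q₀
  haveI := finite_O' (formOdd F m)
  haveI := finite_O' (α • formOdd F m)
  haveI : Finite (Cfsg.isometryGroup F (⇑(formOdd F m))) := Finite.of_equiv _ (toO (formOdd F m)).symm.toEquiv
  have hcard : Nat.card (O Q₀) = 2 * Nat.card F ^ (m ^ 2) * oprod (Nat.card F) m := by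
    rw [card_O_iso hiso, hO', card_O_odd m (formOdd F m) (formOdd_nondeg F m h2) (formOdd_frame F m)
      (formOdd_aniso F m) (finrank_formOdd F m)]
  have hs1 : SqProp (commutator (O Q₀)) := by
    refine planes_sqProp hodd m hm QR hR (by simp) (Or.inr ⟨![1], by simp [hQR]⟩) ?_
    rw [hcard]
    obtain ⟨h1, h1'⟩ := two_val_oprod hodd hq1 m
    have hp : Nat.card F ^ (m ^ 2) ≠ 0 := pow_ne_zero _ (by omega)
    rw [Nat.factorization_mul (mul_ne_zero two_ne_zero hp) h1', Finsupp.add_apply,
      Nat.factorization_mul two_ne_zero hp, Finsupp.add_apply, Nat.prime_two.factorization_self,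
      Nat.factorization_pow, Finsupp.smul_apply,
      Nat.factorization_eq_zero_of_not_dvd (show ¬ 2 ∣ Nat.card F by rw [Nat.odd_iff] at hodd; omega), h1]
    haveI := finite_O' QR
    have h2dvd : 2 ∣ Nat.card (O QR) := by
      have hord : orderOf (rO QR ![1]) = 2 := orderOf_eq_prime (by rw [pow_two]; exact rO_mul_self QR _) (fun e => by
        have := congrArg (detSign QR hR h2) e
        rw [detSign_rO hR h2 (by simp [hQR]), map_one] at this
        exact absurd this (by decide))
      rw [← hord]; exact orderOf_dvd_natCard _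
    have := Nat.prime_two.factorization_pos_of_dvd Nat.card_pos.ne' h2dvd
    simp only [smul_zero, add_zero]
    omega
  let f : O Q₀ ≃* O (formOdd F m) :=
    (congrO hiso.choose hiso.choose_spec).trans (MulEquiv.subgroupCongr hO')
  have he : (commutator (O Q₀)).map f.toMonoidHom = commutator (O (formOdd F m)) := by
    rw [commutator_def, commutator_def, Subgroup.map_commutator, Subgroup.map_top_of_surjective _ f.surjective]
  exact (hs1.congr ((f.subgroupMap _).trans (MulEquiv.subgroupCongr he))).congr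
    (((toO (formOdd F m)).subgroupMap _).trans (MulEquiv.subgroupCongr (toO_map_omega (formOdd F m)))).symm

theorem prod_plus_zero {V : Type*} [AddCommGroup V] [Module F V] (Q : QuadraticForm F V) :
    Iso (Q.prod (formPlus F 0)) Q :=
  (iso_comm _ _).trans (plus_zero Q)

theorem omega_plus (hodd : Odd (Nat.card F)) (k : ℕ) (hk : 1 ≤ k) (hk' : Odd k ∨ 2 ≤ k) :
    SqProp (Cfsg.Omega F (⇑(formPlus F (k + 1)))) := by
  obtain ⟨h2, hq1, hs, hns⟩ := field_facts F hodd
  have hpm := two_val_pm (m := k + 1) hodd hq1 (Nat.succ_ne_zero k)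
  have h4 : Nat.card F % 4 = 1 ∨ Nat.card F % 4 = 3 := by rw [Nat.odd_iff] at hodd; omega
  have hv := v2_card_plus hodd k
  have hf := val_fact (k := k)
  by_cases hmatch : Nat.card F % 4 = 1 ∨ Odd k
  · have hplanes : Iso (planes F (k + 1)) (formPlus F (k + 1)) := by
      rcases hmatch with h | ⟨j, rfl⟩
      · obtain ⟨i, hi⟩ := hs h
        exact planes_plus_of_square h2 hi.symm _
      · exact (show 2 * j + 1 + 1 = 2 * (j + 1) by ring) ▸ planes_plus_even h2 (j + 1)
    have hiso : Iso ((planes F (k + 1)).prod (formPlus F 0)) (formPlus F (k + 1)) :=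
      (prod_plus_zero _).trans hplanes
    refine sqProp_omega _ hiso (planes_sqProp hodd (k + 1) (by omega) _ (formPlus_nondeg F 0) (by simp)
      (Or.inl inferInstance) ?_)
    rw [card_O_iso hiso, hv]
    have hmod : Nat.card F ^ (k + 1) % 4 = 1 := by
      rcases h4 with h | h
      · exact (pow_mod_four _).1 h
      · exact ((pow_mod_four _).2 h).1 (((hmatch.resolve_left (by omega)).add_one))
    have := (hpm.1 hmod).2
    rw [add_mul, one_mul]
    omega
  · rw [not_or, Nat.not_odd_iff_even] at hmatch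
    obtain ⟨hne, j, rfl⟩ := hmatch
    have h : Nat.card F % 4 = 3 := h4.resolve_left hne
    have hplanes : Iso (planes F (j + j)) (formPlus F (j + j)) := two_mul j ▸ planes_plus_even h2 j
    have hiso : Iso ((planes F (j + j)).prod (formPlus F 1)) (formPlus F (j + j + 1)) :=
      (hplanes.prod (Iso.refl _)).trans (plus_add _ 1)
    refine sqProp_omega _ hiso (planes_sqProp hodd (j + j) (by omega) _ (formPlus_nondeg F 1) (by simp)
      (Or.inr ⟨fun _ => 1, by simp [formPlus_apply]⟩) ?_)
    rw [card_O_iso hiso, hv, v2_card_plus hodd 0]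
    have := (hpm.2 (((pow_mod_four _).2 h).2 ⟨j, by ring⟩)).1
    have h1 := ((two_val_pm (m := 1) hodd hq1 one_ne_zero).2 (by rwa [pow_one])).1
    simp only [Nat.zero_add, pow_one, zero_mul, add_zero, Nat.factorial_zero, Nat.factorization_one, Finsupp.zero_apply] at h1 ⊢
    omega

theorem omega_minus (hodd : Odd (Nat.card F)) (k : ℕ) (hk : 3 ≤ k) {a b : F}
    (hab : ∀ z₁ z₂ : F, z₁ ^ 2 + a * z₁ * z₂ + b * z₂ ^ 2 = 0 → z₁ = 0 ∧ z₂ = 0) :
    SqProp (Cfsg.Omega F (⇑(formMinus F k a b))) := by
  obtain ⟨h2, hq1, hs, hns⟩ := field_facts F hodd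
  have hpm := two_val_pm (m := k + 1) hodd hq1 (Nat.succ_ne_zero k)
  have hv := v2_card_minus hodd k hab
  have hf := val_fact (k := k)
  have hp1 := two_val_pm (m := 1) hodd hq1 one_ne_zero
  rw [pow_one] at hp1
  have h4 : Nat.card F % 4 = 1 ∨ Nat.card F % 4 = 3 := by rw [Nat.odd_iff] at hodd; omega
  rcases h4 with h | h
  · -- split planes and an elliptic plane
    obtain ⟨i, hi⟩ := hs h
    have hiso : Iso ((planes F k).prod (ellForm a b)) (formMinus F k a b) :=
      ((planes_plus_of_square h2 hi.symm k).prod (Iso.refl _)).trans (minus_eq k a b)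
    have hell : Iso (ellForm a b) (formMinus F 0 a b) := (plus_zero _).symm.trans (minus_eq 0 a b)
    refine sqProp_omega _ hiso (planes_sqProp hodd k (by omega) _ (nondeg_iso hell.symm (formMinus_nondeg (m := 0) hab))
      (by simp) (Or.inr ⟨![1, 0], by simp [ellForm_apply]⟩) ?_)
    rw [card_O_iso hiso, hv, card_O_iso hell, v2_card_minus hodd 0 hab]
    have := (hpm.1 ((pow_mod_four _).1 h)).1
    have := (hp1.1 h).1
    simp only [Nat.zero_add, pow_one, zero_mul, add_zero, Nat.factorial_zero, Nat.factorization_one, Finsupp.zero_apply]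
    omega
  · have hell : Iso (planeForm F) (ellForm a b) := ell_iso_plane h2 (hns h) hab
    rcases Nat.even_or_odd k with ⟨j, rfl⟩ | ⟨j, rfl⟩
    · have hplanes : Iso (planes F (j + j)) (formPlus F (j + j)) := two_mul j ▸ planes_plus_even h2 j
      have hiso : Iso ((planes F (j + j + 1)).prod (formPlus F 0)) (formMinus F (j + j) a b) :=
        (prod_plus_zero _).trans ((planes_succ _).trans ((iso_comm _ _).trans
          ((hplanes.prod hell).trans (minus_eq _ a b))))
      refine sqProp_omega _ hiso (planes_sqProp hodd (j + j + 1) (by omega) _ (formPlus_nondeg F 0) (by simp)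
        (Or.inl inferInstance) ?_)
      rw [card_O_iso hiso, hv]
      have := (hpm.2 (((pow_mod_four _).2 h).2 ⟨j, by ring⟩)).2
      simp only [add_mul, one_mul]
      omega
    · have hplanes : Iso (planes F (2 * j)) (formPlus F (2 * j)) := planes_plus_even h2 j
      have hiso : Iso ((planes F (2 * j + 1)).prod (formPlus F 1)) (formMinus F (2 * j + 1) a b) :=
        (((planes_succ _).trans (hell.prod hplanes)).prod (Iso.refl _)).trans ((iso_assoc _ _ _).trans
          (((Iso.refl _).prod (plus_add _ 1)).trans ((iso_comm _ _).trans (minus_eq _ a b))))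
      refine sqProp_omega _ hiso (planes_sqProp hodd (2 * j + 1) (by omega) _ (formPlus_nondeg F 1) (by simp)
        (Or.inr ⟨fun _ => 1, by simp [formPlus_apply]⟩) ?_)
      rw [card_O_iso hiso, hv, v2_card_plus hodd 0]
      have := (hpm.1 (((pow_mod_four _).2 h).1 ⟨j + 1, by ring⟩)).1
      have := (hp1.2 h).1
      simp only [Nat.zero_add, pow_one, zero_mul, add_zero, Nat.factorial_zero, Nat.factorization_one, Finsupp.zero_apply]
      omega

end Cfsg.Agent.H87.OrthSyl
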