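import Cfsg.Agent.H87.OrthSqGen
import Cfsg.Agent.Orthogonal.Index2
import Cfsg.Agent.Orthogonal.Spinor
import Cfsg.Agent.Orthogonal.StdForms

/-! Sylow 2-subgroups of an orthogonal sum of copies of a plane and a small space. -/

set_option autoImplicit false

namespace Cfsg.Agent.H87.OrthSyl

open QuadraticMap Module Cfsg.Agent.Orthogonal

variable {F W R : Type*} [Field F] [Finite F] [AddCommGroup W] [Module F W]
  [FiniteDimensional F W] [AddCommGroup R] [Module F R] [FiniteDimensional F R]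
variable (n : ℕ) (QW : QuadraticForm F W) (QR : QuadraticForm F R)

/-- The orthogonal sum of `n` copies of `QW` and of `QR`. -/
noncomputable def sumForm : QuadraticForm F ((Fin n → W) × R) := (QuadraticMap.pi fun _ => QW).prod QR

theorem sumForm_apply (x : (Fin n → W) × R) : sumForm n QW QR x = (∑ i, QW (x.1 i)) + QR x.2 := by
  simp [sumForm, QuadraticMap.prod_apply, QuadraticMap.pi_apply]

theorem polar_sumForm (x y : (Fin n → W) × R) :
    polar (sumForm n QW QR) x y = (∑ i, polar QW (x.1 i) (y.1 i)) + polar QR x.2 y.2 := by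
  simp only [polar, sumForm_apply, Prod.fst_add, Prod.snd_add, Pi.add_apply, Finset.sum_sub_distrib]
  ring

theorem sumForm_nondeg (hW : Nondeg QW) (hR : Nondeg QR) : Nondeg (sumForm n QW QR) := by
  classical
  intro x hx
  refine Prod.ext (funext fun i => hW _ fun y => ?_) (hR _ fun y => ?_)
  · have := hx (Pi.single i y, 0)
    rw [polar_sumForm, Finset.sum_eq_single i] at this
    · simpa [QuadraticMap.polar_zero_right] using this
    · intro j _ hj
      simp [Pi.single_eq_of_ne hj, QuadraticMap.polar_zero_right]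
    · simp
  · simpa [polar_sumForm, QuadraticMap.polar_zero_right] using hx (0, y)

/-- Blockwise isometries. -/
noncomputable def base : (Fin n → O QW) × O QR →* O (sumForm n QW QR) where
  toFun g := ⟨(LinearEquiv.piCongrRight fun i => (g.1 i : W ≃ₗ[F] W)).prodCongr (g.2 : R ≃ₗ[F] R), fun x => by
    simp [sumForm_apply, O.map_app]⟩
  map_one' := O.ext_app fun x => rfl
  map_mul' g h := O.ext_app fun x => by
    refine Prod.ext (funext fun i => ?_) ?_ <;> simp

theorem base_app (g : (Fin n → O QW) × O QR) (x : (Fin n → W) × R) :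
    (base n QW QR g : ((Fin n → W) × R) ≃ₗ[F] ((Fin n → W) × R)) x =
      (fun i => (g.1 i : W ≃ₗ[F] W) (x.1 i), (g.2 : R ≃ₗ[F] R) x.2) := rfl

/-- Permutations of the copies. -/
noncomputable def permO : Equiv.Perm (Fin n) →* O (sumForm n QW QR) where
  toFun σ := ⟨(LinearEquiv.funCongrLeft F W σ.symm).prodCongr (LinearEquiv.refl F R), fun x => by
    simp only [sumForm_apply, LinearEquiv.prodCongr_apply, LinearEquiv.funCongrLeft_apply, LinearEquiv.refl_apply]
    congr 1
    exact Equiv.sum_comp σ.symm (fun i => QW (x.1 i))⟩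
  map_one' := O.ext_app fun x => rfl
  map_mul' σ τ := O.ext_app fun x => by
    refine Prod.ext (funext fun i => ?_) ?_ <;>
      simp [LinearEquiv.funCongrLeft_apply, Equiv.Perm.mul_def, LinearMap.funLeft_apply]

theorem permO_app (σ : Equiv.Perm (Fin n)) (x : (Fin n → W) × R) :
    (permO n QW QR σ : ((Fin n → W) × R) ≃ₗ[F] ((Fin n → W) × R)) x = (fun i => x.1 (σ.symm i), x.2) := rfl

theorem permO_conj (σ : Equiv.Perm (Fin n)) (g : (Fin n → O QW) × O QR) :
    permO n QW QR σ * base n QW QR g = base n QW QR (fun i => g.1 (σ.symm i), g.2) * permO n QW QR σ := by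
  refine O.ext_app fun x => ?_
  simp only [Subgroup.coe_mul, mul_app, base_app, permO_app]

theorem single_sum (i : Fin n) (w : W) (f : W → F) (hf : f 0 = 0) :
    ∑ j, f ((Pi.single i w : Fin n → W) j) = f w := by
  rw [Finset.sum_eq_single i]
  · simp
  · intro j _ hj; simp [Pi.single_eq_of_ne hj, hf]
  · simp

theorem rO_left (i : Fin n) (b : W) :
    base n QW QR (Pi.mulSingle i (rO QW b), 1) = rO (sumForm n QW QR) (Pi.single i b, 0) := by
  refine O.ext_app fun x => ?_
  rw [base_app, rO_app, sumForm_apply, polar_sumForm]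
  have hp : ∑ j, polar QW ((Pi.single i b : Fin n → W) j) (x.1 j) = polar QW b (x.1 i) := by
    rw [Finset.sum_eq_single i]
    · simp
    · intro j _ hj; simp [Pi.single_eq_of_ne hj, QuadraticMap.polar_zero_left]
    · simp
  simp only [hp, QuadraticMap.polar_zero_left, QuadraticMap.map_zero, add_zero,
    single_sum n i b QW (QuadraticMap.map_zero QW)]
  refine Prod.ext (funext fun j => ?_) (by simp)
  rcases eq_or_ne j i with rfl | hj
  · simp [rO_app]
  · simp [Pi.mulSingle_eq_of_ne hj, Pi.single_eq_of_ne hj]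

theorem rO_right (b : R) : base n QW QR (1, rO QR b) = rO (sumForm n QW QR) (0, b) := by
  refine O.ext_app fun x => ?_
  rw [base_app, rO_app (Q := sumForm n QW QR), sumForm_apply, polar_sumForm]
  refine Prod.ext (funext fun i => ?_) ?_ <;> simp [rO_app, QuadraticMap.polar_zero_left]

/-- Determinant sign and spinor norm together. -/
noncomputable def chi {V : Type*} [AddCommGroup V] [Module F V] [FiniteDimensional F V]
    (Q : QuadraticForm F V) (hQ : Nondeg Q) (h2 : (2 : F) ≠ 0) : O Q →* ℤˣ × ℤˣ :=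
  (detSign Q hQ h2).prod (spinor Q hQ h2)

theorem chi_rO {V : Type*} [AddCommGroup V] [Module F V] [FiniteDimensional F V]
    {Q : QuadraticForm F V} (hQ : Nondeg Q) (h2 : (2 : F) ≠ 0) {v : V} (hv : Q v ≠ 0) :
    chi Q hQ h2 (rO Q v) = (-1, sqSign (Q v)) :=
  Prod.ext (detSign_rO hQ h2 hv) (spinor_rO hQ h2 hv)

theorem chi_ker {V : Type*} [AddCommGroup V] [Module F V] [FiniteDimensional F V]
    {Q : QuadraticForm F V} (hQ : Nondeg Q) (h2 : (2 : F) ≠ 0) : (chi Q hQ h2).ker = commutator (O Q) := by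
  ext g
  rw [mem_commutator_iff hQ h2, MonoidHom.mem_ker]
  exact Prod.ext_iff

theorem units_pair_sq (u : ℤˣ × ℤˣ) : u ^ 2 = 1 :=
  Prod.ext (Int.units_sq u.1) (Int.units_sq u.2)

/-- A homomorphism onto a 2-group is onto on every Sylow 2-subgroup. -/
theorem sylow_surj {G M : Type*} [Group G] [Finite G] [Group M] (f : G →* M) (hf : Function.Surjective f)
    (hM : IsPGroup 2 M) (T : Sylow 2 G) : ∀ m, ∃ t ∈ (T : Subgroup G), f t = m := by
  haveI : Finite M := Finite.of_surjective f hf
  intro m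
  let T' := T.mapSurjective hf
  have h : (T' : Subgroup M) = ⊤ := by
    obtain ⟨k, hk⟩ := hM.exists_card_eq
    refine Subgroup.eq_top_of_card_eq _ ?_
    rw [T'.card_eq_multiplicity, hk, Nat.Prime.factorization_pow Nat.prime_two, Finsupp.single_eq_same]
  have hm : m ∈ (T' : Subgroup M) := h ▸ Subgroup.mem_top m
  rw [Sylow.coe_mapSurjective] at hm
  exact hm

theorem det_closure {G : Type*} [Group G] (d : G →* ℤˣ) (T : Subgroup G)
    (h : (∀ t ∈ T, t = 1) ∨ ∃ t ∈ T, d t = -1) :
    T ≤ Subgroup.closure {t | t ∈ T ∧ d t = -1} := by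
  intro t ht
  rcases h with h | ⟨a, ha, hda⟩
  · rw [h t ht]; exact one_mem _
  rcases Int.units_eq_one_or (d t) with h1 | h1
  · have h2 : a⁻¹ * t ∈ T ∧ d (a⁻¹ * t) = -1 := ⟨mul_mem (inv_mem ha) ht, by rw [map_mul, map_inv, hda, h1]; rfl⟩
    simpa using mul_mem (Subgroup.subset_closure (show a ∈ {t | t ∈ T ∧ d t = -1} from ⟨ha, hda⟩))
      (Subgroup.subset_closure h2)
  · exact Subgroup.subset_closure ⟨ht, h1⟩

theorem finite_O' {V : Type*} [AddCommGroup V] [Module F V] [FiniteDimensional F V] (Q : QuadraticForm F V) :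
    Finite (O Q) := by
  have : Finite V := Module.finite_of_finite F
  have : Finite (V ≃ₗ[F] V) := Finite.of_injective (fun g => (g : V → V)) DFunLike.coe_injective
  infer_instance

/-- The main statement: squares in the derived group for the model. -/
theorem model_sqProp (hW : Nondeg QW) (hR : Nondeg QR) (h2 : (2 : F) ≠ 0) (hn : 2 ≤ n)
    (hW2 : finrank F W = 2) {e₀ e₁ : W} (he₀ : QW e₀ ≠ 0) (he₁ : QW e₁ ≠ 0)
    (he : polar QW e₀ e₁ = 0) (hspan : ∀ w, ∃ a c : F, w = a • e₀ + c • e₁)
    (hdisc : IsSquare (QW e₀ * QW e₁))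
    (hRrefl : ∀ g : O QR, detSign QR hR h2 g = -1 → ∃ b, QR b ≠ 0 ∧ g = rO QR b)
    (hR0 : Subsingleton R ∨ ∃ r, QR r ≠ 0)
    (hcard : (Nat.card (O (sumForm n QW QR))).factorization 2 ≤
      n * (Nat.card (O QW)).factorization 2 + n.factorial.factorization 2 + (Nat.card (O QR)).factorization 2) :
    SqProp (commutator (O (sumForm n QW QR))) := by
  classical
  haveI := finite_O' QW
  haveI := finite_O' QR
  set Q := sumForm n QW QR with hQdef
  haveI := finite_O' Q
  have hQ : Nondeg Q := sumForm_nondeg n QW QR hW hR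
  set φ := chi Q hQ h2 with hφ
  obtain ⟨TW⟩ : Nonempty (Sylow 2 (O QW)) := inferInstance
  obtain ⟨TR⟩ : Nonempty (Sylow 2 (O QR)) := inferInstance
  obtain ⟨SP, Y, hY, hYgen⟩ := exists_sylow_perm n
  let B0 : Subgroup ((Fin n → O QW) × O QR) :=
    (Subgroup.pi Set.univ fun _ => (TW : Subgroup (O QW))).prod (TR : Subgroup (O QR))
  let B := B0.map (base n QW QR)
  let Sn := (SP : Subgroup (Equiv.Perm (Fin n))).map (permO n QW QR)
  -- the permutations normalise the base
  have hnorm : Sn ≤ Subgroup.normalizer (B : Set (O Q)) := by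
    rintro _ ⟨σ, hσ, rfl⟩
    have key : ∀ τ : Equiv.Perm (Fin n), ∀ b ∈ B, permO n QW QR τ * b * (permO n QW QR τ)⁻¹ ∈ B := by
      rintro τ _ ⟨g, hg, rfl⟩
      rw [permO_conj, mul_inv_cancel_right]
      refine ⟨_, ?_, rfl⟩
      have hg1 := (Subgroup.mem_prod.1 hg).1
      exact Subgroup.mem_prod.2 ⟨fun i _ => hg1 (τ.symm i) (Set.mem_univ _), (Subgroup.mem_prod.1 hg).2⟩
    rw [Subgroup.mem_normalizer_iff]
    intro b
    refine ⟨key σ b, fun h => ?_⟩
    have := key σ⁻¹ _ h
    simpa [map_inv, mul_assoc] using this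
  set T := B ⊔ Sn with hT
  have hTp : IsPGroup 2 T := by
    have hB0 : IsPGroup 2 B0 := by
      intro x
      have hx := Subgroup.mem_prod.1 x.2
      choose k hk using fun i => TW.2 ⟨x.1.1 i, hx.1 i (Set.mem_univ _)⟩
      obtain ⟨l, hl⟩ := TR.2 ⟨x.1.2, hx.2⟩
      refine ⟨(∑ i, k i) + l, Subtype.ext (Prod.ext (funext fun i => ?_) ?_)⟩
      · have h1 : (x.1.1 i) ^ 2 ^ k i = 1 := congrArg Subtype.val (hk i)
        have h3 : 2 ^ k i ∣ 2 ^ ((∑ i, k i) + l) :=
          pow_dvd_pow 2 ((Finset.single_le_sum (fun j _ => Nat.zero_le (k j)) (Finset.mem_univ i)).trans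
            (Nat.le_add_right _ _))
        obtain ⟨c, hc⟩ := h3
        simp only [Subgroup.coe_pow, Prod.pow_fst, Pi.pow_apply, Subgroup.coe_one, Prod.fst_one, Pi.one_apply]
        rw [hc, pow_mul, h1, one_pow]
      · have h1 : (x.1.2) ^ 2 ^ l = 1 := congrArg Subtype.val hl
        simp only [Subgroup.coe_pow, Prod.pow_snd, Subgroup.coe_one, Prod.snd_one]
        rw [pow_add, mul_comm, pow_mul, h1, one_pow]
    exact IsPGroup.to_sup_of_normal_left' (hB0.map _) (SP.2.map _) hnorm
  -- the order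
  have hinjB : Function.Injective (base n QW QR) := by
    intro g h e
    refine Prod.ext (funext fun i => O.ext_app fun w => ?_) (O.ext_app fun r => ?_)
    · have := congrArg (fun f : O Q => ((f : ((Fin n → W) × R) ≃ₗ[F] ((Fin n → W) × R)) (Pi.single i w, 0)).1 i) e
      simpa [base_app] using this
    · have := congrArg (fun f : O Q => ((f : ((Fin n → W) × R) ≃ₗ[F] ((Fin n → W) × R)) (0, r)).2) e
      simpa [base_app] using this
  have hinj : Function.Injective (fun p : B0 × (SP : Subgroup (Equiv.Perm (Fin n))) =>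
      (⟨base n QW QR p.1 * permO n QW QR p.2, mul_mem (Subgroup.mem_sup_left ⟨_, p.1.2, rfl⟩)
        (Subgroup.mem_sup_right ⟨_, p.2.2, rfl⟩)⟩ : T)) := by
    rintro ⟨g, σ⟩ ⟨h, τ⟩ e
    have e' : base n QW QR g * permO n QW QR σ = base n QW QR h * permO n QW QR τ := congrArg Subtype.val e
    have hστ : (σ : Equiv.Perm (Fin n)) = τ := by
      ext j
      by_contra hne
      have := congrArg (fun f : O Q => ((f : ((Fin n → W) × R) ≃ₗ[F] ((Fin n → W) × R)) (Pi.single j e₀, 0)).1
        ((σ : Equiv.Perm (Fin n)) j)) e'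
      simp only [Subgroup.coe_mul, mul_app, base_app, permO_app, Equiv.symm_apply_apply, Pi.single_eq_same] at this
      rw [Pi.single_eq_of_ne (fun hh => hne (by rw [← Fin.ext_iff]; exact (Equiv.symm_apply_eq _).1 hh)),
        map_zero] at this
      exact he₀ (by rw [(LinearEquiv.map_eq_zero_iff _).1 this, QuadraticMap.map_zero])
    rw [hστ] at e'
    exact Prod.ext (Subtype.ext (hinjB (mul_right_cancel e'))) (Subtype.ext hστ)
  obtain ⟨T', hT'⟩ := hTp.exists_le_sylow
  have hTeq : (T' : Subgroup (O Q)) = T := by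
    refine (Subgroup.eq_of_le_of_card_ge hT' ?_).symm
    have h1 := Nat.card_le_card_of_injective _ hinj
    rw [Nat.card_prod] at h1
    refine le_trans ?_ h1
    have hB0 : Nat.card B0 = Nat.card (TW : Subgroup (O QW)) ^ n * Nat.card (TR : Subgroup (O QR)) := by
      rw [Nat.card_congr (Subgroup.prodEquiv _ _).toEquiv, Nat.card_prod]
      congr 1
      have e : (Subgroup.pi Set.univ fun _ : Fin n => (TW : Subgroup (O QW))) ≃
          (Fin n → (TW : Subgroup (O QW))) :=
        { toFun := fun f i => ⟨f.1 i, f.2 i (Set.mem_univ _)⟩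
          invFun := fun f => ⟨fun i => f i, fun i _ => (f i).2⟩
          left_inv := fun f => rfl
          right_inv := fun f => rfl }
      rw [Nat.card_congr e, Nat.card_pi, Finset.prod_const, Finset.card_univ, Fintype.card_fin]
    rw [hB0, T'.card_eq_multiplicity, TW.card_eq_multiplicity, TR.card_eq_multiplicity,
      SP.card_eq_multiplicity, Nat.card_perm, Nat.card_eq_fintype_card (α := Fin n), Fintype.card_fin,
      ← pow_mul, ← pow_add, ← pow_add]
    refine Nat.pow_le_pow_right two_pos ?_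
    rw [mul_comm _ n]
    exact hcard.trans (le_of_eq (add_right_comm _ _ _))
  -- the generators
  let XW : Fin n → Set (O Q) := fun i =>
    (fun t => base n QW QR (Pi.mulSingle i t, 1)) '' {t | t ∈ (TW : Subgroup (O QW)) ∧ detSign QW hW h2 t = -1}
  let XR : Set (O Q) :=
    (fun t => base n QW QR (1, t)) '' {t | t ∈ (TR : Subgroup (O QR)) ∧ detSign QR hR h2 t = -1}
  let X : Set (O Q) := (⋃ i, XW i) ∪ XR
  let S : Set (O Q) := permO n QW QR '' Y
  have hXW : ∀ i, ∀ x ∈ XW i, ∃ b, QW b ≠ 0 ∧ x = rO Q (Pi.single i b, 0) ∧ φ x = (-1, sqSign (QW b)) := by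
    rintro i _ ⟨t, ⟨-, hdt⟩, rfl⟩
    obtain ⟨b, hb, rfl⟩ := hW.plane_neg_refl hW2 h2 t hdt
    dsimp only
    have hv : Q (Pi.single i b, 0) = QW b := by
      rw [hQdef, sumForm_apply, single_sum n i b QW (QuadraticMap.map_zero QW)]; simp
    have hx := rO_left n QW QR i b
    exact ⟨b, hb, hx, by rw [hx, hφ, chi_rO hQ h2 (by rw [hv]; exact hb), hv]⟩
  have hXR : ∀ x ∈ XR, ∃ b, QR b ≠ 0 ∧ x = rO Q (0, b) ∧ φ x = (-1, sqSign (QR b)) := by
    rintro _ ⟨t, ⟨-, hdt⟩, rfl⟩
    obtain ⟨b, hb, rfl⟩ := hRrefl t hdt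
    dsimp only
    have hv : Q ((0 : Fin n → W), b) = QR b := by
      rw [hQdef, sumForm_apply]; simp
    exact ⟨b, hb, rO_right n QW QR b, by
      rw [rO_right, hφ, chi_rO hQ h2 (by rw [hv]; exact hb), hv]⟩
  have hinvX : ∀ x ∈ X, x * x = 1 := by
    rintro x (hx | hx)
    · obtain ⟨i, hi⟩ := Set.mem_iUnion.1 hx
      obtain ⟨b, -, rfl, -⟩ := hXW i x hi
      exact rO_mul_self Q _
    · obtain ⟨b, -, rfl, -⟩ := hXR x hx
      exact rO_mul_self Q _
  have hcomm : ∀ i, ∀ x ∈ XW i, ∀ y ∈ X, y ∉ XW i → x * y = y * x := by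
    rintro i _ ⟨t, -, rfl⟩ y hy hyi
    rcases hy with hy | ⟨u, -, rfl⟩
    · obtain ⟨j, hj⟩ := Set.mem_iUnion.1 hy
      have hij : i ≠ j := fun e => hyi (e ▸ hj)
      obtain ⟨u, -, rfl⟩ := hj
      dsimp only
      rw [← map_mul, ← map_mul]
      congr 1
      refine Prod.ext (funext fun k => ?_) rfl
      rcases eq_or_ne k i with rfl | hk
      · simp [Pi.mulSingle_eq_of_ne hij]
      · simp [Pi.mulSingle_eq_of_ne hk]
    · dsimp only
      rw [← map_mul, ← map_mul]
      congr 1
  -- both classes occur in every block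
  have hsurjW : ∀ (i : Fin n) (u : ℤˣ), ∃ x ∈ XW i, φ x = (-1, u) := by
    intro i u
    have hs : Function.Surjective (chi QW hW h2) := by
      rintro ⟨c, d⟩
      obtain ⟨ν, hν⟩ := exists_not_isSquare h2
      have hν0 : ν ≠ 0 := fun h => hν (by rw [h]; exact IsSquare.zero)
      obtain ⟨v, hv⟩ := hW.exists_value hW2.ge 1
      obtain ⟨w, hw⟩ := hW.exists_value hW2.ge ν
      have h1 : chi QW hW h2 (rO QW v) = (-1, 1) := by
        rw [chi_rO hW h2 (by rw [hv]; exact one_ne_zero), hv, sqSign_of_isSquare IsSquare.one]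
      have h3 : chi QW hW h2 (rO QW w) = (-1, -1) := by
        rw [chi_rO hW h2 (by rw [hw]; exact hν0), hw, sqSign_of_not_isSquare hν]
      rcases Int.units_eq_one_or c with rfl | rfl <;> rcases Int.units_eq_one_or d with rfl | rfl
      · exact ⟨1, map_one _⟩
      · exact ⟨rO QW v * rO QW w, by rw [map_mul, h1, h3]; rfl⟩
      · exact ⟨_, h1⟩
      · exact ⟨_, h3⟩
    obtain ⟨t, ht, htu⟩ := sylow_surj (chi QW hW h2) hs (fun x => ⟨1, by rw [pow_one]; exact units_pair_sq x⟩) TW (-1, u)
    have hd : detSign QW hW h2 t = -1 := congrArg Prod.fst htu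
    have hx : base n QW QR (Pi.mulSingle i t, 1) ∈ XW i := ⟨t, ⟨ht, hd⟩, rfl⟩
    refine ⟨_, hx, ?_⟩
    obtain ⟨b, hb, rfl⟩ := hW.plane_neg_refl hW2 h2 t hd
    rw [rO_left, hφ, chi_rO hQ h2]
    · rw [hQdef, sumForm_apply, single_sum n i b QW (QuadraticMap.map_zero QW)]
      simp only [QuadraticMap.map_zero, add_zero]
      rw [chi_rO hW h2 hb] at htu
      exact htu
    · rw [hQdef, sumForm_apply, single_sum n i b QW (QuadraticMap.map_zero QW)]
      simpa using hb
  -- transpositions lie in the kernel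
  have hperm : ∀ σ : Equiv.Perm (Fin n), φ (permO n QW QR σ) = 1 := by
    intro σ
    induction σ using Equiv.Perm.swap_induction_on with
    | one => rw [map_one, map_one]
    | @swap_mul σ i j hij ih =>
      rw [map_mul, map_mul, ih, mul_one]
      set v : (Fin n → W) × R := (Pi.single i e₀ - Pi.single j e₀, 0) with hv
      set w : (Fin n → W) × R := (Pi.single i e₁ - Pi.single j e₁, 0) with hw
      have hval : ∀ e : W, Q (Pi.single i e - Pi.single j e, 0) = 2 * QW e := by
        intro e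
        rw [hQdef, sumForm_apply]
        simp only [QuadraticMap.map_zero, add_zero, Pi.sub_apply]
        rw [Finset.sum_eq_add i j hij]
        · simp [Pi.single_eq_of_ne hij, Pi.single_eq_of_ne hij.symm, two_mul]
        · intro k _ hk
          simp [Pi.single_eq_of_ne hk.1, Pi.single_eq_of_ne hk.2]
        · simp
        · simp
      have hpol : ∀ (e : W) (x : (Fin n → W) × R),
          polar Q (Pi.single i e - Pi.single j e, 0) x = polar QW e (x.1 i) - polar QW e (x.1 j) := by
        intro e x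
        rw [hQdef, polar_sumForm]
        simp only [QuadraticMap.polar_zero_left, add_zero, Pi.sub_apply]
        rw [Finset.sum_eq_add i j hij]
        · simp [Pi.single_eq_of_ne hij, Pi.single_eq_of_ne hij.symm, QuadraticMap.polar_neg_left,
            sub_eq_add_neg]
        · intro k _ hk
          simp [Pi.single_eq_of_ne hk.1, Pi.single_eq_of_ne hk.2, QuadraticMap.polar_zero_left]
        · simp
        · simp
      have hv0 : Q v ≠ 0 := by rw [hv, hval]; exact mul_ne_zero h2 he₀
      have hw0 : Q w ≠ 0 := by rw [hw, hval]; exact mul_ne_zero h2 he₁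
      have heq : permO n QW QR (Equiv.swap i j) = rO Q v * rO Q w := by
        refine O.ext_app fun x => ?_
        rw [Subgroup.coe_mul, mul_app, permO_app]
        obtain ⟨a, c, hac⟩ := hspan (x.1 i - x.1 j)
        have hpa : polar QW e₀ (x.1 i) - polar QW e₀ (x.1 j) = a * (2 * QW e₀) := by
          rw [← QuadraticMap.polar_sub_right, hac, QuadraticMap.polar_add_right, polar_smul_right',
            polar_smul_right', polar_self', he]; ring
        have hpc : polar QW e₁ (x.1 i) - polar QW e₁ (x.1 j) = c * (2 * QW e₁) := by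
          rw [← QuadraticMap.polar_sub_right, hac, QuadraticMap.polar_add_right, polar_smul_right',
            polar_smul_right', polar_self', polar_comm (⇑QW) e₁ e₀, he]; ring
        have hwx : (rO Q w : ((Fin n → W) × R) ≃ₗ[F] ((Fin n → W) × R)) x = x - c • w := by
          rw [rO_app, hw, hval, hpol, hpc]
          congr 2
          field_simp
        rw [hwx]
        have hvx : polar Q v (x - c • w) = a * (2 * QW e₀) := by
          rw [QuadraticMap.polar_sub_right, polar_smul_right', hv, hw, hpol, hpol, hpa]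
          simp [Pi.single_eq_of_ne hij, Pi.single_eq_of_ne hij.symm, QuadraticMap.polar_neg_right, he]
        rw [rO_app, hvx, hv, hval]
        have hcoef : (2 * QW e₀)⁻¹ * (a * (2 * QW e₀)) = a := by field_simp
        rw [hcoef, hw]
        refine Prod.ext (funext fun k => ?_) (by simp)
        simp only [Equiv.symm_swap, Prod.fst_sub, Prod.smul_fst, Pi.sub_apply, Pi.smul_apply]
        rcases eq_or_ne k i with rfl | hki
        · rw [Equiv.swap_apply_left, Pi.single_eq_same, Pi.single_eq_same, Pi.single_eq_of_ne hij,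
            Pi.single_eq_of_ne hij, sub_zero, sub_zero]
          linear_combination (norm := module) -hac
        rcases eq_or_ne k j with rfl | hkj
        · rw [Equiv.swap_apply_right, Pi.single_eq_same, Pi.single_eq_same, Pi.single_eq_of_ne hki,
            Pi.single_eq_of_ne hki, zero_sub, zero_sub]
          linear_combination (norm := module) hac
        · rw [Equiv.swap_apply_of_ne_of_ne hki hkj]
          simp [Pi.single_eq_of_ne hki, Pi.single_eq_of_ne hkj]
      rw [heq, map_mul, hφ, chi_rO hQ h2 hv0, chi_rO hQ h2 hw0, hv, hw, hval, hval]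
      refine Prod.ext (by simp) ?_
      show sqSign (2 * QW e₀) * sqSign (2 * QW e₁) = 1
      rw [← sqSign_mul h2 (mul_ne_zero h2 he₀) (mul_ne_zero h2 he₁)]
      refine sqSign_of_isSquare ?_
      obtain ⟨s, hs⟩ := hdisc
      exact ⟨2 * s, by linear_combination (4 : F) * hs⟩
  have hgen : Subgroup.closure (S ∪ X) = T := by
    refine le_antisymm ((Subgroup.closure_le _).2 ?_) ?_
    · rintro x (⟨σ, hσ, rfl⟩ | hx | ⟨t, ⟨ht, -⟩, rfl⟩)
      · exact Subgroup.mem_sup_right ⟨σ, hYgen ▸ Subgroup.subset_closure hσ, rfl⟩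
      · obtain ⟨i, t, ⟨ht, -⟩, rfl⟩ := Set.mem_iUnion.1 hx
        refine Subgroup.mem_sup_left ⟨_, Subgroup.mem_prod.2 ⟨fun k _ => ?_, one_mem _⟩, rfl⟩
        rcases eq_or_ne k i with rfl | hk
        · simpa using ht
        · simp only [Pi.mulSingle_eq_of_ne hk]; exact (TW : Subgroup (O QW)).one_mem
      · exact Subgroup.mem_sup_left ⟨_, Subgroup.mem_prod.2 ⟨fun k _ => (TW : Subgroup (O QW)).one_mem, ht⟩, rfl⟩
    · refine sup_le ?_ ?_
      · rw [Subgroup.map_le_iff_le_comap]
        rintro ⟨g, r⟩ hgr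
        obtain ⟨hg, hr⟩ := Subgroup.mem_prod.1 hgr
        rw [Subgroup.mem_comap, show ((g, r) : (Fin n → O QW) × O QR) = (g, 1) * (1, r) by simp, map_mul]
        refine mul_mem ?_ ?_
        · have hle : (Subgroup.pi Set.univ fun _ : Fin n => (TW : Subgroup (O QW))) ≤
              (Subgroup.closure (S ∪ X)).comap ((base n QW QR).comp (MonoidHom.inl _ _)) := by
            rw [Subgroup.pi_le_iff]
            intro i
            rw [Subgroup.map_le_iff_le_comap]
            refine (det_closure (detSign QW hW h2) _ (Or.inr ?_)).trans ((Subgroup.closure_le _).2 ?_)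
            · obtain ⟨-, ⟨t, ⟨ht, hd⟩, -⟩, -⟩ := hsurjW i 1
              exact ⟨t, ht, hd⟩
            · intro t ht
              exact Subgroup.subset_closure (Or.inr (Or.inl (Set.mem_iUnion.2 ⟨i, t, ht, rfl⟩)))
          exact hle hg
        · have hle : (TR : Subgroup (O QR)) ≤
              (Subgroup.closure (S ∪ X)).comap ((base n QW QR).comp (MonoidHom.inr _ _)) := by
            refine (det_closure (detSign QR hR h2) _ ?_).trans ((Subgroup.closure_le _).2 fun t ht =>
              Subgroup.subset_closure (Or.inr (Or.inr ⟨t, ht, rfl⟩)))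
            rcases hR0 with h0 | ⟨v, hv⟩
            · exact Or.inl fun t _ => O.ext_app fun x => Subsingleton.elim _ _
            · refine Or.inr (sylow_surj (detSign QR hR h2) ?_ (fun x => ⟨1, by rw [pow_one]; exact Int.units_sq x⟩) TR (-1))
              intro c
              rcases Int.units_eq_one_or c with rfl | rfl
              · exact ⟨1, map_one _⟩
              · exact ⟨rO QR v, detSign_rO hR h2 hv⟩
          exact hle hr
      · show (SP : Subgroup (Equiv.Perm (Fin n))).map _ ≤ _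
        rw [← hYgen, MonoidHom.map_closure]
        exact Subgroup.closure_mono Set.subset_union_left
  haveI : Nontrivial (Fin n) := Fin.nontrivial_iff_two_le.2 hn
  obtain ⟨i₀, i₁, hi⟩ := exists_pair_ne (Fin n)
  obtain ⟨a, ha, hφa⟩ := hsurjW i₀ 1
  obtain ⟨b, hb, hφb⟩ := hsurjW i₁ (-1)
  have hne : (-1 : ℤˣ) ≠ 1 := by decide
  have hnot : ∀ i j, i ≠ j → ∀ x ∈ XW i, x ∉ XW j := by
    rintro i j hij x hx hxj
    obtain ⟨c, hc, hxc, -⟩ := hXW i x hx
    obtain ⟨d, hd, hxd, -⟩ := hXW j x hxj
    have h1 := congrArg (fun f : O Q => ((f : ((Fin n → W) × R) ≃ₗ[F] ((Fin n → W) × R)) (Pi.single i c, 0)).1 i)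
      (hxc.symm.trans hxd)
    have hqc : Q (Pi.single i c, 0) = QW c := by
      rw [hQdef, sumForm_apply, single_sum n i c QW (QuadraticMap.map_zero QW)]; simp
    simp only [rO_self (Q := Q) (by rw [hqc]; exact hc), rO_app, Prod.fst_neg, Pi.neg_apply,
      Pi.single_eq_same, Prod.fst_sub, Prod.smul_fst, Pi.sub_apply, Pi.smul_apply,
      Pi.single_eq_of_ne hij, smul_zero, sub_zero] at h1
    have : (2 : F) • c = 0 := by rw [two_smul]; nth_rewrite 1 [← h1]; exact neg_add_cancel c
    exact hc (by rw [(smul_eq_zero.1 this).resolve_left h2, QuadraticMap.map_zero])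
  have habX : a * b = b * a :=
    hcomm i₀ a ha b (Or.inl (Set.mem_iUnion.2 ⟨i₁, hb⟩)) (hnot i₁ i₀ hi.symm b hb)
  have hsel := sq_gen (T' : Subgroup (O Q)) φ S X
    (by rintro _ ⟨σ, hσ, rfl⟩; exact ⟨hperm σ, by rw [← map_mul, hY σ hσ, map_one]⟩) hinvX
    (hgen.trans hTeq.symm) (Or.inl (Set.mem_iUnion.2 ⟨i₀, ha⟩)) (Or.inl (Set.mem_iUnion.2 ⟨i₁, hb⟩)) habX
    (by rw [hφa]; exact fun e => hne (congrArg Prod.fst e)) (by rw [hφb]; exact fun e => hne (congrArg Prod.fst e))
    (by rw [hφa, hφb]; exact fun e => hne (congrArg Prod.snd e))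
    (by
      rintro x (hx | hx)
      · obtain ⟨i, hxi⟩ := Set.mem_iUnion.1 hx
        obtain ⟨c, -, -, hc⟩ := hXW i x hxi
        rw [hc, hφa, hφb]
        rcases Int.units_eq_one_or (sqSign (QW c)) with h | h <;> simp [h]
      · obtain ⟨c, -, -, hc⟩ := hXR x hx
        rw [hc, hφa, hφb]
        rcases Int.units_eq_one_or (sqSign (QR c)) with h | h <;> simp [h])
    (by
      intro x hx y hy e
      have hval : ∀ x ∈ X, ∃ u, φ x = (-1, u) := by
        rintro x (hx | hx)
        · obtain ⟨i, hxi⟩ := Set.mem_iUnion.1 hx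
          obtain ⟨c, -, -, hc⟩ := hXW i x hxi; exact ⟨_, hc⟩
        · obtain ⟨c, -, -, hc⟩ := hXR x hx; exact ⟨_, hc⟩
      obtain ⟨u, hu⟩ := hval x hx
      by_cases hxW : ∃ i, x ∈ XW i
      · obtain ⟨i, hxi⟩ := hxW
        by_cases hyi : y ∈ XW i
        · obtain ⟨j, hji⟩ := exists_ne i
          obtain ⟨z, hz, hφz⟩ := hsurjW j u
          refine Or.inr ⟨z, Or.inl (Set.mem_iUnion.2 ⟨j, hz⟩), hφz.trans hu.symm, ?_, ?_⟩
          · exact hcomm i x hxi z (Or.inl (Set.mem_iUnion.2 ⟨j, hz⟩)) (hnot j i hji z hz)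
          · exact (hcomm i y hyi z (Or.inl (Set.mem_iUnion.2 ⟨j, hz⟩)) (hnot j i hji z hz)).symm
        · exact Or.inl (hcomm i x hxi y hy hyi)
      · by_cases hyW : ∃ i, y ∈ XW i
        · obtain ⟨i, hyi⟩ := hyW
          exact Or.inl (hcomm i y hyi x hx (fun h => hxW ⟨i, h⟩)).symm
        · obtain ⟨z, hz, hφz⟩ := hsurjW i₀ u
          refine Or.inr ⟨z, Or.inl (Set.mem_iUnion.2 ⟨i₀, hz⟩), hφz.trans hu.symm, ?_, ?_⟩
          · exact (hcomm i₀ z hz x hx (fun h => hxW ⟨i₀, h⟩)).symm
          · exact hcomm i₀ z hz y hy (fun h => hyW ⟨i₀, h⟩))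
  rw [hφ, chi_ker] at hsel
  exact sqProp_of_sylow T' _ hsel

end Cfsg.Agent.H87.OrthSyl
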