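import Mathlib
import Cfsg.Agent.H52.PairModel

/-! Squares in the derived group: kernels of homomorphisms on 2-groups generated by involutions. -/

set_option autoImplicit false

namespace Cfsg.Agent.H87.OrthSyl

open Subgroup
open scoped commutatorElement

/-- Every element of every Sylow 2-subgroup squares into the derived subgroup. -/
def SqProp (G : Type*) [Group G] : Prop :=
  ∀ P : Sylow 2 G, ∀ x : (P : Subgroup G), x ^ 2 ∈ commutator (P : Subgroup G)

theorem mem_commutator_coe {G : Type*} [Group G] {P : Subgroup G} (x : P) :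
    x ∈ commutator P ↔ (x : G) ∈ ⁅P, P⁆ := by
  have h : (commutator P).map P.subtype = ⁅P, P⁆ := by
    rw [commutator_def, map_commutator, ← MonoidHom.range_eq_map, range_subtype]
  rw [← h]
  exact (mem_map_iff_mem P.subtype_injective).symm

/-- The intersection of a Sylow subgroup with a normal subgroup is a Sylow subgroup of it. -/
theorem sqProp_of_sylow {G : Type*} [Group G] [Finite G] (T : Sylow 2 G) (N : Subgroup G) [N.Normal]
    (h : ∀ g ∈ (T : Subgroup G) ⊓ N, g ^ 2 ∈ ⁅(T : Subgroup G) ⊓ N, (T : Subgroup G) ⊓ N⁆) : SqProp N := by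
  intro P x
  obtain ⟨T', hT'⟩ := (P.2.map N.subtype).exists_le_sylow
  obtain ⟨g, hg⟩ := MulAction.exists_smul_eq G T' T
  set f : G →* G := (MulAut.conj g).toMonoidHom with hf
  have hTf : (T' : Subgroup G).map f = T := by
    rw [← hg, Sylow.coe_subgroup_smul]; rfl
  set A := (P : Subgroup N).map N.subtype with hA
  have hle : A.map f ≤ (T : Subgroup G) ⊓ N := by
    rintro y ⟨a, ha, rfl⟩
    refine ⟨hTf.le ⟨a, hT' ha, rfl⟩, ?_⟩
    obtain ⟨n, -, rfl⟩ := ha
    exact (‹N.Normal›).conj_mem _ n.2 g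
  have heq : A.map f = (T : Subgroup G) ⊓ N := by
    refine eq_of_le_of_card_ge hle ?_
    rw [hA, map_map, card_map_of_injective (f := f.comp N.subtype)
      (fun a b e => Subtype.ext ((MulAut.conj g).injective e))]
    have hp : IsPGroup 2 (((T : Subgroup G) ⊓ N).subgroupOf N) :=
      (T.2.to_le inf_le_left).of_equiv (subgroupOfEquivOfLe inf_le_right).symm
    obtain ⟨P2, hP2⟩ := hp.exists_le_sylow
    calc Nat.card ((T : Subgroup G) ⊓ N : Subgroup G)
        = Nat.card (((T : Subgroup G) ⊓ N).subgroupOf N) :=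
          (Nat.card_congr (subgroupOfEquivOfLe inf_le_right).toEquiv).symm
      _ ≤ Nat.card (P2 : Subgroup N) := card_le_of_le hP2
      _ = Nat.card (P : Subgroup N) := by rw [P2.card_eq_multiplicity, P.card_eq_multiplicity]
  rw [← hTf] at heq
  have hxA : ((x : N) : G) ∈ A := ⟨x, x.2, rfl⟩
  have h1 := h (f ((x : N) : G)) (by rw [← hTf, ← heq]; exact ⟨_, hxA, rfl⟩)
  rw [← hTf, ← heq, ← map_commutator, ← map_pow, mem_map_iff_mem (MulAut.conj g).injective] at h1
  rw [mem_commutator_coe, ← mem_map_iff_mem N.subtype_injective, map_commutator]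
  exact h1

theorem SqProp.congr {G H : Type*} [Group G] [Group H] [Finite G] [Finite H] (h : SqProp G) (e : G ≃* H) :
    SqProp H := by
  intro P x
  have hf : Function.Surjective e.symm.toMonoidHom := e.symm.surjective
  let Q : Sylow 2 G := P.mapSurjective hf
  have hQ : (Q : Subgroup G) = (P : Subgroup H).map e.symm.toMonoidHom := Sylow.coe_mapSurjective hf P
  have h0 := h Q ⟨e.symm x, by rw [hQ]; exact ⟨x, x.2, rfl⟩⟩
  rw [mem_commutator_coe] at h0
  have h1 : (e.symm (x : H)) ^ 2 ∈ ⁅(P : Subgroup H).map e.symm.toMonoidHom, (P : Subgroup H).map e.symm.toMonoidHom⁆ := hQ ▸ h0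
  rw [← map_commutator] at h1
  rw [mem_commutator_coe, ← mem_map_iff_mem (f := e.symm.toMonoidHom) e.symm.injective]
  simpa using h1

/-- The core argument: two classes of involutions, joined by commuting chains. -/
theorem sq_gen {G M : Type*} [Group G] [CommGroup M] (T : Subgroup G) (φ : G →* M)
    (S X : Set G) (hS : ∀ s ∈ S, φ s = 1 ∧ s * s = 1) (hX : ∀ x ∈ X, x * x = 1)
    (hgen : closure (S ∪ X) = T) {a b : G} (ha : a ∈ X) (hb : b ∈ X) (hab : a * b = b * a)
    (hφa : φ a ≠ 1) (hφb : φ b ≠ 1) (hφab : φ a * φ b ≠ 1)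
    (hcl : ∀ x ∈ X, φ x = φ a ∨ φ x = φ b)
    (hlink : ∀ x ∈ X, ∀ y ∈ X, φ x = φ y → x * y = y * x ∨
      ∃ z ∈ X, φ z = φ x ∧ x * z = z * x ∧ z * y = y * z) :
    ∀ g ∈ T ⊓ φ.ker, g ^ 2 ∈ ⁅T ⊓ φ.ker, T ⊓ φ.ker⁆ := by
  set P := T ⊓ φ.ker with hP
  set D := ⁅P, P⁆ with hD
  have hXT : ∀ x ∈ X, x ∈ T := fun x hx => hgen ▸ subset_closure (Or.inr hx)
  have hST : ∀ x ∈ S, x ∈ T := fun x hx => hgen ▸ subset_closure (Or.inl hx)
  have hDc : ∀ t ∈ T, ∀ d ∈ D, t * d * t⁻¹ ∈ D := by
    intro t ht d hd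
    have hmap : P.map (MulAut.conj t).toMonoidHom ≤ P := by
      rintro _ ⟨p, hp, rfl⟩
      refine ⟨Subgroup.mul_mem _ (Subgroup.mul_mem _ ht hp.1) (Subgroup.inv_mem _ ht), ?_⟩
      have : φ p = 1 := hp.2
      simp [MonoidHom.mem_ker, this]
    have h1 : (MulAut.conj t).toMonoidHom d ∈ D.map (MulAut.conj t).toMonoidHom := ⟨d, hd, rfl⟩
    rw [hD, map_commutator] at h1
    exact commutator_mono hmap hmap h1
  let E : Set G := {g | g ∈ P ∧ g ^ 2 ∈ D}
  have hone : (1 : G) ∈ E := ⟨one_mem _, by simp⟩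
  have hmul : ∀ g h, g ∈ E → h ∈ E → g * h ∈ E := by
    intro g h ⟨hg, hg2⟩ ⟨hh, hh2⟩
    refine ⟨mul_mem hg hh, ?_⟩
    have h1 : g * (⁅h, g⁆ * g) * (h * h) = (g * h) ^ 2 := by rw [commutatorElement_def, pow_two]; group
    have h2 : g * ⁅h, g⁆ * g⁻¹ ∈ D := hDc g hg.1 _ (commutator_mem_commutator hh hg)
    have h3 : g * ⁅h, g⁆ * g⁻¹ * g ^ 2 * h ^ 2 ∈ D := mul_mem (mul_mem h2 hg2) hh2
    rw [← h1]
    simpa [pow_two, mul_assoc] using h3
  have hconj : ∀ t ∈ T, ∀ g ∈ E, t * g * t⁻¹ ∈ E := by
    intro t ht g ⟨hg, hg2⟩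
    refine ⟨⟨Subgroup.mul_mem _ (Subgroup.mul_mem _ ht hg.1) (Subgroup.inv_mem _ ht), ?_⟩, ?_⟩
    · have : φ g = 1 := hg.2
      simp [MonoidHom.mem_ker, this]
    · rw [show (t * g * t⁻¹) ^ 2 = t * g ^ 2 * t⁻¹ by rw [pow_two, pow_two]; group]
      exact hDc t ht _ hg2
  have hinvol : ∀ g ∈ T, φ g = 1 → g * g = 1 → g ∈ E := fun g hg h1 h2 =>
    ⟨⟨hg, h1⟩, by rw [pow_two, h2]; exact one_mem _⟩
  have hpair : ∀ x ∈ X, ∀ y ∈ X, φ x = φ y → x * y = y * x → x * y ∈ E := by
    intro x hx y hy e hc
    refine hinvol _ (mul_mem (hXT x hx) (hXT y hy)) ?_ ?_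
    · rw [map_mul, ← e, ← map_mul, hX x hx, map_one]
    · rw [mul_assoc, ← mul_assoc y, ← hc, mul_assoc x, hX y hy, mul_one, hX x hx]
  have hsame : ∀ x ∈ X, ∀ y ∈ X, φ x = φ y → x * y ∈ E := by
    intro x hx y hy e
    rcases hlink x hx y hy e with h | ⟨z, hz, e', h1, h2⟩
    · exact hpair x hx y hy e h
    · have := hmul _ _ (hpair x hx z hz e'.symm h1) (hpair z hz y hy (e'.trans e) h2)
      rwa [show x * z * (z * y) = x * y by rw [mul_assoc x, ← mul_assoc z, hX z hz, one_mul]] at this
  -- the four cosets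
  let R : Set G := {1, a, b, a * b}
  let U : Set G := {g | ∃ e ∈ E, ∃ r ∈ R, g = e * r}
  have hRT : ∀ r ∈ R, r ∈ T := by
    rintro r (rfl | rfl | rfl | rfl)
    exacts [one_mem _, hXT _ ha, hXT _ hb, mul_mem (hXT _ ha) (hXT _ hb)]
  have hshift : ∀ e ∈ E, ∀ r ∈ R, ∀ e' ∈ E, ∀ c ∈ R, r * c ∈ R → e * r * (e' * c) ∈ U := by
    intro e he r hr e' he' c _ hrc
    exact ⟨e * (r * e' * r⁻¹), hmul _ _ he (hconj r (hRT r hr) e' he'), r * c, hrc, by group⟩
  have hstep : ∀ g ∈ U, ∀ u ∈ S ∪ X, g * u ∈ U := by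
    rintro g ⟨e, he, r, hr, rfl⟩ u hu
    have haa := hX a ha
    have hbb := hX b hb
    have hclosed : ∀ c ∈ ({1, a, b} : Set G), r * c ∈ R := by
      rintro c (rfl | rfl | rfl) <;> rcases hr with rfl | rfl | rfl | rfl
      all_goals simp only [R, Set.mem_insert_iff, Set.mem_singleton_iff, one_mul, mul_one]
      all_goals first
        | tauto
        | (rw [haa]; tauto)
        | (rw [hbb]; tauto)
        | (rw [← hab]; tauto)
        | (rw [mul_assoc, hbb, mul_one]; tauto)
        | (rw [mul_assoc, ← hab, ← mul_assoc, haa, one_mul]; tauto)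
    rcases hu with hu | hu
    · have := hshift e he r hr u (hinvol u (hST u hu) (hS u hu).1 (hS u hu).2) 1 (by simp [R])
        (hclosed 1 (by simp))
      rwa [mul_one] at this
    · rcases hcl u hu with h | h
      · have := hshift e he r hr (u * a) (hsame u hu a ha h) a (by simp [R]) (hclosed a (by simp))
        rwa [mul_assoc u, haa, mul_one] at this
      · have := hshift e he r hr (u * b) (hsame u hu b hb h) b (by simp [R]) (hclosed b (by simp))
        rwa [mul_assoc u, hbb, mul_one] at this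
  have hinv : ∀ u ∈ S ∪ X, u⁻¹ = u := fun u hu => inv_eq_of_mul_eq_one_right (hu.elim (fun h => (hS u h).2) (hX u))
  have hall : ∀ g ∈ T, ∀ v ∈ U, v * g ∈ U := by
    intro g hg
    rw [← hgen] at hg
    induction hg using closure_induction'' with
    | mem u hu => exact fun v hv => hstep v hv u hu
    | inv_mem u hu => exact fun v hv => (hinv u hu).symm ▸ hstep v hv u hu
    | one => exact fun v hv => by rwa [mul_one]
    | mul x y _ _ hx hy => exact fun v hv => by rw [← mul_assoc]; exact hy _ (hx v hv)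
  intro g hg
  obtain ⟨e, he, r, hr, hge⟩ := hall g hg.1 1 ⟨1, hone, 1, by simp [R], by simp⟩
  rw [one_mul] at hge
  have hφ : φ r = 1 := by
    have h1 : φ g = 1 := hg.2
    have h2 : φ e = 1 := he.1.2
    rwa [hge, map_mul, h2, one_mul] at h1
  rcases hr with rfl | rfl | rfl | rfl
  · rw [mul_one] at hge; rw [hge]; exact he.2
  · exact absurd hφ hφa
  · exact absurd hφ hφb
  · exact absurd ((map_mul φ a b).symm.trans hφ) hφab

open Cfsg.Agent.H52 in
/-- Some Sylow 2-subgroup of a symmetric group is generated by involutions. -/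
theorem exists_sylow_perm (n : ℕ) :
    ∃ (S : Sylow 2 (Equiv.Perm (Fin n))) (X : Set (Equiv.Perm (Fin n))),
      (∀ x ∈ X, x * x = 1) ∧ closure X = (S : Subgroup (Equiv.Perm (Fin n))) := by
  induction n using Nat.strong_induction_on with
  | _ n ih =>
    rcases Nat.lt_or_ge n 2 with h | h
    · haveI : Subsingleton (Fin n) := Fintype.card_le_one_iff_subsingleton.1 (by rw [Fintype.card_fin]; omega)
      obtain ⟨S⟩ : Nonempty (Sylow 2 (Equiv.Perm (Fin n))) := inferInstance
      exact ⟨S, ∅, by simp, Subsingleton.elim _ _⟩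
    · obtain ⟨R, X, hX, hgen⟩ := ih (n / 2) (by omega)
      let e := (modelEquiv n).permCongrHom
      let M := (Fin (n / 2) × Bool) ⊕ Fin (n % 2)
      let W : Sylow 2 (Equiv.Perm M) := wrSylow R
      let Y : Set (Equiv.Perm M) := (fun σ => wr σ (fun _ => false)) '' X ∪ Set.range (fun b => tau b)
      have hgenW : closure Y = (W : Subgroup (Equiv.Perm M)) := by
        rw [coe_wrSylow]
        refine le_antisymm ((closure_le _).2 ?_) ?_
        · rintro _ (⟨σ, hσ, rfl⟩ | ⟨b, rfl⟩)
          · exact wr_mem_wrSub (hgen ▸ subset_closure hσ) _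
          · exact tau_mem _ b
        · rintro _ ⟨σ, hσ, f, rfl⟩
          have hσf : (wr σ (fun _ => false) : Equiv.Perm M) ∈ closure Y := by
            let ψ : Equiv.Perm (Fin (n / 2)) →* Equiv.Perm M :=
              { toFun := fun σ => wr σ (fun _ => false)
                map_one' := wr_one
                map_mul' := fun a b => by rw [wr_mul]; congr 1 }
            have : ψ σ ∈ (closure X).map ψ := ⟨σ, hgen.symm ▸ hσ, rfl⟩
            rw [MonoidHom.map_closure] at this
            exact closure_mono Set.subset_union_left this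
          have hf : ∀ s : Finset (Fin (n / 2)),
              (wr 1 (fun x => decide (x ∈ s)) : Equiv.Perm M) ∈ closure Y := by
            intro s
            induction s using Finset.induction_on with
            | empty => simp only [Finset.notMem_empty, decide_false]; rw [wr_one]; exact one_mem _
            | @insert b s hb ih2 =>
              have := mul_mem ih2 (subset_closure (Or.inr ⟨b, rfl⟩) : (tau b : Equiv.Perm M) ∈ closure Y)
              rw [tau, wr_mul, one_mul] at this
              convert this using 2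
              funext x
              rw [Bool.eq_iff_iff]
              by_cases hx : x = b
              · simp [hx, hb, Equiv.Perm.one_apply]
              · simp [hx, hb, Equiv.Perm.one_apply]
                exact (decide_eq_true_iff).symm
          have := mul_mem hσf (hf (Finset.univ.filter fun x => f x = true))
          rw [wr_mul, mul_one] at this
          convert this using 2
          funext x
          simp
      refine ⟨W.mapSurjective (f := e.toMonoidHom) e.surjective, e '' Y, ?_, ?_⟩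
      · rintro _ ⟨y, hy, rfl⟩
        rw [← map_mul]
        suffices y * y = 1 by rw [this, map_one]
        rcases hy with ⟨σ, hσ, rfl⟩ | ⟨b, rfl⟩
        · simp only [wr_mul, hX σ hσ, Bool.xor_self]; exact wr_one
        · simp only [tau, wr_mul, one_mul, Equiv.Perm.one_apply]
          convert wr_one using 2
          funext x
          simp
          congr
      · have hc := Sylow.coe_mapSurjective (f := e.toMonoidHom) e.surjective W
        rw [← hgenW, MonoidHom.map_closure] at hc
        exact hc.symm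

end Cfsg.Agent.H87.OrthSyl
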