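import Mathlib
import Cfsg.Agent.H87.RankOne

/-! Special rank one groups with abelian unipotent subgroups. -/

namespace Cfsg.Agent.H87

open Subgroup
open scoped commutatorElement

variable {G : Type*} [Group G] {A B : Subgroup G}

/-- Special rank one pair with abelian unipotent subgroups. -/
structure SpecialAb (A B : Subgroup G) : Prop where
  pair : Cfsg.IsRankOnePair A B
  rel : ∀ a ∈ A, a ≠ 1 → ∀ b ∈ B, b ≠ 1 → Cfsg.conjBy A b⁻¹ = Cfsg.conjBy B a⁻¹ →
    b⁻¹ * a * b = a⁻¹ * b⁻¹ * a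
  commA : ∀ x ∈ A, ∀ y ∈ A, x * y = y * x
  commB : ∀ x ∈ B, ∀ y ∈ B, x * y = y * x

/-- `b⁻¹ A b = a⁻¹ B a` with nontrivial elements. -/
def Related (A B : Subgroup G) (a b : G) : Prop :=
  a ∈ A ∧ a ≠ 1 ∧ b ∈ B ∧ b ≠ 1 ∧ Cfsg.conjBy A b⁻¹ = Cfsg.conjBy B a⁻¹

theorem specialAb_mk (h : Cfsg.IsSpecialRankOnePair A B) (hab : Cfsg.HasAbelianUnipotents A B) :
    SpecialAb A B := by
  obtain ⟨hA, hB⟩ := hab
  exact ⟨h.1, h.2, fun x hx y hy => congrArg Subtype.val (hA.is_comm.comm (⟨x, hx⟩ : A) ⟨y, hy⟩),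
    fun x hx y hy => congrArg Subtype.val (hB.is_comm.comm (⟨x, hx⟩ : B) ⟨y, hy⟩)⟩

theorem Related.dual {a b : G} (h : Related A B a b) : Related B A b a :=
  ⟨h.2.2.1, h.2.2.2.1, h.1, h.2.1, h.2.2.2.2.symm⟩

theorem SpecialAb.symm (h : SpecialAb A B) : SpecialAb B A := by
  refine ⟨rankOne_symm h.pair, ?_, h.commB, h.commA⟩
  intro b hb hb1 a ha ha1 e
  have := congrArg (fun x => x⁻¹) (h.rel a ha ha1 b hb hb1 e.symm)
  simpa [mul_assoc] using this.symm

variable {a b : G}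

theorem SpecialAb.exists_related (h : SpecialAb A B) (ha : a ∈ A) (ha1 : a ≠ 1) :
    ∃ b, Related A B a b := by
  obtain ⟨b, hb, hb1, e⟩ := h.pair.cond_left a ha ha1
  exact ⟨b, ha, ha1, hb, hb1, e⟩

theorem SpecialAb.related_unique (h : SpecialAb A B) {b' : G} (h1 : Related A B a b)
    (h2 : Related A B a b') : b = b' :=
  inv_injective (eq_of_conjBy_eq (rankOne_symm h.pair) (inv_mem h1.2.2.1) (inv_mem h2.2.2.1)
    (h1.2.2.2.2.trans h2.2.2.2.2.symm))

theorem SpecialAb.braid (h : SpecialAb A B) (r : Related A B a b) :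
    a * b⁻¹ * a = b⁻¹ * a * b⁻¹ := by
  obtain ⟨ha, ha1, hb, hb1, e⟩ := r
  have e2 := h.rel a ha ha1 b hb hb1 e
  calc a * b⁻¹ * a = a * (b⁻¹ * a * b) * b⁻¹ := by group
    _ = a * (a⁻¹ * b⁻¹ * a) * b⁻¹ := by rw [e2]
    _ = b⁻¹ * a * b⁻¹ := by group

theorem eq_one_of_rankOne_of_commute' (h : SpecialAb A B) (ha : a ∈ A) (ha1 : a ≠ 1) (hb : b ∈ B)
    (hc : a * b = b * a) : b = 1 :=
  eq_one_of_fix (rankOne_symm h.pair) hb (eq_left_of_commute h.pair ha ha1 (mem_sup_right hb) hc)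

/-- The element `n(a) = a b⁻¹ a` swapping `A` and `B`. -/
def swapElt (a b : G) : G := a * b⁻¹ * a

theorem SpecialAb.swap_conj_left (h : SpecialAb A B) (r : Related A B a b) :
    swapElt a b * a * (swapElt a b)⁻¹ = b⁻¹ := by
  have e : a * b⁻¹ * a = b⁻¹ * a * b⁻¹ := h.braid r
  calc swapElt a b * a * (swapElt a b)⁻¹
      = (b⁻¹ * a * b⁻¹) * a * (a * b⁻¹ * a)⁻¹ := by rw [swapElt, ← e]
    _ = b⁻¹ := by group

theorem SpecialAb.swap_conj_right (h : SpecialAb A B) (r : Related A B a b) :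
    swapElt a b * b⁻¹ * (swapElt a b)⁻¹ = a := by
  have e : a * b⁻¹ * a = b⁻¹ * a * b⁻¹ := h.braid r
  calc swapElt a b * b⁻¹ * (swapElt a b)⁻¹
      = (a * b⁻¹ * a) * b⁻¹ * (b⁻¹ * a * b⁻¹)⁻¹ := by rw [swapElt, ← e]
    _ = a := by group

theorem swapElt_mem (r : Related A B a b) : swapElt a b ∈ A ⊔ B :=
  mul_mem (mul_mem (mem_sup_left r.1) (mem_sup_right (inv_mem r.2.2.1))) (mem_sup_left r.1)

theorem SpecialAb.conjBy_swap_left (_h : SpecialAb A B) (r : Related A B a b) :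
    Cfsg.conjBy A (swapElt a b) = B := by
  obtain ⟨ha, ha1, hb, hb1, e⟩ := r
  rw [swapElt, conjBy_mul, conjBy_of_mem ha, conjBy_mul, e, conjBy_conjBy_inv]

theorem SpecialAb.conjBy_swap_right (h : SpecialAb A B) (r : Related A B a b) :
    Cfsg.conjBy B (swapElt a b) = A := by
  refine eq_left_of_fix h.pair r.1 r.2.1
    (conjBy_mem_unipotent (right_mem h.pair) (swapElt_mem r)) (conjBy_of_mem ?_)
  have := conj_mem_conjBy (swapElt a b) (inv_mem r.2.2.1)
  rwa [h.swap_conj_right r] at this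

theorem SpecialAb.related_inv (h : SpecialAb A B) (r : Related A B a b) :
    Related A B a⁻¹ b⁻¹ := by
  have e := h.conjBy_swap_right r
  obtain ⟨ha, ha1, hb, hb1, -⟩ := r
  refine ⟨inv_mem ha, by simpa using ha1, inv_mem hb, by simpa using hb1, ?_⟩
  rw [inv_inv, inv_inv]
  rw [swapElt, conjBy_mul, conjBy_mul] at e
  have e1 : Cfsg.conjBy (Cfsg.conjBy B a) b⁻¹ = A := by
    have := congrArg (fun C => Cfsg.conjBy C a⁻¹) e
    simpa only [conjBy_inv_conjBy, conjBy_of_mem (inv_mem ha)] using this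
  exact (eq_conjBy_inv_iff.1 e1.symm)

theorem SpecialAb.point_eq (h : SpecialAb A B) (r : Related A B a b) :
    Cfsg.conjBy B a = Cfsg.conjBy A b := by
  have := (h.related_inv r).2.2.2.2
  simpa using this.symm

theorem SpecialAb.related_of_point (h : SpecialAb A B) (ha : a ∈ A) (ha1 : a ≠ 1) (hb : b ∈ B)
    (e : Cfsg.conjBy B a = Cfsg.conjBy A b) : Related A B a b := by
  obtain ⟨b', r⟩ := h.exists_related ha ha1
  rw [h.point_eq r] at e
  rwa [← eq_of_conjBy_eq (rankOne_symm h.pair) r.2.2.1 hb e]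

/-- Swapping elements carry related pairs to related pairs. -/
theorem SpecialAb.related_conj_swap (h : SpecialAb A B) (r : Related A B a b) {y : G}
    (hA : Cfsg.conjBy A y = B) (hB : Cfsg.conjBy B y = A) :
    Related A B (y * b * y⁻¹) (y * a * y⁻¹) := by
  have r' := (h.related_inv r).dual
  obtain ⟨ha, ha1, hb, hb1, e⟩ := r
  refine ⟨hB ▸ conj_mem_conjBy y hb, by simpa using hb1, hA ▸ conj_mem_conjBy y ha, by simpa using ha1, ?_⟩
  have hA' : Cfsg.conjBy B y⁻¹ = A := by rw [← hA, conjBy_inv_conjBy]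
  have hB' : Cfsg.conjBy A y⁻¹ = B := by rw [← hB, conjBy_inv_conjBy]
  rw [show (y * a * y⁻¹)⁻¹ = y * a⁻¹ * y⁻¹ by group, show (y * b * y⁻¹)⁻¹ = y * b⁻¹ * y⁻¹ by group,
    conjBy_mul, hB', conjBy_mul, ← e, conjBy_mul, hA', conjBy_mul]

/-- The fundamental identity `β(a^j)^j = β(a)`. -/
theorem related_pow (j : ℕ) : ∀ {A B : Subgroup G}, SpecialAb A B → ∀ {a b c : G},
    Related A B a b → a ^ j ≠ 1 → Related A B (a ^ j) c → c ^ j = b := by
  induction j with
  | zero => intro A B _ a b c _ h; simp at h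
  | succ j ih =>
    intro A B h a b d r hne rd
    have hab := h.swap_conj_left r
    by_cases hj : a ^ j = 1
    · have hd : d = b := by
        rw [pow_succ, hj, one_mul] at rd
        exact h.related_unique rd r
      have hb : b ^ j = 1 := by
        rw [← inv_inj, inv_one, ← inv_pow, ← hab, conj_pow, hj, mul_one, mul_inv_cancel]
      rw [hd, pow_succ, hb, one_mul]
    · obtain ⟨ha, ha1, -, -, -⟩ := id r
      obtain ⟨c, rc⟩ := h.exists_related (pow_mem ha j) hj
      have hc : c ^ j = b := ih h r hj rc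
      set n := swapElt (a ^ j) c with hn
      set u := n * a * n⁻¹ with hu
      have huB : u ∈ B := h.conjBy_swap_left rc ▸ conj_mem_conjBy n ha
      have huj : u ^ j = c⁻¹ := by rw [hu, conj_pow, h.swap_conj_left rc]
      have hu1 : u⁻¹ ≠ 1 := fun e => ha1 (by
        rw [inv_eq_one, hu] at e; simpa using e)
      obtain ⟨v, rv⟩ := h.symm.exists_related (inv_mem huB) hu1
      have hv : (a ^ j) ^ j = v := ih h.symm rv
        (by rw [inv_pow, huj, inv_inv]; exact rc.2.2.2.1)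
        (by rw [inv_pow, huj, inv_inv]; exact rc.dual)
      have hpt : Cfsg.conjBy A u = Cfsg.conjBy B ((a ^ j) ^ j)⁻¹ := by
        have := h.point_eq (h.related_inv rv.dual)
        rw [inv_inv, ← hv] at this
        exact this.symm
      have e1 : Cfsg.conjBy B (n * a) = Cfsg.conjBy A u := by
        rw [show n * a = u * n by rw [hu]; group, conjBy_mul, h.conjBy_swap_right rc]
      have e2 : Cfsg.conjBy B (a ^ (j + 1)) = Cfsg.conjBy B (c * (a ^ ((j + 1) * j))⁻¹) := by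
        rw [hpt, hn, swapElt] at e1
        have := congrArg (fun C => Cfsg.conjBy C (c * (a ^ j)⁻¹)) e1
        simp only [← conjBy_mul] at this
        have l1 : c * (a ^ j)⁻¹ * (a ^ j * c⁻¹ * a ^ j * a) = a ^ (j + 1) := by
          rw [pow_succ]; group
        have l2 : c * (a ^ j)⁻¹ * ((a ^ j) ^ j)⁻¹ = c * (a ^ ((j + 1) * j))⁻¹ := by
          rw [← pow_mul, mul_assoc, ← mul_inv_rev, ← pow_add, show j * j + j = (j + 1) * j by ring]
        rwa [l1, l2] at this
      by_cases hm : a ^ ((j + 1) * j) = 1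
      · exfalso
        rw [hm, inv_one, mul_one, conjBy_of_mem rc.2.2.1] at e2
        exact hne (eq_one_of_fix h.pair (pow_mem ha _) e2)
      obtain ⟨e, re⟩ := h.exists_related (pow_mem ha ((j + 1) * j)) hm
      have hde : d = c * e⁻¹ := by
        have e3 := h.point_eq (h.related_inv re)
        rw [conjBy_mul, e3, ← conjBy_mul, h.point_eq rd] at e2
        exact eq_of_conjBy_eq (rankOne_symm h.pair) rd.2.2.1 (mul_mem rc.2.2.1 (inv_mem re.2.2.1)) e2
      have hej : e ^ j = d := ih h rd (by rw [← pow_mul]; exact hm) (by rw [← pow_mul]; exact re)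
      have hce : e ^ (j + 1) = c := by
        rw [pow_succ, hej, hde, inv_mul_cancel_right]
      calc d ^ (j + 1) = (e ^ j) ^ (j + 1) := by rw [hej]
        _ = (e ^ (j + 1)) ^ j := by rw [← pow_mul, ← pow_mul, mul_comm]
        _ = b := by rw [hce, hc]

theorem SpecialAb.prime_orderOf (h : SpecialAb A B) (ha : a ∈ A) (ha1 : a ≠ 1) (hfin : IsOfFinOrder a) :
    (orderOf a).Prime := by
  have hpos := hfin.orderOf_pos
  by_contra hnp
  have hn1 : orderOf a ≠ 1 := fun e => ha1 (orderOf_eq_one_iff.1 e)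
  obtain ⟨k, hkdvd, hk1, hkn⟩ := Nat.exists_dvd_of_not_prime2 (by omega) hnp
  obtain ⟨l, hl⟩ := hkdvd
  have hl0 : 0 < l := by rcases Nat.eq_zero_or_pos l with rfl | hh <;> simp_all
  have hak : a ^ k ≠ 1 := fun e => absurd (Nat.le_of_dvd (by omega) (orderOf_dvd_of_pow_eq_one e)) (by omega)
  obtain ⟨b, r⟩ := h.exists_related ha ha1
  obtain ⟨c, rc⟩ := h.exists_related (pow_mem ha k) hak
  have hc := related_pow k h r hak rc
  have hcl : c ^ l = 1 := by
    rw [← inv_inj, inv_one, ← inv_pow, ← h.swap_conj_left rc, conj_pow, ← pow_mul, ← hl,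
      pow_orderOf_eq_one, mul_one, mul_inv_cancel]
  have hbl : b ^ l = 1 := by rw [← hc, ← pow_mul, mul_comm, pow_mul, hcl, one_pow]
  have hal : a ^ l = 1 := by
    have := h.swap_conj_left r
    have h2 : swapElt a b * a ^ l * (swapElt a b)⁻¹ = 1 := by rw [← conj_pow, this, inv_pow, hbl, inv_one]
    simpa using h2
  have hle := Nat.le_of_dvd hl0 (orderOf_dvd_of_pow_eq_one hal)
  nlinarith

theorem SpecialAb.torsion_dichotomy (h : SpecialAb A B) (hfin : ∃ a ∈ A, a ≠ 1 ∧ IsOfFinOrder a) :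
    ∃ p : ℕ, p.Prime ∧ ∀ x ∈ A, x ^ p = 1 := by
  obtain ⟨a, ha, ha1, hfin⟩ := hfin
  set p := orderOf a with hp
  have hpp := h.prime_orderOf ha ha1 hfin
  have hap : a ^ p = 1 := pow_orderOf_eq_one a
  refine ⟨p, hpp, fun x hx => ?_⟩
  by_contra hxp
  have hx1 : x ≠ 1 := fun e => hxp (by rw [e, one_pow])
  set y := a * x with hy
  have hyA : y ∈ A := mul_mem ha hx
  have hyp : y ^ p = x ^ p := by
    rw [hy, (show Commute a x from h.commA a ha x hx).mul_pow, hap, one_mul]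
  have hy1 : y ≠ 1 := fun e => hxp (by rw [← hyp, e, one_pow])
  obtain ⟨b, rb⟩ := h.exists_related hx hx1
  obtain ⟨b', rb'⟩ := h.exists_related hyA hy1
  obtain ⟨c, rc⟩ := h.exists_related (pow_mem hx p) hxp
  have e1 := related_pow p h rb hxp rc
  have e2 := related_pow p h rb' (hyp ▸ hxp) (hyp ▸ rc)
  have hbb : b = b' := e1.symm.trans e2
  have rx := rb.dual
  have ry := (hbb ▸ rb').dual
  have := h.symm.related_unique rx ry
  exact ha1 (mul_eq_right.1 this.symm)

theorem SpecialAb.divisible (h : SpecialAb A B) (htf : ∀ a ∈ A, a ≠ 1 → ¬ IsOfFinOrder a) :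
    ∀ a ∈ A, ∀ n : ℕ, 0 < n → ∃ c ∈ A, c ^ n = a := by
  intro a ha n hn
  rcases eq_or_ne a 1 with rfl | ha1
  · exact ⟨1, one_mem _, one_pow _⟩
  obtain ⟨b, r⟩ := h.exists_related ha ha1
  have hbn : b ^ n ≠ 1 := by
    intro e
    refine htf a ha ha1 (isOfFinOrder_iff_pow_eq_one.2 ⟨n, hn, ?_⟩)
    have h2 : swapElt a b * a ^ n * (swapElt a b)⁻¹ = 1 := by
      rw [← conj_pow, h.swap_conj_left r, inv_pow, e, inv_one]
    simpa using h2
  obtain ⟨c, rc⟩ := h.symm.exists_related (pow_mem r.2.2.1 n) hbn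
  exact ⟨c, rc.2.2.1, related_pow n h.symm r.dual hbn rc⟩

/-- A subgroup of `A` containing all commutators with diagonal elements is everything, unless `|A| ≤ 3`. -/
theorem SpecialAb.eq_of_diag_commutators (h : SpecialAb A B) {A0 : Subgroup G} (hle : A0 ≤ A)
    (hcomm : ∀ t ∈ Cfsg.rankOneDiagonal A B, ∀ y ∈ A, t * y * t⁻¹ * y⁻¹ ∈ A0)
    (hbig : 3 < ENat.card A) : A0 = A := by
  obtain ⟨e, he, he1⟩ := A.bot_or_exists_ne_one.resolve_left (left_ne_bot h.pair)
  obtain ⟨be, re⟩ := h.exists_related he he1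
  set ne := swapElt e be with hne
  letI : CommGroup A := { (inferInstance : Group A) with
    mul_comm := fun x y => Subtype.ext (h.commA x x.2 y y.2) }
  let π : A →* A ⧸ A0.subgroupOf A := QuotientGroup.mk' _
  have hπ : ∀ u v : A, ((v : G) * (u : G)⁻¹ ∈ A0) → π v = π u := fun u v huv => by
    rw [← mul_inv_eq_one, ← map_inv, ← map_mul, QuotientGroup.mk'_apply, QuotientGroup.eq_one_iff, mem_subgroupOf]
    exact huv
  have hι : ∀ {x b : G}, Related A B x b → ne * b * ne⁻¹ ∈ A := fun r =>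
    h.conjBy_swap_right re ▸ conj_mem_conjBy ne r.2.2.1
  have hswap : ∀ {x b : G}, Related A B x b → ∀ {y c : G}, Related A B y c →
      ∀ (h1 : swapElt x b * c * (swapElt x b)⁻¹ ∈ A) (h2 : ne * c * ne⁻¹ ∈ A),
        π ⟨_, h1⟩ = π ⟨_, h2⟩ := by
    intro x b r y c ry h1 h2
    apply hπ
    set t := swapElt x b * ne⁻¹ with ht
    have htd : t ∈ Cfsg.rankOneDiagonal A B := by
      have hA' : Cfsg.conjBy A ne⁻¹ = B := by
        conv_lhs => rw [← h.conjBy_swap_right re]
        exact conjBy_inv_conjBy B ne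
      have hB' : Cfsg.conjBy B ne⁻¹ = A := by
        conv_lhs => rw [← h.conjBy_swap_left re]
        exact conjBy_inv_conjBy A ne
      refine Subgroup.mem_inf.2 ⟨Subgroup.mem_inf.2 ⟨mul_mem (swapElt_mem r) (inv_mem (swapElt_mem re)),
        conjBy_eq_self_iff.1 ?_⟩, conjBy_eq_self_iff.1 ?_⟩
      · rw [ht, conjBy_mul, hA', h.conjBy_swap_right r]
      · rw [ht, conjBy_mul, hB', h.conjBy_swap_left r]
    have := hcomm t htd _ h2
    have e1 : t * (ne * c * ne⁻¹) * t⁻¹ = swapElt x b * c * (swapElt x b)⁻¹ := by rw [ht]; group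
    rw [e1] at this
    exact this
  have hP : ∀ {x b : G} (r : Related A B x b), π ⟨_, hι r⟩ = π ⟨x⁻¹, inv_mem r.1⟩ := by
    intro x b r
    have e1 : swapElt x b * b * (swapElt x b)⁻¹ = x⁻¹ := by
      calc swapElt x b * b * (swapElt x b)⁻¹ = (swapElt x b * b⁻¹ * (swapElt x b)⁻¹)⁻¹ := by group
        _ = x⁻¹ := by rw [h.swap_conj_right r]
    rw [← hswap r r (e1.symm ▸ inv_mem r.1) (hι r)]
    congr 1
    exact Subtype.ext e1
  have key : ∀ x y : A, x ≠ 1 → y ≠ 1 → x * y ≠ 1 → π (x * y * y) = 1 := by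
    intro x y hx hy hxy
    have hx' : (x : G) ≠ 1 := fun e => hx (Subtype.ext e)
    have hy' : (y : G) ≠ 1 := fun e => hy (Subtype.ext e)
    have hxy' : (x : G) * y ≠ 1 := fun e => hxy (Subtype.ext e)
    obtain ⟨b, r⟩ := h.exists_related x.2 hx'
    obtain ⟨c, ry⟩ := h.exists_related y.2 hy'
    set n := swapElt (x : G) b with hn
    have rq := h.related_conj_swap ry (h.conjBy_swap_left r) (h.conjBy_swap_right r)
    set q := n * c * n⁻¹ with hq
    have e1 : Cfsg.conjBy B (n * y) = Cfsg.conjBy B q := by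
      rw [show n * (y : G) = n * y * n⁻¹ * n by group, conjBy_mul, h.conjBy_swap_right r, h.point_eq rq]
    have e2 : Cfsg.conjBy B (b⁻¹ * ((x : G) * y)) = Cfsg.conjBy B ((x : G)⁻¹ * q) := by
      have := congrArg (fun C => Cfsg.conjBy C (x : G)⁻¹) e1
      simp only [← conjBy_mul] at this
      rwa [hn, swapElt, show (x : G)⁻¹ * ((x : G) * b⁻¹ * x * y) = b⁻¹ * ((x : G) * y) by group] at this
    have hxq : (x : G)⁻¹ * q ≠ 1 := by
      intro e3
      rw [e3, conjBy_one, conjBy_mul] at e2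
      have := eq_conjBy_inv_iff.1 e2.symm
      rw [conjBy_of_mem r.2.2.1] at this
      exact hxy' (eq_one_of_fix h.pair (mul_mem x.2 y.2) this.symm)
    obtain ⟨f, rf⟩ := h.exists_related (mul_mem x.2 y.2) hxy'
    obtain ⟨g, rg⟩ := h.exists_related (mul_mem (inv_mem x.2) rq.1) hxq
    have hfg : b⁻¹ * f = g := by
      rw [conjBy_mul, h.point_eq rf, ← conjBy_mul, h.point_eq rg] at e2
      exact eq_of_conjBy_eq (rankOne_symm h.pair) (mul_mem (inv_mem r.2.2.1) rf.2.2.1) rg.2.2.1 e2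
    have hsplit : (⟨_, hι rf⟩ : A) = ⟨_, hι r⟩ * ⟨_, hι rg⟩ := by
      apply Subtype.ext
      show ne * f * ne⁻¹ = ne * b * ne⁻¹ * (ne * g * ne⁻¹)
      rw [← hfg]; group
    have hmain := congrArg π hsplit
    rw [map_mul, hP rf, hP r, hP rg] at hmain
    have hqy : π ⟨q, rq.1⟩ = π ⟨(y : G)⁻¹, inv_mem y.2⟩ :=
      (hswap r ry rq.1 (hι ry)).trans (hP ry)
    have h1 : (⟨((x : G) * y)⁻¹, inv_mem (mul_mem x.2 y.2)⟩ : A) = (x * y)⁻¹ := rfl
    have h2 : (⟨((x : G)⁻¹ * q)⁻¹, inv_mem (mul_mem (inv_mem x.2) rq.1)⟩ : A) = (x⁻¹ * ⟨q, rq.1⟩)⁻¹ := rfl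
    have h3 : (⟨(x : G)⁻¹, inv_mem x.2⟩ : A) = x⁻¹ := rfl
    have h4 : (⟨(y : G)⁻¹, inv_mem y.2⟩ : A) = y⁻¹ := rfl
    rw [h1, h2, h3] at hmain
    rw [h4] at hqy
    simp only [map_inv, map_mul] at hmain hqy
    rw [hqy, mul_inv ((π x)⁻¹), inv_inv, inv_inv, inv_mul_cancel_left] at hmain
    have := hmain
    rw [map_mul, map_mul]
    have h5 := mul_inv_cancel (π x * π y)
    rwa [this] at h5
  rcases eq_or_ne A0 ⊥ with hbot | hnb
  · exfalso
    have inj : ∀ z : A, π z = 1 → z = 1 := fun z hz => by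
      rw [QuotientGroup.mk'_apply, QuotientGroup.eq_one_iff, mem_subgroupOf, hbot, mem_bot] at hz
      exact Subtype.ext hz
    obtain ⟨y, hy⟩ : ∃ y : A, y ≠ 1 := ⟨⟨e, he⟩, fun e' => he1 (congrArg Subtype.val e')⟩
    have hcard : (({1, y⁻¹, (y * y)⁻¹} : Set A)).encard < (Set.univ : Set A).encard := by
      rw [Set.encard_univ]
      refine lt_of_le_of_lt ?_ hbig
      refine (Set.encard_insert_le _ _).trans ?_
      have := Set.encard_insert_le ({(y * y)⁻¹} : Set A) y⁻¹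
      rw [Set.encard_singleton] at this
      exact (add_le_add this le_rfl).trans (le_of_eq (by norm_num))
    obtain ⟨x, -, hx⟩ := Set.not_subset.1 (fun hsub => absurd (Set.encard_le_encard hsub) (not_le.2 hcard) :
      ¬ (Set.univ : Set A) ⊆ {1, y⁻¹, (y * y)⁻¹})
    simp only [Set.mem_insert_iff, Set.mem_singleton_iff, not_or] at hx
    have := inj _ (key x y hx.1 hy fun e' => hx.2.1 (eq_inv_of_mul_eq_one_left e'))
    exact hx.2.2 (eq_inv_of_mul_eq_one_left (by rwa [← mul_assoc]))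
  · obtain ⟨a0, ha0, ha01⟩ := A0.bot_or_exists_ne_one.resolve_left hnb
    have hπ0 : π ⟨a0, hle ha0⟩ = 1 := by
      rw [QuotientGroup.mk'_apply, QuotientGroup.eq_one_iff, mem_subgroupOf]; exact ha0
    have ha0' : (⟨a0, hle ha0⟩ : A) ≠ 1 := fun e' => ha01 (congrArg Subtype.val e')
    have hsq : ∀ y : A, π (y * y) = 1 := by
      intro y
      rcases eq_or_ne y 1 with rfl | hy
      · simp
      rcases eq_or_ne (⟨a0, hle ha0⟩ * y) 1 with hh | hh
      · have := congrArg π hh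
        rw [map_mul, hπ0, one_mul, map_one] at this
        rw [map_mul, this, one_mul]
      · have := key _ y ha0' hy hh
        rwa [mul_assoc, map_mul, hπ0, one_mul] at this
    refine le_antisymm hle fun x hx => ?_
    have : π ⟨x, hx⟩ = 1 := by
      rcases eq_or_ne (⟨x, hx⟩ : A) 1 with hh | hh
      · rw [hh, map_one]
      rcases eq_or_ne ((⟨x, hx⟩ : A) * ⟨a0, hle ha0⟩) 1 with h2 | h2
      · have := congrArg π h2
        rwa [map_mul, hπ0, mul_one, map_one] at this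
      · have := key _ _ hh ha0' h2
        rwa [mul_assoc, map_mul, hsq, mul_one] at this
    rw [QuotientGroup.mk'_apply, QuotientGroup.eq_one_iff, mem_subgroupOf] at this
    exact this

theorem commutator_diag_le (A B : Subgroup G) : ⁅A, Cfsg.rankOneDiagonal A B⁆ ≤ A :=
  le_normalizer_iff_commutator_le_left.1 (inf_le_left.trans inf_le_right)

theorem SpecialAb.commutator_diag_eq (h : SpecialAb A B) (hbig : 3 < ENat.card A) :
    ⁅A, Cfsg.rankOneDiagonal A B⁆ = A := by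
  refine h.eq_of_diag_commutators (commutator_diag_le A B) (fun t ht y hy => ?_) hbig
  rw [commutator_comm]
  exact commutator_mem_commutator ht hy

/-- Above three elements, the unipotent subgroup lies in the commutator subgroup of the rank one group. -/
theorem SpecialAb.le_commutator (h : SpecialAb A B) (hbig : 3 < ENat.card A) :
    A ≤ ⁅A ⊔ B, A ⊔ B⁆ := by
  calc A = ⁅A, Cfsg.rankOneDiagonal A B⁆ := (h.commutator_diag_eq hbig).symm
    _ ≤ ⁅A ⊔ B, A ⊔ B⁆ := commutator_mono le_sup_left (inf_le_left.trans inf_le_left)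

end Cfsg.Agent.H87
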