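import Mathlib
import Cfsg.Agent.H87.RootPairs
import Cfsg.Agent.H87.Special

/-! Normal subgroups of groups generated by a connected family of abstract root subgroups. -/

namespace Cfsg.Agent.H87

open Subgroup
open scoped commutatorElement

variable {G : Type*} [Group G]

/-- Commutator subgroups are monotone modulo a normal subgroup. -/
theorem commutator_le_sup_of_le_sup {N U W V : Subgroup G} [N.Normal] (h : U ≤ N ⊔ W) :
    ⁅U, V⁆ ≤ N ⊔ ⁅W, V⁆ := by
  set π := QuotientGroup.mk' N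
  have hN : N.map π = ⊥ := by rw [Subgroup.map_eq_bot_iff, QuotientGroup.ker_mk']
  have hU : U.map π ≤ W.map π := (map_mono (f := π) h).trans (by rw [Subgroup.map_sup, hN, bot_sup_eq])
  have h1 : ⁅U, V⁆.map π ≤ ⁅W, V⁆.map π := by
    rw [map_commutator, map_commutator]
    exact commutator_mono hU le_rfl
  have h2 := map_le_iff_le_comap.1 h1
  rw [comap_map_eq, QuotientGroup.ker_mk'] at h2
  exact h2.trans (sup_comm _ _).le

theorem commutator_le_of_le_sup {N U W V : Subgroup G} [N.Normal] (h : U ≤ N ⊔ W) (hWV : ⁅W, V⁆ ≤ N) :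
    ⁅U, V⁆ ≤ N :=
  (commutator_le_sup_of_le_sup h).trans (sup_le le_rfl hWV)

/-- If `n ∈ N` moves `U`, then `V` lies in `N U`. -/
theorem le_sup_of_moves {U V N : Subgroup G} [hN : N.Normal] (h : Cfsg.IsRankOnePair U V) {n : G}
    (hn : n ∈ N) (hx : n ∈ U ⊔ V) (hne : Cfsg.conjBy U n ≠ U) : V ≤ N ⊔ U := by
  obtain ⟨a, ⟨ha, e⟩, -⟩ := existsUnique_transport h (conjBy_mem_unipotent (left_mem U V) hx) (right_mem h)
    hne h.ne.symm
  intro v hv
  rw [← e, ← conjBy_mul, mem_conjBy] at hv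
  have hm : a * n ∈ N ⊔ U := mul_mem (mem_sup_right ha) (mem_sup_left hn)
  simpa [mul_assoc] using mul_mem (mul_mem hm (mem_sup_right (S := N) hv)) (inv_mem hm)

/-- If the commutators of a rank one pair lie in `N`, each of the two lies in `N` times the other. -/
theorem le_sup_of_commutator_le {U V N : Subgroup G} [N.Normal] (h : Cfsg.IsRankOnePair U V)
    (hc : ⁅U, V⁆ ≤ N) : V ≤ N ⊔ U := by
  obtain ⟨u, hu, hu1⟩ := U.bot_or_exists_ne_one.resolve_left (left_ne_bot h)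
  obtain ⟨v, hv, hv1⟩ := V.bot_or_exists_ne_one.resolve_left (right_ne_bot h)
  have hX : u * v * u⁻¹ * v⁻¹ ∈ U ⊔ V :=
    mul_mem (mul_mem (mul_mem (mem_sup_left hu) (mem_sup_right hv)) (inv_mem (mem_sup_left hu)))
      (inv_mem (mem_sup_right hv))
  refine le_sup_of_moves h (hc (commutator_mem_commutator hu hv)) hX fun e => hv1 ?_
  rw [commutatorElement_def, mul_assoc (u * v), mul_assoc u, conjBy_mul] at e
  have e1 : Cfsg.conjBy U (v * (u⁻¹ * v⁻¹)) = U := by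
    have := congrArg (fun C => Cfsg.conjBy C u⁻¹) e
    simpa only [conjBy_inv_conjBy, conjBy_of_mem (inv_mem hu)] using this
  have e2 : Cfsg.conjBy (Cfsg.conjBy U v⁻¹) u⁻¹ = Cfsg.conjBy U v⁻¹ := by
    rw [← conjBy_mul]
    rw [conjBy_mul] at e1
    exact (eq_conjBy_inv_iff.2 e1)
  have e3 := eq_left_of_fix h (inv_mem hu) (by simpa using hu1) ⟨v⁻¹, mem_sup_right (inv_mem hv), rfl⟩ e2
  exact inv_eq_one.1 (eq_one_of_fix (rankOne_symm h) (inv_mem hv) e3)

/-- If `N` kills the second commutator of a rank one pair, `V ≤ N U`. -/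
theorem le_sup_of_commutator₂_le {U V N : Subgroup G} [N.Normal] (h : Cfsg.IsRankOnePair U V)
    (hc : ⁅⁅U, V⁆, U⁆ ≤ N) : V ≤ N ⊔ U := by
  obtain ⟨u, hu, hu1⟩ := U.bot_or_exists_ne_one.resolve_left (left_ne_bot h)
  obtain ⟨v, hv, hv1⟩ := V.bot_or_exists_ne_one.resolve_left (right_ne_bot h)
  set x := u * v * u⁻¹ * v⁻¹ with hx
  have hxX : x ∈ U ⊔ V :=
    mul_mem (mul_mem (mul_mem (mem_sup_left hu) (mem_sup_right hv)) (inv_mem (mem_sup_left hu)))
      (inv_mem (mem_sup_right hv))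
  have hwX : x * u * x⁻¹ * u⁻¹ ∈ U ⊔ V :=
    mul_mem (mul_mem (mul_mem hxX (mem_sup_left hu)) (inv_mem hxX)) (inv_mem (mem_sup_left hu))
  refine le_sup_of_moves h (hc (commutator_mem_commutator (commutator_mem_commutator hu hv) hu)) hwX
    fun e => hv1 ?_
  have e1 : Cfsg.conjBy (Cfsg.conjBy U x⁻¹) u = Cfsg.conjBy U x⁻¹ := by
    rw [← conjBy_mul]
    simp only [commutatorElement_def, ← hx] at e
    rw [conjBy_mul, conjBy_of_mem (inv_mem hu), mul_assoc, conjBy_mul] at e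
    exact eq_conjBy_inv_iff.2 e
  have e2 : Cfsg.conjBy U x = U := by
    have := eq_left_of_fix h hu hu1 ⟨x⁻¹, inv_mem hxX, rfl⟩ e1
    simpa using conjBy_inv_eq_self this
  rw [hx, mul_assoc (u * v), mul_assoc u, conjBy_mul] at e2
  have e3 : Cfsg.conjBy U (v * (u⁻¹ * v⁻¹)) = U := by
    have := congrArg (fun C => Cfsg.conjBy C u⁻¹) e2
    simpa only [conjBy_inv_conjBy, conjBy_of_mem (inv_mem hu)] using this
  have e4 : Cfsg.conjBy (Cfsg.conjBy U v⁻¹) u⁻¹ = Cfsg.conjBy U v⁻¹ := by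
    rw [← conjBy_mul]
    rw [conjBy_mul] at e3
    exact (eq_conjBy_inv_iff.2 e3)
  have e5 := eq_left_of_fix h (inv_mem hu) (by simpa using hu1) ⟨v⁻¹, mem_sup_right (inv_mem hv), rfl⟩ e4
  exact inv_eq_one.1 (eq_one_of_fix (rankOne_symm h) (inv_mem hv) e5)

variable {S : Set (Subgroup G)}

theorem exists_partner_of_connected (h2 : ∃ A ∈ S, ∃ B ∈ S, A ≠ B)
    (h1 : Cfsg.IsConnectedFamily (Cfsg.FAdj S) S) {A : Subgroup G} (hA : A ∈ S) :
    ∃ P ∈ S, Cfsg.IsRankOnePair A P := by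
  obtain ⟨A₀, hA₀, B₀, hB₀, hne⟩ := h2
  obtain ⟨B, hB, hne'⟩ : ∃ B ∈ S, A ≠ B := by
    rcases eq_or_ne A A₀ with rfl | h
    exacts [⟨B₀, hB₀, hne⟩, ⟨A₀, hA₀, h⟩]
  rcases Relation.ReflTransGen.cases_head (h1 A hA B hB) with h | ⟨P, hP, -⟩
  · exact absurd h hne'
  · exact ⟨P, hP.2.1, hP.2.2⟩

section InS

variable (hS : Cfsg.IsRootSubgroupSet S) (h1 : Cfsg.IsConnectedFamily (Cfsg.FAdj S) S)
include hS h1

theorem exists_conj_eq {A B : Subgroup G} (hA : A ∈ S) (hB : B ∈ S) : ∃ g : G, B = Cfsg.conjBy A g :=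
  conj_of_reach hS (h1 A hA B hB)

theorem exists_comm_partner (hnd : ¬ Cfsg.IsDegenerateRootSet S) {A : Subgroup G} (hA : A ∈ S) :
    ∃ F ∈ S, Cfsg.RootCommutatorCase S A F := by
  simp only [Cfsg.IsDegenerateRootSet, not_forall, not_not, exists_prop] at hnd
  obtain ⟨A₀, hA₀, F₀, hF₀, hc⟩ := hnd
  obtain ⟨g, rfl⟩ := exists_conj_eq hS h1 hA₀ hA
  refine ⟨Cfsg.conjBy F₀ g, hS.conj_mem _ hF₀ g, comm_case_of_mem hS hA (hS.conj_mem _ hF₀ g) ?_⟩
  rw [← map_commutator]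
  exact hS.conj_mem _ hc.1 g

/-- A normal subgroup meeting a member contains `[G, G]`. -/
theorem commutator_le_of_inf_ne_bot {N : Subgroup G} (hN : N.Normal) {A : Subgroup G} (hA : A ∈ S)
    (hAN : A ⊓ N ≠ ⊥) : commutator G ≤ N := by
  haveI := hN
  have hall : ∀ E ∈ S, ∃ e ∈ E, e ∈ N ∧ e ≠ 1 := by
    intro E hE
    obtain ⟨g, rfl⟩ := exists_conj_eq hS h1 hA hE
    obtain ⟨a, ⟨ha, haN⟩, ha1⟩ := (A ⊓ N).bot_or_exists_ne_one.resolve_left hAN
    exact ⟨g * a * g⁻¹, conj_mem_conjBy g ha, hN.conj_mem a haN g, fun e => ha1 (by simpa using e)⟩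
  have hle : ∀ E ∈ S, E ≤ N ⊔ A := by
    intro E hE
    suffices ∀ {E}, Relation.ReflTransGen (Cfsg.FAdj S) A E → E ≤ N ⊔ A from this (h1 A hA E hE)
    intro E hr
    induction hr with
    | refl => exact le_sup_right
    | tail _ hedge ih =>
      obtain ⟨-, hE', hp⟩ := hedge
      obtain ⟨e, he, heN, he1⟩ := hall _ hE'
      refine (le_sup_of_moves hp heN (mem_sup_right he) fun e' => he1 ?_).trans (sup_le le_sup_left ih)
      exact eq_one_of_fix (rankOne_symm hp) he e'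
  have htop : N ⊔ A = ⊤ := top_le_iff.1 (hS.generates ▸ iSup₂_le hle)
  exact Subgroup.Normal.commutator_le_of_self_sup_commutative_eq_top (N := N) htop (hS.commutative A hA)

theorem commutator_eq_top (h2 : ∃ A ∈ S, ∃ B ∈ S, A ≠ B)
    (h3 : Cfsg.IsDegenerateRootSet S → ∀ A ∈ S, 3 < ENat.card A)
    (h4 : ∀ A ∈ S, ∀ B ∈ Cfsg.rankOnePartners S A, Cfsg.IsSpecialRankOnePair A B) :
    commutator G = ⊤ := by
  rw [eq_top_iff, ← hS.generates]
  refine iSup₂_le fun A hA => ?_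
  by_cases hd : Cfsg.IsDegenerateRootSet S
  · obtain ⟨P, hP, hAP⟩ := exists_partner_of_connected h2 h1 hA
    exact ((specialAb_mk (h4 A hA P ⟨hP, hAP⟩) ⟨hS.commutative A hA, hS.commutative P hP⟩).le_commutator
      (h3 hd A hA)).trans (commutator_mono le_top le_top)
  · obtain ⟨F, hF, hc⟩ := exists_comm_partner hS h1 hd hA
    obtain ⟨g, hg⟩ := exists_conj_eq hS h1 hc.1 hA
    rw [hg, ← (inferInstance : (commutator G).Normal).conj_smul_eq_self g] at *
    exact map_mono (commutator_mono le_top le_top)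

/-- A noncentral normal subgroup meets a member, or contains the commutators of some rank one pair. -/
theorem meets_or_pair (h2' : ∀ A ∈ S, ∀ C ∈ S, A ≠ C → Cfsg.centralizingMembers S A ≠ Cfsg.centralizingMembers S C)
    {N : Subgroup G} (hN : N.Normal) (hNZ : ¬ N ≤ center G) :
    (∃ A ∈ S, A ⊓ N ≠ ⊥) ∨ ∃ A ∈ S, ∃ P ∈ S, Cfsg.IsRankOnePair A P ∧ ⁅A, P⁆ ≤ N := by
  haveI := hN
  have hstep : ∀ U ∈ S, ∀ V ∈ S, ∀ W : Subgroup G, U ≤ N ⊔ W → ⁅W, V⁆ ≤ N → ⁅U, V⁆ ≠ ⊥ →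
      (∃ A ∈ S, A ⊓ N ≠ ⊥) ∨ ∃ A ∈ S, ∃ P ∈ S, Cfsg.IsRankOnePair A P ∧ ⁅A, P⁆ ≤ N := by
    intro U hU V hV W hle hWV hne
    have hc := commutator_le_of_le_sup hle hWV
    rcases hS.pair U hU V hV with h | h | h
    · exact absurd h hne
    · exact Or.inr ⟨U, hU, V, hV, h, hc⟩
    · refine Or.inl ⟨_, h.1, ?_⟩
      rw [inf_eq_left.2 hc]
      exact hne
  obtain ⟨n, hn, A, hA, a, ha, hna⟩ : ∃ n ∈ N, ∃ A ∈ S, ∃ a ∈ A, n * a ≠ a * n := by
    by_contra hcon
    push Not at hcon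
    refine hNZ fun n hn => mem_center_iff.2 fun g => ?_
    have hle : (⨆ A ∈ S, A) ≤ centralizer {n} :=
      iSup₂_le fun A hA a ha => mem_centralizer_singleton_iff.2 (hcon n hn A hA a ha).symm
    rw [hS.generates] at hle
    exact mem_centralizer_singleton_iff.1 (hle (mem_top g))
  by_cases hC : Cfsg.conjBy A n = A
  · left
    refine ⟨A, hA, fun e => hna ?_⟩
    have h1' : n * a * n⁻¹ * a⁻¹ ∈ A :=
      mul_mem (by simpa [hC] using conj_mem_conjBy n ha) (inv_mem ha)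
    have h2'' : n * a * n⁻¹ * a⁻¹ ∈ N := by
      simpa [mul_assoc] using mul_mem hn (hN.conj_mem n⁻¹ (inv_mem hn) a)
    have : n * a * n⁻¹ * a⁻¹ ∈ A ⊓ N := ⟨h1', h2''⟩
    rw [e, mem_bot] at this
    exact mul_inv_eq_iff_eq_mul.1 (mul_inv_eq_one.1 this)
  set C := Cfsg.conjBy A n with hCdef
  have hCS : C ∈ S := hS.conj_mem A hA n
  have hCA : C ≤ N ⊔ A := by
    intro x hx
    rw [hCdef, mem_conjBy] at hx
    simpa [mul_assoc] using
      mul_mem (mul_mem (mem_sup_left (T := A) hn) (mem_sup_right hx)) (inv_mem (mem_sup_left hn))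
  have hAC : A ≤ N ⊔ C := by
    intro x hx
    have := conj_mem_conjBy n hx
    simpa [mul_assoc] using
      mul_mem (mul_mem (inv_mem (mem_sup_left (T := C) hn)) (mem_sup_right this)) (mem_sup_left hn)
  by_cases hcomm : ⁅A, C⁆ = ⊥
  · have hne := h2' A hA C hCS (Ne.symm hC)
    obtain ⟨E, hE⟩ : ∃ E, ¬ (E ∈ Cfsg.centralizingMembers S A ↔ E ∈ Cfsg.centralizingMembers S C) := by
      by_contra hcon
      push Not at hcon
      exact hne (Set.ext hcon)
    have hiff : ∀ U : Subgroup G, (E ∈ Cfsg.centralizingMembers S U ↔ E ∈ S ∧ ⁅U, E⁆ = ⊥) := fun U => by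
      rw [Cfsg.centralizingMembers, Set.mem_setOf_eq, commutator_eq_bot_iff_le_centralizer,
        le_centralizer_iff]
    rw [hiff, hiff] at hE
    by_cases hES : E ∈ S
    · by_cases hAE : ⁅A, E⁆ = ⊥
      · have hCE : ⁅C, E⁆ ≠ ⊥ := fun e => hE (by simp [hES, hAE, e])
        exact hstep C hCS E hES A hCA (hAE ▸ bot_le) hCE
      · have hCE : ⁅C, E⁆ = ⊥ := by
          by_contra e; exact hE (by simp [hAE, e])
        exact hstep A hA E hES C hAC (hCE ▸ bot_le) hAE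
    · exact absurd (iff_of_false (fun h => hES h.1) (fun h => hES h.1)) hE
  · refine hstep A hA C hCS C hAC ?_ hcomm
    rw [bot_of_commute fun x hx y hy => commute_of_mem hS hCS hx hy]
    exact bot_le

theorem eq_top_of_not_le_center (h2 : ∃ A ∈ S, ∃ B ∈ S, A ≠ B)
    (h2' : ∀ A ∈ S, ∀ C ∈ S, A ≠ C → Cfsg.centralizingMembers S A ≠ Cfsg.centralizingMembers S C)
    (h3 : Cfsg.IsDegenerateRootSet S → ∀ A ∈ S, 3 < ENat.card A)
    (h4 : ∀ A ∈ S, ∀ B ∈ Cfsg.rankOnePartners S A, Cfsg.IsSpecialRankOnePair A B)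
    {N : Subgroup G} (hN : N.Normal) (hNZ : ¬ N ≤ center G) : N = ⊤ := by
  haveI := hN
  have finish : ∀ E ∈ S, ∀ e ∈ E, e ∈ N → e ≠ 1 → N = ⊤ := fun E hE e he heN he1 => by
    have hne : E ⊓ N ≠ ⊥ := fun h => he1 (by simpa [h] using (show e ∈ E ⊓ N from ⟨he, heN⟩))
    exact top_le_iff.1 (commutator_eq_top hS h1 h2 h3 h4 ▸ commutator_le_of_inf_ne_bot hS h1 hN hE hne)
  have finish' : ∀ E ∈ S, E ≤ N → N = ⊤ := fun E hE hle => by
    obtain ⟨e, he, he1⟩ := E.bot_or_exists_ne_one.resolve_left (hS.ne_bot E hE)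
    exact finish E hE e he (hle he) he1
  rcases meets_or_pair hS h1 h2' hN hNZ with ⟨A, hA, hAN⟩ | ⟨A, hA, P, hP, hAP, hc⟩
  · exact top_le_iff.1 (commutator_eq_top hS h1 h2 h3 h4 ▸ commutator_le_of_inf_ne_bot hS h1 hN hA hAN)
  have hPA : P ≤ N ⊔ A := le_sup_of_commutator_le hAP hc
  have hAP' : A ≤ N ⊔ P := le_sup_of_commutator_le (rankOne_symm hAP) (commutator_comm A P ▸ hc)
  by_cases hd : Cfsg.IsDegenerateRootSet S
  · refine finish' A hA (((specialAb_mk (h4 A hA P ⟨hP, hAP⟩) ⟨hS.commutative A hA,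
      hS.commutative P hP⟩).le_commutator (h3 hd A hA)).trans ?_)
    refine commutator_le_of_le_sup (sup_le le_sup_right hPA) ?_
    rw [commutator_comm]
    refine commutator_le_of_le_sup (sup_le le_sup_right hPA) ?_
    rw [bot_of_commute fun x hx y hy => commute_of_mem hS hA hx hy]
    exact bot_le
  obtain ⟨F, hF, hKc⟩ := exists_comm_partner hS h1 hd hA
  set K := ⁅A, F⁆ with hK
  have hAK : ⁅A, K⁆ = ⊥ := bot_of_commute fun x hx y hy => (hKc.2.1 y hy x (mem_sup_left hx)).symm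
  have hKP' : ⁅K, P⁆ ≤ N := by
    rw [commutator_comm]
    exact commutator_le_of_le_sup hPA (hAK ▸ bot_le)
  rcases hS.pair P hP F hF with hPF | hPF | hPF
  · exact finish' K hKc.1 (commutator_le_of_le_sup hAP' (hPF ▸ bot_le))
  · have h2c : ⁅⁅P, F⁆, P⁆ ≤ N :=
      commutator_le_of_le_sup (commutator_le_sup_of_le_sup hPA) hKP'
    have hFA : F ≤ N ⊔ A :=
      (le_sup_of_commutator₂_le hPF h2c).trans (sup_le le_sup_left hPA)
    refine finish' K hKc.1 ?_
    rw [hK, commutator_comm]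
    refine commutator_le_of_le_sup hFA ?_
    rw [bot_of_commute fun x hx y hy => commute_of_mem hS hA hx hy]
    exact bot_le
  · have hKA : K ≤ N ⊔ A := by
      by_cases hKP : Cfsg.IsRankOnePair K P
      · exact (le_sup_of_commutator_le (rankOne_symm hKP) (commutator_comm K P ▸ hKP')).trans
          (sup_le le_sup_left hPA)
      · obtain ⟨f, hf, hf1⟩ := F.bot_or_exists_ne_one.resolve_left (hS.ne_bot F hF)
        obtain ⟨a, ha, ha1⟩ := A.bot_or_exists_ne_one.resolve_left (left_ne_bot hAP)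
        have hb : a⁻¹ * f * a⁻¹⁻¹ * f⁻¹ ∈ K := commutator_mem_commutator (inv_mem ha) hf
        have hE : Cfsg.IsRankOnePair (Cfsg.conjBy A f) P :=
          rankOne_third hS hA hKc.1 hP (hS.conj_mem A hA f) hAP hAK hKP ha ha1 hb
            (show a * (a⁻¹ * f * a⁻¹⁻¹ * f⁻¹) ∈ Cfsg.conjBy A f by
              rw [show a * (a⁻¹ * f * a⁻¹⁻¹ * f⁻¹) = f * a * f⁻¹ by group]
              exact conj_mem_conjBy f ha)
        have hAf : ⁅A, Cfsg.conjBy A f⁆ = ⊥ := by
          refine bot_of_commute fun x hx y hy => ?_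
          rw [mem_conjBy] at hy
          have hk := hKc.2.1 _ (commutator_mem_commutator (inv_mem hy) hf) x (mem_sup_left hx)
          rw [commutatorElement_def] at hk
          set y' := f⁻¹ * y * f with hy'
          have hxy : Commute x y' := commute_of_mem hS hA hx hy
          have e : y = y' * (y'⁻¹ * f * y'⁻¹⁻¹ * f⁻¹) := by rw [hy']; group
          rw [e]
          exact (hxy.mul_right (show Commute x _ from hk.symm)).eq
        have hAfA : Cfsg.conjBy A f ≤ N ⊔ A := by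
          refine (le_sup_of_commutator_le (rankOne_symm hE) ?_).trans (sup_le le_sup_left hPA)
          exact commutator_le_of_le_sup hPA (hAf ▸ bot_le)
        rw [hK, ← hKc.2.2.2 f hf hf1, closure_le]
        rintro _ ⟨x, hx, rfl⟩
        have := mul_mem (mem_sup_right (S := N) hx) (hAfA (conj_mem_conjBy f (inv_mem hx)))
        show x * f * x⁻¹ * f⁻¹ ∈ N ⊔ A
        simpa [mul_assoc] using this
    obtain ⟨k, hk, hk1⟩ := K.bot_or_exists_ne_one.resolve_left (hS.ne_bot K hKc.1)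
    obtain ⟨m, hm, a, ha, hma⟩ := mem_sup_of_normal_left.1 (hKA hk)
    rcases eq_or_ne a 1 with rfl | ha1
    · exact finish K hKc.1 k hk (by rw [← hma, mul_one]; exact hm) hk1
    refine finish' K hKc.1 ?_
    rw [hK, ← hKc.2.2.1 a ha ha1, closure_le]
    rintro _ ⟨f, hf, rfl⟩
    have hkf : k * f = f * k := hKc.2.1 k hk f (mem_sup_right hf)
    show a * f * a⁻¹ * f⁻¹ ∈ N
    have e : a = m⁻¹ * k := by rw [← hma, inv_mul_cancel_left]
    have e2 : a * f * a⁻¹ * f⁻¹ = m⁻¹ * (f * m * f⁻¹) := by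
      rw [e]
      calc m⁻¹ * k * f * (m⁻¹ * k)⁻¹ * f⁻¹ = m⁻¹ * (k * f) * k⁻¹ * m * f⁻¹ := by group
        _ = _ := by rw [hkf]; group
    rw [e2]
    exact mul_mem (inv_mem hm) (hN.conj_mem m hm f)

end InS

end Cfsg.Agent.H87
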