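import Mathlib
import Cfsg.Agent.H87.SL2Pair

/-! The group generated by two braided one-parameter subgroups over `ZMod p` is an image of `SL₂(p)`. -/

namespace Cfsg.Agent.H87

open Subgroup

/-- Two additive one-parameter families with the braid relations of `SL₂`. -/
structure SL2Rel (p : ℕ) (G : Type*) [Group G] where
  f : ZMod p → G
  g : ZMod p → G
  f_add : ∀ i k, f (i + k) = f i * f k
  g_add : ∀ i k, g (i + k) = g i * g k
  braid : ∀ i, i ≠ 0 → f i * g (-i⁻¹) * f i = g (-i⁻¹) * f i * g (-i⁻¹)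

namespace SL2Rel

variable {p : ℕ} [hp : Fact p.Prime] {G : Type*} [Group G] (R : SL2Rel p G)

theorem f_zero : R.f 0 = 1 := by
  have := R.f_add 0 0; rwa [add_zero, left_eq_mul] at this

theorem g_zero : R.g 0 = 1 := by
  have := R.g_add 0 0; rwa [add_zero, left_eq_mul] at this

theorem f_neg (i : ZMod p) : R.f (-i) = (R.f i)⁻¹ :=
  eq_inv_of_mul_eq_one_left (by rw [← R.f_add, neg_add_cancel, R.f_zero])

theorem g_neg (i : ZMod p) : R.g (-i) = (R.g i)⁻¹ :=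
  eq_inv_of_mul_eq_one_left (by rw [← R.g_add, neg_add_cancel, R.g_zero])

theorem f_nsmul (i : ZMod p) (m : ℕ) : R.f ((m : ZMod p) * i) = R.f i ^ m := by
  induction m with
  | zero => simp [R.f_zero]
  | succ m ih => rw [Nat.cast_succ, add_mul, one_mul, R.f_add, ih, pow_succ]

theorem g_nsmul (i : ZMod p) (m : ℕ) : R.g ((m : ZMod p) * i) = R.g i ^ m := by
  induction m with
  | zero => simp [R.g_zero]
  | succ m ih => rw [Nat.cast_succ, add_mul, one_mul, R.g_add, ih, pow_succ]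

/-- The swapping element. -/
def N (i : ZMod p) : G := R.f i * R.g (-i⁻¹) * R.f i

theorem N_neg (i : ZMod p) : R.N (-i) = (R.N i)⁻¹ := by
  simp only [N, inv_neg, R.f_neg, R.g_neg, neg_neg, mul_inv_rev, inv_inv, mul_assoc]

theorem N_conj_f {i : ZMod p} (hi : i ≠ 0) (k : ZMod p) :
    R.N i * R.f k * (R.N i)⁻¹ = R.g (-(k * (i * i)⁻¹)) := by
  have h1 : R.N i * R.f i * (R.N i)⁻¹ = R.g (-i⁻¹) := by
    calc R.N i * R.f i * (R.N i)⁻¹
        = (R.g (-i⁻¹) * R.f i * R.g (-i⁻¹)) * R.f i * (R.f i * R.g (-i⁻¹) * R.f i)⁻¹ := by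
          rw [← R.braid i hi]; rfl
      _ = R.g (-i⁻¹) := by group
  have hk : k = ((k * i⁻¹).val : ZMod p) * i := by
    rw [ZMod.natCast_val, ZMod.cast_id', id_eq, inv_mul_cancel_right₀ hi]
  conv_lhs => rw [hk, R.f_nsmul, ← conj_pow, h1, ← R.g_nsmul]
  rw [ZMod.natCast_val, ZMod.cast_id', id_eq]
  congr 1
  rw [mul_neg, mul_inv, mul_assoc]

theorem N_conj_g {i : ZMod p} (hi : i ≠ 0) (k : ZMod p) :
    R.N i * R.g k * (R.N i)⁻¹ = R.f (-(k * (i * i))) := by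
  have h1 : R.N i * R.g (-i⁻¹) * (R.N i)⁻¹ = R.f i := by
    calc R.N i * R.g (-i⁻¹) * (R.N i)⁻¹
        = (R.f i * R.g (-i⁻¹) * R.f i) * R.g (-i⁻¹) * (R.g (-i⁻¹) * R.f i * R.g (-i⁻¹))⁻¹ := by
          rw [← R.braid i hi]; rfl
      _ = R.f i := by group
  have hk : k = ((-(k * i)).val : ZMod p) * (-i⁻¹) := by
    rw [ZMod.natCast_val, ZMod.cast_id', id_eq, neg_mul_neg, mul_inv_cancel_right₀ hi]
  conv_lhs => rw [hk, R.g_nsmul, ← conj_pow, h1, ← R.f_nsmul]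
  rw [ZMod.natCast_val, ZMod.cast_id', id_eq]
  congr 1
  rw [neg_mul, mul_assoc]

theorem N_conj_N {i : ZMod p} (hi : i ≠ 0) {j : ZMod p} (hj : j ≠ 0) :
    R.N i * R.N j * (R.N i)⁻¹ = R.N (i * i * j⁻¹) := by
  have hij : i * i * j⁻¹ ≠ 0 := mul_ne_zero (mul_ne_zero hi hi) (inv_ne_zero hj)
  have e : R.N i * R.N j * (R.N i)⁻¹ = (R.N i * R.f j * (R.N i)⁻¹) * (R.N i * R.g (-j⁻¹) * (R.N i)⁻¹) *
      (R.N i * R.f j * (R.N i)⁻¹) := by
    show R.N i * (R.f j * R.g (-j⁻¹) * R.f j) * (R.N i)⁻¹ = _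
    group
  rw [e, R.N_conj_f hi, R.N_conj_g hi]
  have e1 : -(-j⁻¹ * (i * i)) = i * i * j⁻¹ := by ring
  have e2 : -(j * (i * i)⁻¹) = -(i * i * j⁻¹)⁻¹ := by rw [mul_inv (i * i), inv_inv]; ring
  rw [e1, e2, ← R.braid _ hij]
  rfl

/-- The torus. -/
def h (i : ZMod p) : G := R.N i * (R.N 1)⁻¹

theorem h_one : R.h 1 = 1 := mul_inv_cancel _

theorem h_conj_f {i : ZMod p} (hi : i ≠ 0) (k : ZMod p) :
    R.h i * R.f k * (R.h i)⁻¹ = R.f (k * (i * i)) := by
  have e : R.h i * R.f k * (R.h i)⁻¹ = R.N i * (R.N (-1) * R.f k * (R.N (-1))⁻¹) * (R.N i)⁻¹ := by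
    rw [h, R.N_neg]; group
  rw [e, R.N_conj_f (neg_ne_zero.2 one_ne_zero), R.N_conj_g hi]
  congr 1; simp

theorem h_conj_g {i : ZMod p} (hi : i ≠ 0) (k : ZMod p) :
    R.h i * R.g k * (R.h i)⁻¹ = R.g (k * (i * i)⁻¹) := by
  have e : R.h i * R.g k * (R.h i)⁻¹ = R.N i * (R.N (-1) * R.g k * (R.N (-1))⁻¹) * (R.N i)⁻¹ := by
    rw [h, R.N_neg]; group
  rw [e, R.N_conj_g (neg_ne_zero.2 one_ne_zero), R.N_conj_f hi]
  congr 1; simp

theorem h_conj_N {i : ZMod p} (hi : i ≠ 0) {j : ZMod p} (hj : j ≠ 0) :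
    R.h i * R.N j * (R.h i)⁻¹ = R.N (i * i * j) := by
  have e : R.h i * R.N j * (R.h i)⁻¹ = R.N i * (R.N (-1) * R.N j * (R.N (-1))⁻¹) * (R.N i)⁻¹ := by
    rw [h, R.N_neg]; group
  rw [e, R.N_conj_N (neg_ne_zero.2 one_ne_zero) hj, R.N_conj_N hi (by simpa using inv_ne_zero hj)]
  congr 1; simp

/-- Elements commuting with both families. -/
def Central (c : G) : Prop := ∀ k, c * R.f k = R.f k * c ∧ c * R.g k = R.g k * c

theorem Central.commute_N {c : G} (hc : R.Central c) (i : ZMod p) : Commute c (R.N i) :=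
  ((show Commute c (R.f i) from (hc i).1).mul_right (hc (-i⁻¹)).2).mul_right (hc i).1

theorem Central.commute_h {c : G} (hc : R.Central c) (i : ZMod p) : Commute c (R.h i) :=
  (Central.commute_N R hc i).mul_right (Central.commute_N R hc 1).inv_right

theorem h_mul_central {i j : ZMod p} (hi : i ≠ 0) (hj : j ≠ 0) :
    R.Central ((R.h (i * j))⁻¹ * (R.h i * R.h j)) := by
  have hij : i * j ≠ 0 := mul_ne_zero hi hj
  intro k
  constructor <;> (rw [← mul_inv_eq_iff_eq_mul]; )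
  · have e1 := R.h_conj_f hij (k * 1)
    calc _ = (R.h (i * j))⁻¹ * (R.h i * (R.h j * R.f k * (R.h j)⁻¹) * (R.h i)⁻¹) * R.h (i * j) := by group
      _ = (R.h (i * j))⁻¹ * R.f (k * ((i * j) * (i * j))) * R.h (i * j) := by
        rw [R.h_conj_f hj, R.h_conj_f hi]; ring_nf
      _ = R.f k := by rw [← R.h_conj_f hij k]; group
  · calc _ = (R.h (i * j))⁻¹ * (R.h i * (R.h j * R.g k * (R.h j)⁻¹) * (R.h i)⁻¹) * R.h (i * j) := by group
      _ = (R.h (i * j))⁻¹ * R.g (k * ((i * j) * (i * j))⁻¹) * R.h (i * j) := by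
        rw [R.h_conj_g hj, R.h_conj_g hi]
        congr 3
        rw [mul_inv (i * j), mul_inv i j, mul_inv i i, mul_inv j j]; ring
      _ = R.g k := by rw [← R.h_conj_g hij k]; group

theorem h_comm {i j : ZMod p} (hi : i ≠ 0) (hj : j ≠ 0) : Commute (R.h i) (R.h j) := by
  obtain ⟨u, hu⟩ := IsCyclic.exists_generator (α := (ZMod p)ˣ)
  have key : ∀ n : ℕ, ∃ c, R.Central c ∧ R.h (((u ^ n : (ZMod p)ˣ) : ZMod p)) = R.h (u : ZMod p) ^ n * c := by
    intro n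
    induction n with
    | zero => exact ⟨1, fun k => ⟨by simp, by simp⟩, by simp [R.h_one]⟩
    | succ n ih =>
      obtain ⟨c, hc, e⟩ := ih
      have hz := R.h_mul_central (u ^ n).ne_zero u.ne_zero
      set z := (R.h (((u ^ n : (ZMod p)ˣ) : ZMod p) * (u : ZMod p)))⁻¹ *
        (R.h ((u ^ n : (ZMod p)ˣ) : ZMod p) * R.h (u : ZMod p)) with hzdef
      refine ⟨c * z⁻¹, fun k => ⟨?_, ?_⟩, ?_⟩
      · exact (Commute.mul_left (hc k).1 (show Commute z (R.f k) from (hz k).1).inv_left).eq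
      · exact (Commute.mul_left (hc k).2 (show Commute z (R.g k) from (hz k).2).inv_left).eq
      · calc R.h (((u ^ (n + 1) : (ZMod p)ˣ) : ZMod p))
            = R.h ((u ^ n : (ZMod p)ˣ) : ZMod p) * R.h (u : ZMod p) * z⁻¹ := by
              rw [pow_succ u n, Units.val_mul, hzdef]; group
          _ = R.h (u : ZMod p) ^ n * (c * R.h (u : ZMod p)) * z⁻¹ := by rw [e, mul_assoc _ c]
          _ = R.h (u : ZMod p) ^ (n + 1) * (c * z⁻¹) := by
              rw [(Central.commute_h R hc _).eq, pow_succ]; group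
  have hgen : ∀ x : ZMod p, x ≠ 0 → ∃ n : ℕ, ∃ c, R.Central c ∧ R.h x = R.h (u : ZMod p) ^ n * c := by
    intro x hx
    obtain ⟨n, hn⟩ := (mem_powers_iff_mem_zpowers.2 (hu (Units.mk0 x hx)))
    obtain ⟨c, hc, e⟩ := key n
    refine ⟨n, c, hc, ?_⟩
    rw [← e]
    congr 1
    exact congrArg Units.val hn.symm
  obtain ⟨m, c, hc, e⟩ := hgen i hi
  obtain ⟨n, d, hd, e'⟩ := hgen j hj
  have hcd : Commute c d := by
    have h1 := Central.commute_h R hc j
    rw [e'] at h1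
    have h2 : Commute c (R.h (u : ZMod p) ^ n) := (Central.commute_h R hc _).pow_right n
    have := (h2.inv_right.mul_right h1)
    simpa using this
  rw [e, e']
  exact ((((Commute.refl _).pow_pow m n).mul_right ((Central.commute_h R hd _).symm.pow_left m))).mul_left
    (((Central.commute_h R hc _).pow_right n).mul_right hcd)

theorem h_sq_mul {i j : ZMod p} (hi : i ≠ 0) (hj : j ≠ 0) :
    R.h (i * i * j) = R.h (i * i) * R.h j := by
  have e : R.h i * R.h j * (R.h i)⁻¹ = R.h (i * i * j) * (R.h (i * i))⁻¹ := by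
    calc R.h i * R.h j * (R.h i)⁻¹
        = (R.h i * R.N j * (R.h i)⁻¹) * (R.h i * R.N 1 * (R.h i)⁻¹)⁻¹ := by simp only [h]; group
      _ = _ := by rw [R.h_conj_N hi hj, R.h_conj_N hi one_ne_zero, mul_one]; simp only [h]; group
  rw [(R.h_comm hi hj).eq, mul_inv_cancel_right] at e
  rw [(R.h_comm (mul_ne_zero hi hi) hj).eq, e, inv_mul_cancel_right]

theorem N_mul_of_add_eq_one {u v : ZMod p} (hu : u ≠ 0) (hv : v ≠ 0) (huv : u + v = 1) :
    R.N u * R.N v = R.N (u * v⁻¹) * R.N 1 := by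
  set r := u * v⁻¹ with hr
  have hr0 : r ≠ 0 := mul_ne_zero hu (inv_ne_zero hv)
  have hsplit : ∀ w : ZMod p, w ≠ 0 → R.f w = R.g w⁻¹ * R.N w * R.g w⁻¹ := by
    intro w hw
    have : R.N w = R.g (-w⁻¹) * R.f w * R.g (-w⁻¹) := R.braid w hw
    rw [this, R.g_neg]; group
  have eN1 : R.N 1 = R.g (-1) * (R.f u * R.f v) * R.g (-1) := by
    rw [← R.f_add, huv]
    have := R.braid 1 one_ne_zero
    rw [inv_one] at this
    rw [N, inv_one, this]
  rw [hsplit u hu, hsplit v hv] at eN1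
  have emid : R.g u⁻¹ * R.g v⁻¹ = R.g (u * v)⁻¹ := by
    rw [← R.g_add]; congr 1
    field_simp
    linear_combination huv
  have eR : R.N 1 = R.g (-1 + u⁻¹) * (R.N u * R.g (u * v)⁻¹ * (R.N u)⁻¹) * R.N u * R.N v * R.g (v⁻¹ + -1) := by
    rw [eN1, R.g_add, R.g_add, ← emid]; group
  rw [R.N_conj_g hu] at eR
  have e1 : -((u * v)⁻¹ * (u * u)) = -r := by rw [hr]; field_simp
  have e2 : -1 + u⁻¹ = r⁻¹ := by rw [hr]; field_simp; linear_combination -huv
  have e3 : v⁻¹ + -1 = r := by rw [hr]; field_simp; linear_combination -huv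
  rw [e1, e2, e3] at eR
  have e4 : R.N u * R.N v = R.f r * (R.g r⁻¹)⁻¹ * R.N 1 * (R.g r)⁻¹ := by
    rw [eR, R.f_neg]; group
  have e5 : R.N r = R.f r * (R.g r⁻¹)⁻¹ * R.f r := by rw [N, R.g_neg]
  have e6 : (R.N 1)⁻¹ * R.f r * R.N 1 = R.g (-r) := by
    rw [← R.N_neg]
    have := R.N_conj_f (neg_ne_zero.2 (one_ne_zero (α := ZMod p))) r
    rw [R.N_neg 1] at this ⊢
    simpa using this
  rw [e4, ← R.g_neg r, ← e6, e5]
  group

theorem exists_nonsquare_pair (hp2 : p ≠ 2) :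
    ∃ u v : ZMod p, ¬ IsSquare u ∧ ¬ IsSquare v ∧ u + v = 1 := by
  obtain ⟨g, hg⟩ := FiniteField.exists_nonsquare (F := ZMod p) (by rwa [ZMod.ringChar_zmod_n])
  classical
  have hex : ∃ m : ℕ, ¬ IsSquare (m : ZMod p) := ⟨g.val, by rwa [ZMod.natCast_val, ZMod.cast_id', id_eq]⟩
  set m := Nat.find hex with hm
  have hms : ¬ IsSquare (m : ZMod p) := Nat.find_spec hex
  have hm1 : 1 ≤ m := Nat.one_le_iff_ne_zero.2 fun e => hms (by rw [e, Nat.cast_zero]; exact IsSquare.zero)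
  have hm' : IsSquare ((m - 1 : ℕ) : ZMod p) := not_not.1 (Nat.find_min hex (by omega))
  rw [Nat.cast_sub hm1, Nat.cast_one] at hm'
  set w : ZMod p := (m : ZMod p) with hw
  have hw0 : w ≠ 0 := fun e => hms (by rw [e]; exact IsSquare.zero)
  have hw1 : w - 1 ≠ 0 := fun e => hms (by rw [sub_eq_zero.1 e]; exact IsSquare.one)
  by_cases hneg : IsSquare (-1 : ZMod p)
  · refine ⟨(w - 1) * w⁻¹, w⁻¹, ?_, fun h => hms (by simpa using h.inv), ?_⟩
    · intro h
      apply hms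
      have := (h.inv).mul hm'
      rwa [mul_inv, inv_inv, mul_comm, ← mul_assoc, mul_inv_cancel₀ hw1, one_mul] at this
    · field_simp; ring
  · refine ⟨w, 1 - w, hms, ?_, by ring⟩
    intro h
    apply hneg
    have := h.mul hm'.inv
    rwa [show (1 - w) * (w - 1)⁻¹ = -1 by field_simp; ring] at this

theorem h_mul {i j : ZMod p} (hi : i ≠ 0) (hj : j ≠ 0) : R.h (i * j) = R.h i * R.h j := by
  by_cases hsi : IsSquare i
  · obtain ⟨s, rfl⟩ := hsi
    exact R.h_sq_mul (left_ne_zero_of_mul hi) hj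
  by_cases hsj : IsSquare j
  · obtain ⟨s, rfl⟩ := hsj
    rw [mul_comm, R.h_sq_mul (left_ne_zero_of_mul hj) hi]
    exact (R.h_comm hj hi).eq
  have hp2 : p ≠ 2 := by
    rintro rfl
    exact hsi (FiniteField.isSquare_of_char_two (ringChar.eq (ZMod 2) 2) i)
  obtain ⟨u, v, hu, hv, huv⟩ := exists_nonsquare_pair hp2
  have hu0 : u ≠ 0 := fun e => hu (e ▸ IsSquare.zero)
  have hv0 : v ≠ 0 := fun e => hv (e ▸ IsSquare.zero)
  have hN := R.N_mul_of_add_eq_one hu0 hv0 huv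
  have hkey : R.h u * R.h v⁻¹ = R.h (u * v⁻¹) := by
    have e : R.h v⁻¹ = R.N 1 * R.N v * ((R.N 1)⁻¹ * (R.N 1)⁻¹) := by
      have := R.N_conj_N (one_ne_zero (α := ZMod p)) hv0
      rw [one_mul, one_mul] at this
      rw [h, ← this]; group
    calc R.h u * R.h v⁻¹ = R.N u * R.N v * ((R.N 1)⁻¹ * (R.N 1)⁻¹) := by rw [e, h]; group
      _ = _ := by rw [hN, h]; group
  have hratio : ∀ {x y : ZMod p}, ¬ IsSquare x → ¬ IsSquare y → IsSquare (x * y) := by
    intro x y hx hy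
    have hx0 : x ≠ 0 := fun e => hx (e ▸ IsSquare.zero)
    have hy0 : y ≠ 0 := fun e => hy (e ▸ IsSquare.zero)
    have h2 : ringChar (ZMod p) ≠ 2 := by rwa [ZMod.ringChar_zmod_n]
    rw [← quadraticChar_one_iff_isSquare (mul_ne_zero hx0 hy0), map_mul,
      quadraticChar_neg_one_iff_not_isSquare.2 hx, quadraticChar_neg_one_iff_not_isSquare.2 hy]
    norm_num
  obtain ⟨s, hs⟩ := hratio hsi hu
  obtain ⟨t, ht⟩ := hratio hsj hv
  set s' := s * u⁻¹ with hs'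
  set t' := t with ht'
  have ei : i = s' * s' * u := by
    rw [hs']; field_simp; linear_combination hs
  have ej : j = t * t * v⁻¹ := by
    field_simp; linear_combination ht
  have hs0 : s' ≠ 0 := fun e => hi (by rw [ei, e]; ring)
  have ht0 : t ≠ 0 := fun e => hj (by rw [ej, e]; ring)
  have eij : i * j = (s' * t) * (s' * t) * (u * v⁻¹) := by rw [ei, ej]; ring
  rw [eij, R.h_sq_mul (mul_ne_zero hs0 ht0) (mul_ne_zero hu0 (inv_ne_zero hv0)), ei, ej,
    R.h_sq_mul hs0 hu0, R.h_sq_mul ht0 (inv_ne_zero hv0), ← hkey,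
    show s' * t * (s' * t) = s' * s' * (t * t) by ring, R.h_sq_mul hs0 (mul_ne_zero ht0 ht0)]
  calc R.h (s' * s') * R.h (t * t) * (R.h u * R.h v⁻¹)
      = R.h (s' * s') * (R.h (t * t) * R.h u) * R.h v⁻¹ := by group
    _ = R.h (s' * s') * (R.h u * R.h (t * t)) * R.h v⁻¹ := by rw [(R.h_comm (mul_ne_zero ht0 ht0) hu0).eq]
    _ = _ := by group

/-- Bruhat normal forms. -/
def NF : Set G :=
  {x | (∃ k i, i ≠ 0 ∧ x = R.f k * R.h i) ∨ ∃ k i y, i ≠ 0 ∧ x = R.f k * R.h i * R.N 1 * R.f y}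

theorem h_mul_f {i : ZMod p} (hi : i ≠ 0) (k : ZMod p) : R.h i * R.f k = R.f (k * (i * i)) * R.h i := by
  rw [← R.h_conj_f hi k]; group

theorem N_one_sq : R.N 1 * R.N 1 = (R.h (-1))⁻¹ := by rw [h, R.N_neg, mul_inv_rev, inv_inv]

theorem h_inv {i : ZMod p} (hi : i ≠ 0) : (R.h i)⁻¹ = R.h i⁻¹ :=
  inv_eq_of_mul_eq_one_right (by rw [← R.h_mul hi (inv_ne_zero hi), mul_inv_cancel₀ hi, R.h_one])

theorem N_mul_h {i : ZMod p} (hi : i ≠ 0) : R.N 1 * R.h i = R.h i⁻¹ * R.N 1 := by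
  have e : R.N 1 * R.h i * (R.N 1)⁻¹ = R.h i⁻¹ := by
    calc R.N 1 * R.h i * (R.N 1)⁻¹ = (R.N 1 * R.N i * (R.N 1)⁻¹) * (R.N 1)⁻¹ := by rw [h]; group
      _ = _ := by rw [R.N_conj_N one_ne_zero hi, one_mul, one_mul]; rfl
  rw [← e]; group

theorem mem_NF {x : G} (hx : x ∈ closure (Set.range R.f ∪ Set.range R.g)) : x ∈ R.NF := by
  have hf : ∀ y ∈ R.NF, ∀ k, y * R.f k ∈ R.NF := by
    rintro y (⟨a, i, hi, rfl⟩ | ⟨a, i, z, hi, rfl⟩) k
    · exact Or.inl ⟨a + k * (i * i), i, hi, by rw [mul_assoc, R.h_mul_f hi, ← mul_assoc, ← R.f_add]⟩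
    · exact Or.inr ⟨a, i, z + k, hi, by rw [mul_assoc, ← R.f_add]⟩
  have hN : ∀ y ∈ R.NF, y * R.N 1 ∈ R.NF := by
    rintro y (⟨a, i, hi, rfl⟩ | ⟨a, i, z, hi, rfl⟩)
    · exact Or.inr ⟨a, i, 0, hi, by rw [R.f_zero, mul_one]⟩
    · have hm1 : ((-1 : ZMod p)⁻¹) ≠ 0 := inv_ne_zero (neg_ne_zero.2 one_ne_zero)
      rcases eq_or_ne z 0 with rfl | hz
      · refine Or.inl ⟨a, i * (-1)⁻¹, mul_ne_zero hi hm1, ?_⟩
        rw [R.f_zero, mul_one, mul_assoc, R.N_one_sq, R.h_inv (neg_ne_zero.2 one_ne_zero), R.h_mul hi hm1, mul_assoc]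
      · have hz' : z⁻¹ ≠ 0 := inv_ne_zero hz
        have e1 : R.N 1 * R.f z = R.g (-z) * R.N 1 := by
          have := R.N_conj_f (one_ne_zero (α := ZMod p)) z
          rw [one_mul, inv_one, mul_one] at this
          rw [← this]; group
        have e2 : R.g (-z) = R.f (-z⁻¹) * (R.h z⁻¹ * R.N 1) * R.f (-z⁻¹) := by
          rw [h, R.f_neg, inv_mul_cancel_right, N, inv_inv]; group
        refine Or.inr ⟨a + -z⁻¹ * (i * i), i * (z⁻¹ * (-1)⁻¹⁻¹), -z⁻¹ * ((-1)⁻¹⁻¹ * (-1)⁻¹⁻¹), ?_, ?_⟩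
        · exact mul_ne_zero hi (mul_ne_zero hz' (inv_ne_zero hm1))
        · calc R.f a * R.h i * R.N 1 * R.f z * R.N 1
              = R.f a * R.h i * (R.N 1 * R.f z) * R.N 1 := by group
            _ = R.f a * (R.h i * R.f (-z⁻¹)) * R.h z⁻¹ * R.N 1 * R.f (-z⁻¹) * (R.N 1 * R.N 1) := by
                rw [e1, e2]; group
            _ = R.f a * R.f (-z⁻¹ * (i * i)) * (R.h i * R.h z⁻¹) * R.N 1 * (R.f (-z⁻¹) * R.h (-1)⁻¹) := by
                rw [R.h_mul_f hi, R.N_one_sq, R.h_inv (neg_ne_zero.2 one_ne_zero)]; group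
            _ = R.f a * R.f (-z⁻¹ * (i * i)) * (R.h i * R.h z⁻¹) * (R.N 1 * R.h (-1)⁻¹) *
                  R.f (-z⁻¹ * ((-1)⁻¹⁻¹ * (-1)⁻¹⁻¹)) := by
                have e3 : R.f (-z⁻¹) * R.h (-1)⁻¹ = R.h (-1)⁻¹ * R.f (-z⁻¹ * ((-1)⁻¹⁻¹ * (-1)⁻¹⁻¹)) := by
                  rw [R.h_mul_f hm1]; congr 2; simp
                rw [e3]; group
            _ = _ := by
                rw [R.N_mul_h hm1, R.f_add, R.h_mul hi (mul_ne_zero hz' (inv_ne_zero hm1)),
                  R.h_mul hz' (inv_ne_zero hm1)]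
                group
  have hNinv : ∀ y ∈ R.NF, y * (R.N 1)⁻¹ ∈ R.NF := by
    intro y hy
    have e : (R.N 1)⁻¹ = R.N 1 * R.N 1 * R.N 1 := by
      have h4 : R.N 1 * R.N 1 * (R.N 1 * R.N 1) = 1 := by
        rw [R.N_one_sq, ← mul_inv_rev, ← R.h_mul (neg_ne_zero.2 one_ne_zero) (neg_ne_zero.2 one_ne_zero)]
        simp [R.h_one]
      exact inv_eq_of_mul_eq_one_right (by simpa [mul_assoc] using h4)
    rw [e, ← mul_assoc, ← mul_assoc]
    exact hN _ (hN _ (hN _ hy))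
  have hg : ∀ y ∈ R.NF, ∀ k, y * R.g k ∈ R.NF := by
    intro y hy k
    have e : R.g k = R.N 1 * R.f (-k) * (R.N 1)⁻¹ := by
      rw [R.N_conj_f one_ne_zero]; simp
    rw [e, ← mul_assoc, ← mul_assoc]
    exact hNinv _ (hf _ (hN _ hy) _)
  have hall : ∀ y ∈ R.NF, y * x ∈ R.NF := by
    induction hx using closure_induction'' with
    | one => intro y hy; rwa [mul_one]
    | mem z hz => rcases hz with ⟨k, rfl⟩ | ⟨k, rfl⟩; exacts [fun y hy => hf y hy k, fun y hy => hg y hy k]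
    | inv_mem z hz =>
      rcases hz with ⟨k, rfl⟩ | ⟨k, rfl⟩
      · intro y hy; rw [← R.f_neg]; exact hf y hy _
      · intro y hy; rw [← R.g_neg]; exact hg y hy _
    | mul a b _ _ ha hb => intro y hy; rw [← mul_assoc]; exact hb _ (ha y hy)
  simpa using hall 1 (Or.inl ⟨0, 1, one_ne_zero, by rw [R.f_zero, R.h_one, mul_one]⟩)

end SL2Rel

/-- The relations in `SL₂(p)` itself. -/
def sl2Rel (p : ℕ) [Fact p.Prime] : SL2Rel p (Matrix.SpecialLinearGroup (Fin 2) (ZMod p)) where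
  f := lowMat
  g := upMat
  f_add i k := (lowMat_mul i k).symm
  g_add i k := (upMat_mul i k).symm
  braid i hi := by
    have e := special_rel (i⁻¹) i (inv_mul_cancel₀ hi)
    calc lowMat i * upMat (-i⁻¹) * lowMat i = lowMat i * (upMat (-i⁻¹) * lowMat i * upMat i⁻¹) * upMat (-i⁻¹) := by
          rw [← upMat_inv]; group
      _ = lowMat i * (lowMat (-i) * upMat (-i⁻¹) * lowMat i) * upMat (-i⁻¹) := by rw [e]
      _ = upMat (-i⁻¹) * lowMat i * upMat (-i⁻¹) := by rw [← lowMat_inv]; group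

theorem sl2Rel_h (p : ℕ) [Fact p.Prime] {i : ZMod p} (hi : i ≠ 0) :
    ((sl2Rel p).h i : Matrix (Fin 2) (Fin 2) (ZMod p)) = !![i⁻¹, 0; 0, i] := by
  rw [SL2Rel.h, ← SL2Rel.N_neg]
  simp [SL2Rel.N, sl2Rel, lowMat_coe, upMat_coe, Matrix.mul_fin_two, hi]

theorem sl2Rel_closure (p : ℕ) [Fact p.Prime] :
    Subgroup.closure (Set.range (sl2Rel p).f ∪ Set.range (sl2Rel p).g) = ⊤ := by
  rw [eq_top_iff, ← lower_sup_upper]
  refine sup_le ?_ ?_
  · intro x hx
    obtain ⟨t, rfl⟩ := mem_lower_iff.1 hx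
    exact subset_closure (Or.inl ⟨t, rfl⟩)
  · intro x hx
    obtain ⟨t, rfl⟩ := mem_upper_iff.1 hx
    exact subset_closure (Or.inr ⟨t, rfl⟩)

/-- `SL₂(p)` maps onto the group generated by a family with the braid relations. -/
theorem SL2Rel.exists_hom {p : ℕ} [Fact p.Prime] {G : Type*} [Group G] (R : SL2Rel p G) :
    ∃ φ : Matrix.SpecialLinearGroup (Fin 2) (ZMod p) →* G,
      (∀ k, φ (lowMat k) = R.f k) ∧ φ.range = Subgroup.closure (Set.range R.f ∪ Set.range R.g) := by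
  let P : SL2Rel p (Matrix.SpecialLinearGroup (Fin 2) (ZMod p) × G) :=
    { f := fun i => ((sl2Rel p).f i, R.f i)
      g := fun i => ((sl2Rel p).g i, R.g i)
      f_add := fun i k => Prod.ext ((sl2Rel p).f_add i k) (R.f_add i k)
      g_add := fun i k => Prod.ext ((sl2Rel p).g_add i k) (R.g_add i k)
      braid := fun i hi => Prod.ext ((sl2Rel p).braid i hi) (R.braid i hi) }
  set L := Subgroup.closure (Set.range P.f ∪ Set.range P.g) with hL
  let π : L →* Matrix.SpecialLinearGroup (Fin 2) (ZMod p) := (MonoidHom.fst _ _).comp L.subtype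
  have hfstN : ∀ i, (P.N i).1 = (sl2Rel p).N i := fun i => rfl
  have hfsth : ∀ i, (P.h i).1 = (sl2Rel p).h i := fun i => rfl
  have hinj : Function.Injective π := by
    rw [injective_iff_map_eq_one]
    rintro ⟨x, hx⟩ hx1
    have hx1' : x.1 = 1 := hx1
    apply Subtype.ext
    show x = 1
    rcases P.mem_NF hx with ⟨k, i, hi, rfl⟩ | ⟨k, i, y, hi, rfl⟩
    · have e : lowMat k * (sl2Rel p).h i = 1 := by rw [← hfsth]; exact hx1'
      have em : (lowMat k : Matrix (Fin 2) (Fin 2) (ZMod p)) * ((sl2Rel p).h i : Matrix (Fin 2) (Fin 2) (ZMod p)) = 1 := by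
        rw [← Matrix.SpecialLinearGroup.coe_mul, e, Matrix.SpecialLinearGroup.coe_one]
      rw [sl2Rel_h p hi, lowMat_coe, Matrix.mul_fin_two, Matrix.one_fin_two] at em
      have e00 := congrFun (congrFun em 0) 0
      have e10 := congrFun (congrFun em 1) 0
      simp at e00 e10
      have hk : k = 0 := by
        rcases e10 with hk | hk
        · exact hk
        · exact absurd hk hi
      subst hk; subst e00
      rw [P.f_zero, P.h_one, mul_one]
    · exfalso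
      have e : lowMat k * (sl2Rel p).h i * (sl2Rel p).N 1 * lowMat y = 1 := by
        rw [← hfsth, ← hfstN]; exact hx1'
      have em : (lowMat k : Matrix (Fin 2) (Fin 2) (ZMod p)) * ((sl2Rel p).h i : Matrix (Fin 2) (Fin 2) (ZMod p))
          * ((sl2Rel p).N 1 : Matrix (Fin 2) (Fin 2) (ZMod p)) * (lowMat y : Matrix (Fin 2) (Fin 2) (ZMod p)) = 1 := by
        simp only [← Matrix.SpecialLinearGroup.coe_mul, e, Matrix.SpecialLinearGroup.coe_one]
      have hN : ((sl2Rel p).N 1 : Matrix (Fin 2) (Fin 2) (ZMod p)) = !![0, -1; 1, 0] := by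
        simp [SL2Rel.N, sl2Rel, lowMat_coe, upMat_coe, Matrix.mul_fin_two]
      rw [sl2Rel_h p hi, hN, lowMat_coe, lowMat_coe, Matrix.mul_fin_two, Matrix.mul_fin_two, Matrix.mul_fin_two,
        Matrix.one_fin_two] at em
      have e01 := congrFun (congrFun em 0) 1
      simp [hi] at e01
  have hsurj : Function.Surjective π := by
    rw [← MonoidHom.range_eq_top, eq_top_iff, ← sl2Rel_closure p, closure_le]
    rintro x (⟨k, rfl⟩ | ⟨k, rfl⟩)
    · exact ⟨⟨P.f k, subset_closure (Or.inl ⟨k, rfl⟩)⟩, rfl⟩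
    · exact ⟨⟨P.g k, subset_closure (Or.inr ⟨k, rfl⟩)⟩, rfl⟩
  let e := MulEquiv.ofBijective π ⟨hinj, hsurj⟩
  refine ⟨((MonoidHom.snd _ _).comp L.subtype).comp e.symm.toMonoidHom, fun k => ?_, ?_⟩
  · have : e.symm (lowMat k) = ⟨P.f k, subset_closure (Or.inl ⟨k, rfl⟩)⟩ := e.symm_apply_eq.2 rfl
    show (e.symm (lowMat k)).1.2 = R.f k
    rw [this]
  · rw [MonoidHom.range_comp, MonoidHom.range_eq_top_of_surjective _ e.symm.surjective,
      ← MonoidHom.range_eq_map, MonoidHom.range_comp, range_subtype, hL, MonoidHom.map_closure,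
      Set.image_union, ← Set.range_comp, ← Set.range_comp]
    rfl

end Cfsg.Agent.H87
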