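import Mathlib

/-!
Generated data: seven transvection vectors for the diagram of type E seven in dimension six over
two elements, the closure of their orbit, and seven matrices in dimension eight over three elements.
-/

set_option autoImplicit false

namespace Cfsg.Agent.H87.SpSixData

/-- Codes of the seven vectors. -/
def rootCodes : List ℕ := [32, 16, 4, 34, 24, 1, 8]

/-- Orbit rows: code, earlier row, root used. -/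
def orbitRows : List (ℕ × ℕ × ℕ) :=
  [(32, 0, 0), (16, 0, 1), (4, 0, 2), (34, 0, 3), (24, 0, 4), (1, 0, 5), (8, 0, 6),
   (36, 0, 2), (50, 1, 3), (38, 2, 3), (58, 3, 4), (25, 4, 5), (9, 5, 6), (6, 7, 3),
   (54, 8, 2), (42, 8, 4), (62, 9, 4), (59, 10, 5), (17, 11, 6), (22, 13, 1), (30, 13, 4),
   (46, 14, 4), (43, 15, 5), (63, 16, 5), (51, 17, 6), (14, 19, 4), (31, 20, 5), (12, 21, 3),
   (47, 21, 5), (35, 22, 6), (55, 23, 6), (44, 25, 3), (15, 25, 5), (23, 26, 6), (13, 27, 5),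
   (39, 28, 6), (40, 31, 2), (45, 31, 5), (7, 32, 6), (21, 34, 4), (5, 34, 6), (41, 36, 5),
   (53, 37, 4), (37, 37, 6), (29, 39, 6), (49, 41, 4), (33, 41, 6), (61, 42, 6), (28, 44, 5),
   (19, 45, 3), (57, 45, 6), (60, 47, 5), (3, 49, 1), (27, 49, 6), (56, 50, 5), (11, 52, 6),
   (26, 53, 5), (10, 55, 5), (2, 56, 4), (18, 57, 4), (48, 59, 3), (52, 60, 2), (20, 61, 0)]

/-- The seven matrices. -/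
def mats : Fin 7 → Matrix (Fin 8) (Fin 8) (ZMod 3) :=
  ![!![0, 0, 0, 0, 0, 0, 0, 2;
    0, 0, 0, 0, 0, 0, 1, 0;
    0, 0, 0, 0, 0, 1, 0, 0;
    0, 0, 0, 0, 2, 0, 0, 0;
    0, 0, 0, 1, 0, 0, 0, 0;
    0, 0, 2, 0, 0, 0, 0, 0;
    0, 2, 0, 0, 0, 0, 0, 0;
    1, 0, 0, 0, 0, 0, 0, 0],
  !![0, 0, 2, 0, 0, 0, 0, 0;
    0, 0, 0, 1, 0, 0, 0, 0;
    1, 0, 0, 0, 0, 0, 0, 0;
    0, 2, 0, 0, 0, 0, 0, 0;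
    0, 0, 0, 0, 0, 0, 2, 0;
    0, 0, 0, 0, 0, 0, 0, 1;
    0, 0, 0, 0, 1, 0, 0, 0;
    0, 0, 0, 0, 0, 2, 0, 0],
  !![0, 2, 0, 2, 0, 2, 0, 2;
    1, 0, 2, 0, 1, 0, 1, 0;
    0, 1, 0, 2, 0, 1, 0, 2;
    1, 0, 1, 0, 2, 0, 1, 0;
    0, 2, 0, 1, 0, 1, 0, 2;
    1, 0, 2, 0, 2, 0, 2, 0;
    0, 2, 0, 2, 0, 1, 0, 1;
    1, 0, 1, 0, 1, 0, 2, 0],
  !![0, 2, 2, 1, 0, 2, 0, 0;
    1, 0, 1, 1, 1, 0, 0, 0;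
    1, 2, 0, 2, 0, 0, 0, 2;
    2, 2, 1, 0, 0, 0, 1, 0;
    0, 2, 0, 0, 0, 1, 2, 1;
    1, 0, 0, 0, 2, 0, 1, 1;
    0, 0, 0, 2, 1, 2, 0, 1;
    0, 0, 1, 0, 2, 2, 2, 0],
  !![0, 2, 0, 2, 2, 2, 0, 0;
    1, 0, 2, 0, 1, 2, 0, 0;
    0, 1, 0, 2, 0, 0, 1, 2;
    1, 0, 1, 0, 0, 0, 1, 1;
    1, 2, 0, 0, 0, 1, 0, 2;
    1, 1, 0, 0, 2, 0, 2, 0;
    0, 0, 2, 2, 0, 1, 0, 1;
    0, 0, 1, 2, 1, 0, 2, 0],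
  !![0, 1, 0, 0, 2, 2, 2, 0;
    2, 0, 0, 0, 1, 2, 0, 2;
    0, 0, 0, 1, 2, 0, 1, 2;
    0, 0, 2, 0, 0, 2, 1, 1;
    1, 2, 1, 0, 0, 2, 0, 0;
    1, 1, 0, 1, 1, 0, 0, 0;
    1, 0, 2, 2, 0, 0, 0, 2;
    0, 1, 1, 2, 0, 0, 1, 0],
  !![0, 0, 0, 0, 0, 0, 2, 0;
    0, 0, 0, 0, 0, 0, 0, 2;
    0, 0, 0, 0, 2, 0, 0, 0;
    0, 0, 0, 0, 0, 2, 0, 0;
    0, 0, 1, 0, 0, 0, 0, 0;
    0, 0, 0, 1, 0, 0, 0, 0;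
    1, 0, 0, 0, 0, 0, 0, 0;
    0, 1, 0, 0, 0, 0, 0, 0]]

end Cfsg.Agent.H87.SpSixData
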