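import Cfsg.Prelude.Def_Classical
import Cfsg.Agent.H87.CoxeterCover
import Cfsg.Agent.H87.SpSixData
import Cfsg.Agent.Symplectic.Simple
import Cfsg.Agent.Symplectic.Order
import Cfsg.Agent.H37.Weyl.Summary

/-!
The multiplier of the symplectic group in dimension six over two elements, from the Coxeter
presentation of type E seven.
-/

set_option autoImplicit false

namespace Cfsg.Agent.H87.SpSix

open Cfsg.Agent.Symplectic SpSixData CoxeterStem
open scoped Matrix commutatorElement

universe u

local notation "E7" => CoxeterMatrix.E₇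

theorem entries : ∀ i j : Fin 7, E7 i j = 1 ∨ E7 i j = 2 ∨ E7 i j = 3 := by
  intro i j
  fin_cases i <;> fin_cases j <;> decide +kernel

theorem diagram : Diagram.{u} E7 where
  laced := entries
  pairs := by
    intro X c hs hm
    have m := fun i j k h1 h2 h3 => hm i j k h1 h2 h3
    have s := fun i j h => hs i j h
    have a03 : c 0 3 = c 0 1 := (m 0 1 3 (by decide) (by decide) (by decide)).symm
    have a04 : c 0 4 = c 0 1 := (m 0 3 4 (by decide) (by decide) (by decide)).symm.trans a03
    have a05 : c 0 5 = c 0 1 := (m 0 4 5 (by decide) (by decide) (by decide)).symm.trans a04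
    have a06 : c 0 6 = c 0 1 := (m 0 5 6 (by decide) (by decide) (by decide)).symm.trans a05
    have a60 : c 6 0 = c 0 1 := (s 6 0 (by decide)).trans a06
    have a62 : c 6 2 = c 0 1 := (m 6 0 2 (by decide) (by decide) (by decide)).symm.trans a60
    have a63 : c 6 3 = c 0 1 := (m 6 2 3 (by decide) (by decide) (by decide)).symm.trans a62
    have a61 : c 6 1 = c 0 1 := (m 6 3 1 (by decide) (by decide) (by decide)).symm.trans a63
    have a64 : c 6 4 = c 0 1 := (m 6 3 4 (by decide) (by decide) (by decide)).symm.trans a63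
    have a10 : c 1 0 = c 0 1 := s 1 0 (by decide)
    have a12 : c 1 2 = c 0 1 := (m 1 0 2 (by decide) (by decide) (by decide)).symm.trans a10
    have a16 : c 1 6 = c 0 1 := (s 1 6 (by decide)).trans a61
    have a15 : c 1 5 = c 0 1 := (m 1 5 6 (by decide) (by decide) (by decide)).trans a16
    have a14 : c 1 4 = c 0 1 := (m 1 4 5 (by decide) (by decide) (by decide)).trans a15
    have a26 : c 2 6 = c 0 1 := (s 2 6 (by decide)).trans a62
    have a25 : c 2 5 = c 0 1 := (m 2 5 6 (by decide) (by decide) (by decide)).trans a26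
    have a24 : c 2 4 = c 0 1 := (m 2 4 5 (by decide) (by decide) (by decide)).trans a25
    have a36 : c 3 6 = c 0 1 := (s 3 6 (by decide)).trans a63
    have a35 : c 3 5 = c 0 1 := (m 3 5 6 (by decide) (by decide) (by decide)).trans a36
    have a30 : c 3 0 = c 0 1 := (s 3 0 (by decide)).trans a03
    have a40 : c 4 0 = c 0 1 := (s 4 0 (by decide)).trans a04
    have a41 : c 4 1 = c 0 1 := (s 4 1 (by decide)).trans a14
    have a42 : c 4 2 = c 0 1 := (s 4 2 (by decide)).trans a24
    have a46 : c 4 6 = c 0 1 := (s 4 6 (by decide)).trans a64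
    have a50 : c 5 0 = c 0 1 := (s 5 0 (by decide)).trans a05
    have a51 : c 5 1 = c 0 1 := (s 5 1 (by decide)).trans a15
    have a52 : c 5 2 = c 0 1 := (s 5 2 (by decide)).trans a25
    have a53 : c 5 3 = c 0 1 := (s 5 3 (by decide)).trans a35
    have a21 : c 2 1 = c 0 1 := (s 2 1 (by decide)).trans a12
    refine ⟨c 0 1, fun i j h => ?_⟩
    fin_cases i <;> fin_cases j <;>
      first
        | exact absurd h (by decide)
        | rfl
        | assumption
  tree := by
    intro A _ b hb
    let t2 := b 0 2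
    let t3 := b 2 3 * t2
    let t4 := b 3 4 * t3
    let t5 := b 4 5 * t4
    let t : Fin 7 → A := ![1, b 3 1 * t3, t2, t3, t4, t5, b 5 6 * t5]
    have rev : ∀ j k, E7 k j = 3 → t j = b k j * t k → t k = b j k * t j := fun j k h e => by
      rw [e, hb k j h, inv_mul_cancel_left]
    have e02 : t 2 = b 0 2 * t 0 := (mul_one _).symm
    have e23 : t 3 = b 2 3 * t 2 := rfl
    have e31 : t 1 = b 3 1 * t 3 := rfl
    have e34 : t 4 = b 3 4 * t 3 := rfl
    have e45 : t 5 = b 4 5 * t 4 := rfl
    have e56 : t 6 = b 5 6 * t 5 := rfl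
    refine ⟨t, fun j k h => ?_⟩
    fin_cases j <;> fin_cases k <;>
      first
        | exact absurd h (by decide)
        | assumption
        | exact rev _ _ (by decide) (by assumption)
  connected := by
    intro X f hf
    have e2 : f 2 = f 0 := (hf 0 2 (by decide)).symm
    have e3 : f 3 = f 0 := (hf 2 3 (by decide)).symm.trans e2
    have e1 : f 1 = f 0 := (hf 1 3 (by decide)).trans e3
    have e4 : f 4 = f 0 := (hf 3 4 (by decide)).symm.trans e3
    have e5 : f 5 = f 0 := (hf 4 5 (by decide)).symm.trans e4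
    have e6 : f 6 = f 0 := (hf 5 6 (by decide)).symm.trans e5
    have h : ∀ i, f i = f 0 := by
      intro i
      fin_cases i <;> first | rfl | assumption
    exact fun i j => (h i).trans (h j).symm

/-- A vector from its code. -/
def vecOf (c : ℕ) : Fin 3 ⊕ Fin 3 → ZMod 2 :=
  Sum.elim (fun i => if c.testBit i.1 then 1 else 0) (fun i => if c.testBit (3 + i.1) then 1 else 0)

/-- The form over two elements, as a sum. -/
def form2 (x y : Fin 3 ⊕ Fin 3 → ZMod 2) : ZMod 2 :=
  ∑ i, (x (Sum.inr i) * y (Sum.inl i) - x (Sum.inl i) * y (Sum.inr i))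

/-- The seven vectors. -/
def root (i : Fin 7) : Fin 3 ⊕ Fin 3 → ZMod 2 := vecOf (rootCodes.getD i.1 0)

/-- The rows. -/
def row (k : ℕ) : ℕ × ℕ × ℕ := orbitRows.getD k (0, 0, 0)

theorem root_gram : ∀ i j : Fin 7, i ≠ j → form2 (root j) (root i) = if E7 i j = 3 then 1 else 0 := by
  decide +kernel

theorem rows_ok : ∀ k : Fin 63, (row k.1).2.2 < 7 ∧
    (vecOf (row k.1).1 = vecOf (rootCodes.getD (row k.1).2.2 0) ∨
      ((row k.1).2.1 < k.1 ∧
        form2 (vecOf (row (row k.1).2.1).1) (vecOf (rootCodes.getD (row k.1).2.2 0)) = 1 ∧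
        vecOf (row k.1).1 = vecOf (row (row k.1).2.1).1 + vecOf (rootCodes.getD (row k.1).2.2 0))) := by
  decide +kernel

theorem rows_cover : ∀ v : Fin 3 ⊕ Fin 3 → ZMod 2, v = 0 ∨ ∃ k : Fin 63, vecOf (row k.1).1 = v := by
  decide +kernel

variable {F : Type u} [Field F] (e : ZMod 2 ≃+* F)

/-- The transvection of a vector over two elements. -/
def tv (v : Fin 3 ⊕ Fin 3 → ZMod 2) : Matrix.symplecticGroup (Fin 3) F := T (fun i => e (v i)) 1

theorem sympForm_map (x y : Fin 3 ⊕ Fin 3 → ZMod 2) :
    Cfsg.sympForm 3 F (fun i => e (x i)) (fun i => e (y i)) = e (form2 x y) := by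
  rw [sympForm_eq, form2, map_sum]
  simp only [map_sub, map_mul]

theorem tv_conj (x y : Fin 3 ⊕ Fin 3 → ZMod 2) :
    tv e x * tv e y * (tv e x)⁻¹ = tv e (y + form2 y x • x) := by
  rw [tv, tv, T_conj, tv]
  congr 1
  funext i
  rw [T_mulVec, sympForm_map, one_mul]
  simp [map_add, map_mul]

theorem tv_sq (x : Fin 3 ⊕ Fin 3 → ZMod 2) : tv e x * tv e x = 1 := by
  rw [tv, T_mul, ← map_one e, ← map_add, show (1 : ZMod 2) + 1 = 0 from rfl, map_zero, T_zero]

theorem tv_inv (x : Fin 3 ⊕ Fin 3 → ZMod 2) : (tv e x)⁻¹ = tv e x :=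
  inv_eq_of_mul_eq_one_right (tv_sq e x)

theorem tv_relations (i j : Fin 7) :
    (tv e (root i) * tv e (root j)) ^ E7 i j = 1 := by
  by_cases hij : i = j
  · subst hij; rw [CoxeterMatrix.diagonal, pow_one, tv_sq]
  have hne := CoxeterMatrix.off_diagonal E7 i j hij
  have g1 := root_gram i j hij
  have g2 := root_gram j i (Ne.symm hij)
  rw [CoxeterMatrix.symmetric E7 j i] at g2
  have c1 := tv_conj e (root i) (root j)
  have c2 := tv_conj e (root j) (root i)
  rw [g1, tv_inv] at c1
  rw [g2, tv_inv] at c2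
  rcases entries i j with h | h | h
  · exact absurd h hne
  · rw [if_neg (by omega), zero_smul, add_zero] at c1
    rw [h, pow_two]
    calc tv e (root i) * tv e (root j) * (tv e (root i) * tv e (root j))
        = tv e (root i) * tv e (root j) * tv e (root i) * tv e (root j) := (mul_assoc _ _ _).symm
      _ = 1 := by rw [c1, tv_sq]
  · rw [if_pos h, one_smul] at c1 c2
    rw [add_comm] at c2
    rw [h, pow_succ, pow_two]
    calc tv e (root i) * tv e (root j) * (tv e (root i) * tv e (root j)) *
          (tv e (root i) * tv e (root j))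
        = (tv e (root i) * tv e (root j) * tv e (root i)) *
          (tv e (root j) * tv e (root i) * tv e (root j)) := by simp only [mul_assoc]
      _ = 1 := by rw [c1, c2, tv_sq]

theorem tv_generate : Subgroup.closure (Set.range fun i => tv e (root i)) = ⊤ := by
  set K := Subgroup.closure (Set.range fun i => tv e (root i))
  have hroot : ∀ i : Fin 7, tv e (root i) ∈ K := fun i => Subgroup.subset_closure ⟨i, rfl⟩
  have hrow : ∀ k : ℕ, k < 63 → tv e (vecOf (row k).1) ∈ K := by
    intro k
    induction k using Nat.strong_induction_on with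
    | _ k ih =>
      intro hk
      obtain ⟨h7, h | ⟨hlt, hf, he⟩⟩ := rows_ok ⟨k, hk⟩
      · simp only at h h7
        rw [h]
        exact hroot ⟨_, h7⟩
      · simp only at h7 hlt hf he
        have h1 : tv e (root ⟨_, h7⟩) * tv e (vecOf (row (row k).2.1).1) *
            (tv e (root ⟨_, h7⟩))⁻¹ ∈ K :=
          mul_mem (mul_mem (hroot _) (ih _ hlt (hlt.trans hk))) (inv_mem (hroot _))
        rw [tv_conj, show root ⟨_, h7⟩ = vecOf (rootCodes.getD (row k).2.2 0) from rfl, hf, one_smul,
          ← he] at h1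
        exact h1
  rw [eq_top_iff, ← closure_TSet 3 F, Subgroup.closure_le]
  rintro _ ⟨w, c, rfl⟩
  obtain ⟨c, rfl⟩ := e.surjective c
  have hc : c = 0 ∨ c = 1 := by revert c; decide
  rcases hc with rfl | rfl
  · rw [map_zero, T_zero]; exact one_mem _
  rw [map_one]
  have hw : w = fun i => e (e.symm (w i)) := funext fun i => (e.apply_symm_apply _).symm
  rw [hw]
  show tv e (fun i => e.symm (w i)) ∈ K
  rcases rows_cover (fun i => e.symm (w i)) with h | ⟨k, hk⟩
  · rw [h]
    have : tv e (0 : Fin 3 ⊕ Fin 3 → ZMod 2) = 1 := sp_ext fun x => by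
      simp [tv, T_mulVec]
      exact Or.inr rfl
    rw [this]; exact one_mem _
  · rw [← hk]; exact hrow k.1 k.2

/-- The generators of the projective group. -/
def gen (i : Fin 7) : Cfsg.PSp 3 F := QuotientGroup.mk' _ (tv e (root i))

theorem gen_relations (i j : Fin 7) : (gen e i * gen e j) ^ E7 i j = 1 := by
  rw [gen, gen, ← map_mul, ← map_pow, tv_relations, map_one]

theorem gen_generate : Subgroup.closure (Set.range (gen e)) = ⊤ := by
  have : gen e = QuotientGroup.mk' _ ∘ fun i => tv e (root i) := rfl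
  rw [this, Set.range_comp, ← MonoidHom.map_closure, tv_generate,
    Subgroup.map_top_of_surjective _ (QuotientGroup.mk'_surjective _)]

theorem psp_perfect [Fintype F] : commutator (Cfsg.PSp 3 F) = ⊤ := by
  rw [← Cfsg.Agent.H74.Schur.map_commutator_of_surjective _ (QuotientGroup.mk'_surjective _),
    perfect (F := F) 3 (Or.inl le_rfl), Subgroup.map_top_of_surjective _ (QuotientGroup.mk'_surjective _)]

theorem finite_weyl : Finite (CoxeterMatrix.E₇).Group :=
  Nat.finite_of_card_ne_zero (by rw [H37.Weyl.cardE7]; norm_num)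

theorem card_bound [Fintype F] (hF : Fintype.card F = 2) :
    Nat.card (CoxeterMatrix.E₇).Group ≤ 2 * Nat.card (Cfsg.PSp 3 F) := by
  have h := card_psp_mul 3 F (by norm_num)
  rw [H37.Weyl.cardE7]
  rw [hF] at h
  norm_num [Finset.prod_range_succ, Finset.prod_Icc_succ_top] at h
  omega

/-- The lift of a reflection. -/
def unitR (i : Fin 7) : (Matrix (Fin 8) (Fin 8) (ZMod 3))ˣ :=
  ⟨mats i, -mats i, by revert i; decide +kernel, by revert i; decide +kernel⟩

theorem unitR_relations : ∀ i j : Fin 7,
    (unitR i * unitR j) ^ E7 i j = 1 ∨ (unitR i * unitR j) ^ E7 i j = -1 := by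
  decide +kernel

theorem unitR_anti :
    ⁅(unitR 1)⁻¹ * unitR 4, (unitR 1)⁻¹ * unitR 6⁆ = -1 ∧ ⁅unitR 1, unitR 4⁆ = -1 ∧
      (-1 : (Matrix (Fin 8) (Fin 8) (ZMod 3))ˣ) ≠ 1 := by
  simp only [commutatorElement_def]
  decide +kernel

theorem exists_cover [Fintype F] (hF : Fintype.card F = 2) :
    ∃ (Γ : Type u) (_ : Group Γ) (_ : Finite Γ) (σ : Γ →* Cfsg.PSp 3 F),
      Cfsg.IsStemExtension σ ∧ Nonempty (σ.ker ≃* Multiplicative (ZMod 2)) := by
  let e := ZMod.ringEquivOfPrime F Nat.prime_two hF
  haveI := finite_weyl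
  refine exists_double_cover diagram (gen_relations e) (gen_generate e) psp_perfect (card_bound hF)
    (-1 : (Matrix (Fin 8) (Fin 8) (ZMod 3))ˣ) ?_ unitR_anti.2.2 ?_ unitR unitR_relations 1 4 6
    (by decide) (by decide) (by decide) unitR_anti.1 unitR_anti.2.1
  · rw [Subgroup.mem_center_iff]
    intro x
    simp
  · simp

theorem exists_surjection [Fintype F] (hF : Fintype.card F = 2) {Γ : Type u} [Group Γ] [Finite Γ]
    (σ : Γ →* Cfsg.PSp 3 F) (hσ : Cfsg.IsStemExtension σ) :
    ∃ π : Multiplicative (ZMod 2) →* σ.ker, Function.Surjective π := by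
  let e := ZMod.ringEquivOfPrime F Nat.prime_two hF
  haveI := finite_weyl
  exact exists_surjection_two diagram (gen_relations e) (gen_generate e) psp_perfect (card_bound hF)
    hσ 0

end Cfsg.Agent.H87.SpSix
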