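import Mathlib
import Cfsg.Agent.H87.Special
import Cfsg.Agent.H87.SL2Rel
import Cfsg.Agent.H87.SL2Pair

/-! In a special rank one group of exponent `p`, a related pair generates an image of `SL₂(p)`. -/

namespace Cfsg.Agent.H87

open Subgroup

variable {G : Type*} [Group G] {A B : Subgroup G} {p : ℕ} [hp : Fact p.Prime]

theorem pow_val_add {x : G} (hx : x ^ p = 1) (i k : ZMod p) :
    x ^ (i + k).val = x ^ i.val * x ^ k.val := by
  rw [← pow_add, ZMod.val_add, ← pow_eq_pow_mod _ hx]

theorem exists_sl2_hom (h : SpecialAb A B) (hA : ∀ x ∈ A, x ^ p = 1) {a b : G}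
    (r : Related A B a b) :
    ∃ φ : Matrix.SpecialLinearGroup (Fin 2) (ZMod p) →* G,
      φ.ker ≤ center (Matrix.SpecialLinearGroup (Fin 2) (ZMod p)) ∧ φ.range = Subgroup.closure {a, b} := by
  have hconj : ∀ {x y : G}, Related A B x y → y ^ p = 1 := by
    intro x y rxy
    rw [← inv_inj, inv_one, ← inv_pow, ← h.swap_conj_left rxy, conj_pow, hA x rxy.1, mul_one, mul_inv_cancel]
  have ha : a ^ p = 1 := hA a r.1
  have hb : b ^ p = 1 := hconj r
  let R : SL2Rel p G :=
    { f := fun i => a ^ i.val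
      g := fun i => b ^ i.val
      f_add := pow_val_add ha
      g_add := pow_val_add hb
      braid := fun i hi => by
        have hne : a ^ i.val ≠ 1 := by
          intro e
          have h1 : orderOf a = p := orderOf_eq_prime ha r.2.1
          have := orderOf_dvd_of_pow_eq_one e
          rw [h1] at this
          exact hi ((ZMod.val_eq_zero i).1 (Nat.eq_zero_of_dvd_of_lt this i.val_lt))
        obtain ⟨c, rc⟩ := h.exists_related (pow_mem r.1 i.val) hne
        have hci : c ^ i.val = b := related_pow i.val h r hne rc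
        have hcp : c ^ p = 1 := hconj rc
        have hmod : c ^ (i.val * (i⁻¹).val) = c := by
          conv_rhs => rw [← pow_one c]
          rw [pow_eq_pow_mod (i.val * _) hcp, pow_eq_pow_mod 1 hcp]
          have : ((i.val * (i⁻¹).val : ℕ) : ZMod p) = ((1 : ℕ) : ZMod p) := by
            rw [Nat.cast_mul, ZMod.natCast_val, ZMod.cast_id', id_eq, ZMod.natCast_val, ZMod.cast_id',
              id_eq, mul_inv_cancel₀ hi, Nat.cast_one]
          rw [(ZMod.natCast_eq_natCast_iff' _ _ _).1 this]
        have hbc : b ^ (i⁻¹).val = c := by rw [← hci, ← pow_mul, hmod]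
        have hneg : b ^ (-i⁻¹).val = c⁻¹ := by
          refine eq_inv_of_mul_eq_one_left ?_
          rw [← hbc, ← pow_val_add hb, neg_add_cancel, ZMod.val_zero, pow_zero]
        show a ^ i.val * b ^ (-i⁻¹).val * a ^ i.val = b ^ (-i⁻¹).val * a ^ i.val * b ^ (-i⁻¹).val
        rw [hneg]
        exact h.braid rc }
  obtain ⟨φ, hφ, hrange⟩ := R.exists_hom
  have hone : (1 : ZMod p).val = 1 := ZMod.val_one p
  refine ⟨φ, ?_, ?_⟩
  · rcases normal_dichotomy (sl2_rankOne (ZMod p)).1 (N := φ.ker) inferInstance with hk | hk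
    · exfalso
      have hmem : b ∈ φ.range := by
        rw [hrange]
        exact subset_closure (Or.inr ⟨1, show b ^ (1 : ZMod p).val = b by rw [hone, pow_one]⟩)
      obtain ⟨x, hx⟩ := hmem
      have hx' : x ∈ φ.ker ⊔ Cfsg.lowerUnipotentSL2 (ZMod p) := by
        rw [hk]; exact Subgroup.mem_top x
      rw [Subgroup.mem_sup_of_normal_left (hs := MonoidHom.normal_ker φ)] at hx'
      obtain ⟨n, hn, l, hl, hnl⟩ := hx'
      obtain ⟨t, rfl⟩ := mem_lower_iff.1 hl
      subst hnl
      rw [map_mul, MonoidHom.mem_ker.1 hn, one_mul, hφ] at hx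
      have hbA : b ∈ A := hx ▸ pow_mem r.1 _
      exact r.2.2.2.1 (eq_one_of_rankOne_of_commute' h r.1 r.2.1 r.2.2.1 (h.commA a r.1 b hbA))
    · exact hk
  · rw [hrange]
    apply le_antisymm
    · rw [closure_le]
      rintro x (⟨k, rfl⟩ | ⟨k, rfl⟩)
      · show a ^ k.val ∈ Subgroup.closure ({a, b} : Set G)
        have hm : a ∈ Subgroup.closure ({a, b} : Set G) := Subgroup.subset_closure (Set.mem_insert a {b})
        exact Subgroup.pow_mem _ hm k.val
      · show b ^ k.val ∈ Subgroup.closure ({a, b} : Set G)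
        have hm : b ∈ Subgroup.closure ({a, b} : Set G) :=
          Subgroup.subset_closure (Set.mem_insert_of_mem a (Set.mem_singleton b))
        exact Subgroup.pow_mem _ hm k.val
    · rw [closure_le]
      rintro x (hx | hx) <;> subst x
      · exact Subgroup.subset_closure (Or.inl ⟨1, show a ^ (1 : ZMod p).val = a by rw [hone, pow_one]⟩)
      · exact Subgroup.subset_closure (Or.inr ⟨1, show b ^ (1 : ZMod p).val = b by rw [hone, pow_one]⟩)

theorem card_center_sl2_le (p : ℕ) [Fact p.Prime] :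
    Nat.card (center (Matrix.SpecialLinearGroup (Fin 2) (ZMod p))) ≤ 2 := by
  rw [Nat.card_congr (Matrix.SpecialLinearGroup.center_equiv_rootsOfUnity).toEquiv]
  have e : max (Fintype.card (Fin 2)) 1 = 2 := by simp
  rw [e]
  exact card_rootsOfUnity (ZMod p) 2

theorem sl2_or_psl2 (φ : Matrix.SpecialLinearGroup (Fin 2) (ZMod p) →* G)
    (hker : φ.ker ≤ center (Matrix.SpecialLinearGroup (Fin 2) (ZMod p))) :
    Nonempty (↥φ.range ≃* Matrix.SpecialLinearGroup (Fin 2) (ZMod p)) ∨
      Nonempty (↥φ.range ≃* Matrix.ProjectiveSpecialLinearGroup (Fin 2) (ZMod p)) := by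
  rcases eq_or_ne φ.ker ⊥ with hk | hk
  · exact Or.inl ⟨(MonoidHom.ofInjective ((MonoidHom.ker_eq_bot_iff φ).1 hk)).symm⟩
  · right
    have h1 : 2 ≤ Nat.card φ.ker := by
      have := (one_lt_card_iff_ne_bot φ.ker).2 hk
      omega
    have e : φ.ker = center _ := eq_of_le_of_card_ge hker ((card_center_sl2_le p).trans h1)
    exact ⟨(QuotientGroup.quotientKerEquivRange φ).symm.trans (QuotientGroup.quotientMulEquivOfEq e)⟩

end Cfsg.Agent.H87
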