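import Cfsg.Agent.Frobenius.KernelTheorem
import Cfsg.Agent.Frobenius.Construct
import Cfsg.Agent.CharInduce.Gallagher
import Cfsg.Agent.CharInduce.Ops
import Cfsg.Agent.Cores.Basic
import Cfsg.Prelude.Def_OddOrderLocal

/-!
TI Hall subgroups with a normal complement in the normaliser.
-/

set_option autoImplicit false

namespace Cfsg.Agent.H87.TIHall

open Cfsg Cfsg.Agent Subgroup
open scoped ComplexConjugate

universe u

variable {G : Type u} [Group G]

/-- The hypotheses: `H` is TI and `π` retracts the normaliser onto `H`, with kernel of order prime to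
`|H|`. -/
structure Setup (H : Subgroup G) where
  π : ↥(normalizer (H : Set G)) →* ↥H
  ti : IsTISubset (H : Set G)
  retr : ∀ h : ↥H, π ⟨(h : G), le_normalizer h.2⟩ = h
  coprime : (Nat.card H).Coprime (Nat.card π.ker)

variable {H : Subgroup G} (D : Setup H)

theorem surjective : Function.Surjective D.π := fun h => ⟨_, D.retr h⟩

theorem kernel_commute (x : ↥(normalizer (H : Set G))) (hx : x ∈ D.π.ker) (h : ↥H) :
    Commute (x : G) (h : G) := by
  set e : ↥(normalizer (H : Set G)) := ⟨(h : G), le_normalizer h.2⟩ with he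
  have h1 : (x : G) * h * (x : G)⁻¹ ∈ H := (Subgroup.mem_normalizer_iff.mp x.2 h).mp h.2
  have h2 : D.π (x * e * x⁻¹) = h := by
    rw [map_mul, map_mul, map_inv, MonoidHom.mem_ker.mp hx, he, D.retr]
    simp
  have h3 : D.π (x * e * x⁻¹) = ⟨(x : G) * h * (x : G)⁻¹, h1⟩ :=
    (congrArg D.π (Subtype.ext rfl)).trans (D.retr ⟨_, h1⟩)
  have h4 : (x : G) * h * (x : G)⁻¹ = h := congrArg Subtype.val (h3.symm.trans h2)
  exact mul_inv_eq_iff_eq_mul.mp h4

theorem ker_mem (y : ↥(normalizer (H : Set G))) :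
    (⟨(D.π y : G), le_normalizer (D.π y).2⟩ : ↥(normalizer (H : Set G)))⁻¹ * y ∈ D.π.ker := by
  rw [MonoidHom.mem_ker, map_mul, map_inv, D.retr, inv_mul_cancel]

theorem pow_eq (y : ↥(normalizer (H : Set G))) :
    (y : G) ^ Nat.card D.π.ker = (D.π y : G) ^ Nat.card D.π.ker := by
  set e : ↥(normalizer (H : Set G)) := ⟨(D.π y : G), le_normalizer (D.π y).2⟩ with he
  have hk := ker_mem D y
  have hc : Commute (e : G) ((e⁻¹ * y : ↥(normalizer (H : Set G))) : G) := (kernel_commute D _ hk (D.π y)).symm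
  have h1 : ((e⁻¹ * y : ↥(normalizer (H : Set G))) : G) ^ Nat.card D.π.ker = 1 := by
    have := congrArg Subtype.val (pow_card_eq_one' (x := (⟨_, hk⟩ : ↥D.π.ker)))
    exact congrArg Subtype.val this
  calc (y : G) ^ Nat.card D.π.ker = ((e : G) * ((e⁻¹ * y : ↥(normalizer (H : Set G))) : G)) ^ Nat.card D.π.ker := by
        simp
    _ = _ := by rw [hc.mul_pow, h1, mul_one]

variable [Finite G]

/-- The support set is TI. -/
theorem mem_of_conj {y : ↥(normalizer (H : Set G))} (hy : D.π y ≠ 1) {g : G}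
    (hg : g * (y : G) * g⁻¹ ∈ normalizer (H : Set G)) : g ∈ normalizer (H : Set G) := by
  by_contra hgn
  have h1 := pow_eq D ⟨_, hg⟩
  rw [conj_pow, pow_eq D y] at h1
  have h2 : (D.π y : G) ^ Nat.card D.π.ker = 1 := D.ti g hgn _ (pow_mem (D.π y).2 _) (by
    rw [h1]; exact pow_mem (D.π _).2 _)
  have h3 : D.π y ^ Nat.card D.π.ker = 1 := Subtype.ext (by simpa using h2)
  apply hy
  have := Nat.dvd_gcd (orderOf_dvd_natCard (D.π y)) (orderOf_dvd_of_pow_eq_one h3)
  rw [D.coprime.gcd_eq_one, Nat.dvd_one, orderOf_eq_one_iff] at this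
  exact this

theorem pi_conj {y : ↥(normalizer (H : Set G))} {g : G} (hg : g ∈ normalizer (H : Set G))
    (hg' : g * (y : G) * g⁻¹ ∈ normalizer (H : Set G)) :
    D.π ⟨_, hg'⟩ = D.π ⟨g, hg⟩ * D.π y * (D.π ⟨g, hg⟩)⁻¹ := by
  rw [← map_inv, ← map_mul, ← map_mul]
  exact congrArg D.π (Subtype.ext (by simp))

section Characters

variable [Fintype G] [Fintype ↥(normalizer (H : Set G))] [Fintype ↥H]

theorem indFun_of_mem {φ : ↥(normalizer (H : Set G)) → ℂ}
    (hφ : IsClassFunction ↥(normalizer (H : Set G)) φ) (hφ0 : ∀ x, D.π x = 1 → φ x = 0)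
    (y : ↥(normalizer (H : Set G))) (hy : D.π y ≠ 1) :
    indFun (normalizer (H : Set G)) φ (y : G) = φ y := by
  classical
  rw [CharInduce.indFun_apply]
  rw [← Finset.sum_subset (Finset.subset_univ ((normalizer (H : Set G) : Set G).toFinset))
    (fun x _ hx => CharInduce.extendByZero_of_not_mem φ (fun hm => hx (by
      have := mem_of_conj D hy (g := x⁻¹) (by simpa using hm)
      simpa using inv_mem this)))]
  rw [Finset.sum_congr rfl (fun x hx => show
      (extendByZero (normalizer (H : Set G)) φ (x⁻¹ * (y : G) * x) =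
        extendByZero (normalizer (H : Set G)) φ (y : G)) from by
    have hxH : x ∈ normalizer (H : Set G) := by simpa using hx
    have := CharInduce.extendByZero_conj hφ (inv_mem hxH) (y : G)
    simpa using this)]
  rw [Finset.sum_const, CharInduce.extendByZero_coe, nsmul_eq_mul, ← mul_assoc,
    ← Set.ncard_eq_toFinset_card', ← Nat.card_coe_set_eq]
  simp

theorem indFun_of_not {φ : ↥(normalizer (H : Set G)) → ℂ}
    (hφ0 : ∀ x, D.π x = 1 → φ x = 0) {g : G}
    (hg : ∀ (y : ↥(normalizer (H : Set G))), D.π y ≠ 1 → ∀ a : G, a * (y : G) * a⁻¹ ≠ g) :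
    indFun (normalizer (H : Set G)) φ g = 0 := by
  classical
  rw [CharInduce.indFun_apply]
  refine mul_eq_zero_of_right _ (Finset.sum_eq_zero fun x _ => ?_)
  by_cases hx : x⁻¹ * g * x ∈ normalizer (H : Set G)
  · rw [CharInduce.extendByZero_of_mem φ hx]
    refine hφ0 _ (Classical.not_not.mp fun hne => hg _ hne x ?_)
    simp [mul_assoc]
  · exact CharInduce.extendByZero_of_not_mem φ hx

/-- The extension of a character of `H`. -/
noncomputable def ext (θ : ↥H → ℂ) : G → ℂ :=
  indFun (normalizer (H : Set G)) ((fun y => θ (D.π y)) - θ 1 • fun _ => (1 : ℂ)) + θ 1 • fun _ => (1 : ℂ)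

theorem ext_of_mem {θ : ↥H → ℂ} (hθ : IsClassFunction ↥H θ) (y : ↥(normalizer (H : Set G))) (hy : D.π y ≠ 1) :
    ext D θ (y : G) = θ (D.π y) := by
  rw [ext, Pi.add_apply, indFun_of_mem D (fun g k => by simp [hθ (D.π g) (D.π k)])
    (fun x hx => by simp [hx]) y hy]
  simp

theorem ext_of_not {θ : ↥H → ℂ} {g : G}
    (hg : ∀ (y : ↥(normalizer (H : Set G))), D.π y ≠ 1 → ∀ a : G, a * (y : G) * a⁻¹ ≠ g) :
    ext D θ g = θ 1 := by
  rw [ext, Pi.add_apply, indFun_of_not D (fun x hx => by simp [hx]) hg]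
  simp

theorem ext_one (θ : ↥H → ℂ) : ext D θ 1 = θ 1 :=
  ext_of_not D fun y hy a h => hy (by
    have : y = 1 := Subtype.ext (by simpa [mul_inv_eq_one] using h)
    rw [this, map_one])

theorem isIrr_ext {θ : ↥H → ℂ} (hθ : IsIrrCharacter ↥H θ) (hθ1 : θ ≠ fun _ => 1) :
    IsIrrCharacter G (ext D θ) := by
  classical
  set θ' : ↥(normalizer (H : Set G)) → ℂ := fun y => θ (D.π y) with hθ'
  have hirr : IsIrrCharacter ↥(normalizer (H : Set G)) θ' := CharInduce.IsIrr.comp hθ D.π (surjective D)
  have hne : θ' ≠ fun _ => 1 := fun h => hθ1 (funext fun x => by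
    obtain ⟨y, rfl⟩ := surjective D x; exact congrFun h y)
  have hcf : IsClassFunction G (ext D θ) :=
    fun g k => by simp [ext, CharInduce.isClassFunction_indFun _ _ g k]
  obtain ⟨d, -, hd⟩ := CharBasic.IsIrr.exists_degree hθ
  set φ : ↥(normalizer (H : Set G)) → ℂ := θ' - θ 1 • fun _ => (1 : ℂ) with hφ
  have hφθ : classInner φ θ' = 1 := by
    rw [hφ, CharBasic.classInner_sub_left, CharBasic.classInner_smul_left,
      CharBasic.classInner_irr_self hirr,
      CharBasic.classInner_irr_of_ne CharBasic.isIrrCharacter_one hirr (Ne.symm hne), mul_zero, sub_zero]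
  have hone : classInner (ext D θ) (fun _ : G => (1 : ℂ)) = 0 := by
    rw [ext, CharBasic.classInner_add_left, CharInduce.classInner_indFun_left _ _ _ (fun _ _ => rfl),
      CharBasic.classInner_sub_left, CharBasic.classInner_smul_left, CharBasic.classInner_smul_left,
      CharBasic.classInner_irr_of_ne hirr CharBasic.isIrrCharacter_one hne,
      CharBasic.classInner_irr_self CharBasic.isIrrCharacter_one,
      CharBasic.classInner_irr_self CharBasic.isIrrCharacter_one]
    ring
  refine Frobenius.isIrrCharacter_of_norm_one hcf (fun χ => ?_) ?_ (by rw [ext_one, hd])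
  · have hχM : IsCharacter ↥(normalizer (H : Set G)) (fun y => (χ : G → ℂ) y) :=
      CharInduce.IsChar.comp (CharBasic.IsIrr.isCharacter χ.2) (normalizer (H : Set G)).subtype
    obtain ⟨p, hp⟩ := CharBasic.classInner_isChar_nat (CharBasic.IsIrr.isCharacter hirr) hχM
    obtain ⟨q, hq⟩ := CharBasic.classInner_isChar_nat
      (CharBasic.IsIrr.isCharacter (CharBasic.isIrrCharacter_one (G := ↥(normalizer (H : Set G))))) hχM
    obtain ⟨r, hr⟩ := CharBasic.classInner_isChar_nat
      (CharBasic.IsIrr.isCharacter (CharBasic.isIrrCharacter_one (G := G)))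
      (CharBasic.IsIrr.isCharacter χ.2)
    refine ⟨(p : ℤ) - d * q + d * r, ?_⟩
    rw [ext, CharBasic.classInner_add_left, CharInduce.classInner_indFun_left _ _ _
        (CharBasic.IsIrr.isClassFunction χ.2), CharBasic.classInner_sub_left,
      CharBasic.classInner_smul_left, CharBasic.classInner_smul_left, hp, hq, hr, hd]
    push_cast
    ring
  · have h1 : classInner (fun _ : G => (1 : ℂ)) (ext D θ) = 0 := by
      rw [← CharBasic.classInner_conj_symm, hone, map_zero]
    conv_lhs => arg 1; rw [ext]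
    rw [CharBasic.classInner_add_left, CharInduce.classInner_indFun_left _ _ _ hcf,
      CharBasic.classInner_smul_left, h1, mul_zero, add_zero]
    refine Eq.trans ?_ hφθ
    simp only [classInner]
    refine congrArg _ (Finset.sum_congr rfl fun y _ => ?_)
    by_cases hy : D.π y = 1
    · simp [hφ, hθ', hy]
    · rw [ext_of_mem D (CharBasic.IsIrr.isClassFunction hθ) y hy]

end Characters
include D in
/-- A normal complement in the whole group. -/
theorem exists_complement :
    ∃ N : Subgroup G, N.Normal ∧ N.IsComplement' H ∧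
      (∀ y : ↥(normalizer (H : Set G)), (y : G) ∈ N ↔ D.π y = 1) ∧
      ∀ g : G, g ∉ N → ∃ a : G, a⁻¹ * g * a ∈ normalizer (H : Set G) := by
  classical
  haveI := Fintype.ofFinite G
  haveI := Fintype.ofFinite ↥(normalizer (H : Set G))
  haveI := Fintype.ofFinite ↥H
  have hρ : ∀ θ : {θ : IrrCharacter H // (θ : H → ℂ) ≠ fun _ => 1},
      ∃ (n : ℕ) (ρ : Representation ℂ G (Fin n → ℂ)), ρ.character = ext D θ.1.1 := fun θ =>
    CharBasic.IsIrr.isCharacter (isIrr_ext D θ.1.2 θ.2)
  choose n ρ hρ using hρ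
  let N : Subgroup G := ⨅ θ, MonoidHom.ker (ρ θ)
  have hiff : ∀ x : G, x ∈ N ↔ ∀ θ : {θ : IrrCharacter H // (θ : H → ℂ) ≠ fun _ => 1},
      ext D θ.1.1 x = θ.1.1 1 := by
    intro x
    simp only [N, Subgroup.mem_iInf]
    refine forall_congr' fun θ => ?_
    have h := CharBasic.character_eq_finrank_iff (ρ θ) x
    have h1 : (Module.finrank ℂ (Fin (n θ) → ℂ) : ℂ) = θ.1.1 1 := by
      rw [← Representation.char_one (ρ θ), hρ θ, ext_one]
    rw [hρ θ, h1] at h
    exact MonoidHom.mem_ker.trans h.symm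
  have hout : ∀ g : G, g ∉ N → ∃ (y : ↥(normalizer (H : Set G))), D.π y ≠ 1 ∧ ∃ a : G, a * (y : G) * a⁻¹ = g := by
    intro g hg
    by_contra h
    push Not at h
    exact hg ((hiff g).mpr fun θ => ext_of_not D h)
  have hM : ∀ y : ↥(normalizer (H : Set G)), (y : G) ∈ N ↔ D.π y = 1 := by
    intro y
    refine ⟨fun hy => ?_, fun hy => (hiff _).mpr fun θ => ext_of_not D fun z hz a ha => hz ?_⟩
    · by_contra hne
      have key : IsConj (D.π y) 1 := (CharBasic.isConj_iff_forall_irr _ 1).2 fun θ => by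
        by_cases hθ1 : (θ : H → ℂ) = fun _ => 1
        · simp [hθ1]
        · rw [← (hiff _).mp hy ⟨θ, hθ1⟩, ext_of_mem D (CharBasic.IsIrr.isClassFunction θ.2) y hne]
      rw [isConj_one_left] at key
      exact hne key
    · have ha' : a * (z : G) * a⁻¹ ∈ normalizer (H : Set G) := by rw [ha]; exact y.2
      have hπ := pi_conj D (mem_of_conj D hz ha') ha'
      rw [show (⟨_, ha'⟩ : ↥(normalizer (H : Set G))) = y from Subtype.ext ha, hy] at hπ
      exact conj_eq_one_iff.mp hπ.symm
  haveI hN : N.Normal := Subgroup.normal_iInf_normal fun θ => inferInstance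
  have hdis : Disjoint N H := by
    rw [Subgroup.disjoint_def]
    intro x hx hxH
    have := (hM ⟨x, le_normalizer hxH⟩).mp hx
    have h2 := D.retr ⟨x, hxH⟩
    exact congrArg Subtype.val (h2.symm.trans this)
  refine ⟨N, hN, Subgroup.isComplement'_of_card_mul_and_disjoint ?_ hdis, hM, fun g hg => ?_⟩
  swap
  · obtain ⟨y, -, a, ha⟩ := hout g hg
    exact ⟨a, by simp [← ha, mul_assoc]⟩
  have hle : Nat.card N * Nat.card H ≤ Nat.card G := by
    rw [← Nat.card_prod]
    refine Nat.card_le_card_of_injective (fun p : ↥N × ↥H => (p.1 : G) * p.2) ?_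
    exact Subgroup.mul_injective_of_disjoint hdis
  refine le_antisymm hle ?_
  -- the conjugates of the support cover the complement of `N`
  have hcover : ∀ g : {g : G // g ∉ N}, ∃ p : (G ⧸ normalizer (H : Set G)) ×
      {y : ↥(normalizer (H : Set G)) // D.π y ≠ 1}, p.1.out * (p.2.1 : G) * p.1.out⁻¹ = g.1 := by
    rintro ⟨g, hg⟩
    obtain ⟨y, hy, a, ha⟩ := hout g hg
    obtain ⟨m, hm⟩ := QuotientGroup.mk_out_eq_mul (normalizer (H : Set G)) a
    refine ⟨((a : G ⧸ normalizer (H : Set G)), ⟨m⁻¹ * y * m, fun h => hy ?_⟩), ?_⟩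
    · rw [map_mul, map_mul, map_inv] at h
      exact (conj_eq_one_iff (a := (D.π m)⁻¹)).mp (by rw [inv_inv]; exact h)
    · simp only [hm, ← ha, Subgroup.coe_mul, Subgroup.coe_inv]
      group
  choose f hf using hcover
  have hinj : Function.Injective f := fun u v h => Subtype.ext (by rw [← hf u, ← hf v, h])
  have h1 := Nat.card_le_card_of_injective f hinj
  rw [Nat.card_prod, ← Subgroup.index_eq_card] at h1
  have e1 : Nat.card {g : G // g ∉ N} + Nat.card N = Nat.card G := by
    rw [← Nat.card_sum, Nat.card_congr (((Equiv.sumComm _ _)).trans (Equiv.sumCompl fun g : G => g ∈ N))]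
  have e2 : Nat.card {y : ↥(normalizer (H : Set G)) // D.π y ≠ 1} + Nat.card D.π.ker =
      Nat.card ↥(normalizer (H : Set G)) := by
    rw [← Nat.card_sum]
    exact Nat.card_congr (((Equiv.sumComm _ _)).trans (Equiv.sumCompl fun y => D.π y = 1))
  have e3 : Nat.card D.π.ker * Nat.card H = Nat.card ↥(normalizer (H : Set G)) := by
    rw [mul_comm, ← Subgroup.card_mul_index D.π.ker, Subgroup.index_ker,
      MonoidHom.range_eq_top.mpr (surjective D), Subgroup.card_top, mul_comm]
  have e4 := Subgroup.index_mul_card (normalizer (H : Set G))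
  generalize Nat.card {g : G // g ∉ N} = a at h1 e1
  generalize Nat.card {y : ↥(normalizer (H : Set G)) // D.π y ≠ 1} = b at h1 e2
  have : (normalizer (H : Set G)).index * b + (normalizer (H : Set G)).index * Nat.card D.π.ker = Nat.card G := by
    rw [← mul_add, e2, e4]
  have : (normalizer (H : Set G)).index * Nat.card D.π.ker ≤ Nat.card N := by omega
  calc Nat.card G = (normalizer (H : Set G)).index * (Nat.card D.π.ker * Nat.card H) := by rw [e3, e4]
    _ ≤ Nat.card N * Nat.card H := by rw [← mul_assoc]; exact Nat.mul_le_mul_right _ this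

/-- If every element outside a normal subgroup fixes exactly one point, a point stabiliser supplements
the subgroup. -/
theorem exists_supplement {T X : Type*} [Group T] [Finite T] [Finite X] [MulAction T X] (L : Subgroup T)
    [L.Normal] (hL : L ≠ ⊤) (hfix : ∀ x : T, x ∉ L → ∃! a : X, x • a = a) :
    ∃ a : X, L ⊔ MulAction.stabilizer T a = ⊤ := by
  classical
  let U : X → Set T := fun a => {x | x ∉ L ∧ ∃ b ∈ MulAction.orbit T a, x • b = b}
  have hU : ∀ a, Nat.card (U a) + Nat.card (MulAction.orbit T a) *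
      Nat.card ↥(MulAction.stabilizer T a ⊓ L) = Nat.card T := by
    intro a
    let S : X → Type _ := fun b => {x : T // x ∉ L ∧ x • b = b}
    have e : U a ≃ Σ b : MulAction.orbit T a, S b.1 :=
      (Equiv.ofBijective (fun p : (Σ b : MulAction.orbit T a, S b.1) => (⟨p.2.1, p.2.2.1, p.1.1, p.1.2, p.2.2.2⟩ : U a))
        ⟨by
          rintro ⟨⟨b, hb⟩, x, hx, hxb⟩ ⟨⟨b', hb'⟩, x', hx', hxb'⟩ h
          have h' : x = x' := congrArg Subtype.val h
          subst h'
          have := (hfix x hx).unique hxb hxb'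
          subst this
          rfl, fun ⟨x, hx, b, hb, hxb⟩ => ⟨⟨⟨b, hb⟩, x, hx, hxb⟩, rfl⟩⟩).symm
    haveI : Fintype (MulAction.orbit T a) := Fintype.ofFinite _
    have hS : ∀ b : MulAction.orbit T a, Nat.card (S b.1) + Nat.card ↥(MulAction.stabilizer T a ⊓ L) =
        Nat.card (MulAction.stabilizer T a) := by
      rintro ⟨_, g, rfl⟩
      have e1 : S (g • a) ≃ {x : MulAction.stabilizer T a // (x : T) ∉ L} :=
        { toFun := fun x => ⟨⟨g⁻¹ * x.1 * g, by
              rw [MulAction.mem_stabilizer_iff, mul_smul, mul_smul, x.2.2, inv_smul_smul]⟩, fun h => x.2.1 (by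
              simpa [mul_assoc] using (‹L.Normal›).conj_mem _ h g)⟩
          invFun := fun x => ⟨g * x.1.1 * g⁻¹, fun h => x.2 (by
              simpa [mul_assoc] using (‹L.Normal›).conj_mem _ h g⁻¹), by
              rw [mul_smul, mul_smul, inv_smul_smul, MulAction.mem_stabilizer_iff.mp x.1.2]⟩
          left_inv := fun x => Subtype.ext (by simp [mul_assoc])
          right_inv := fun x => Subtype.ext (Subtype.ext (by simp [mul_assoc])) }
      have e2 : {x : MulAction.stabilizer T a // (x : T) ∈ L} ≃ ↥(MulAction.stabilizer T a ⊓ L) :=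
        { toFun := fun x => ⟨x.1.1, x.1.2, x.2⟩
          invFun := fun x => ⟨⟨x.1, x.2.1⟩, x.2.2⟩
          left_inv := fun _ => rfl
          right_inv := fun _ => rfl }
      change Nat.card (S (g • a)) + _ = _
      rw [Nat.card_congr e1, ← Nat.card_congr e2, ← Nat.card_sum]
      exact Nat.card_congr (((Equiv.sumComm _ _)).trans (Equiv.sumCompl fun x : MulAction.stabilizer T a => (x : T) ∈ L))
    rw [Nat.card_congr e, Nat.card_sigma, Nat.card_eq_fintype_card (α := MulAction.orbit T a),
      ← smul_eq_mul (Fintype.card (MulAction.orbit T a)), ← Finset.card_univ, ← Finset.sum_const,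
      ← Finset.sum_add_distrib, Finset.sum_congr rfl (fun b _ => hS b), Finset.sum_const, Finset.card_univ,
      smul_eq_mul, ← Nat.card_eq_fintype_card (α := MulAction.orbit T a), ← Nat.card_prod]
    exact Nat.card_congr (MulAction.orbitProdStabilizerEquivGroup T a)
  obtain ⟨x0, hx0⟩ : ∃ x0 : T, x0 ∉ L := by
    by_contra h; push Not at h; exact hL (eq_top_iff.mpr fun x _ => h x)
  obtain ⟨a0, ha0, -⟩ := hfix x0 hx0
  -- an orbit with an outside element fixing one of its points takes at least half of the group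
  have hhalf : ∀ (a : X) (x : T), x ∉ L → x • a = a → Nat.card T ≤ 2 * Nat.card (U a) := by
    intro a x hx hxa
    have hlt : 2 * Nat.card ↥(MulAction.stabilizer T a ⊓ L) ≤ Nat.card (MulAction.stabilizer T a) := by
      obtain ⟨k, hk⟩ := Subgroup.card_dvd_of_le (inf_le_left : MulAction.stabilizer T a ⊓ L ≤ MulAction.stabilizer T a)
      rw [hk, mul_comm 2]
      refine Nat.mul_le_mul_left _ ?_
      by_contra hk2
      interval_cases k
      · rw [mul_zero] at hk; exact Nat.card_pos.ne' hk
      · have := Subgroup.eq_of_le_of_card_ge (inf_le_left : MulAction.stabilizer T a ⊓ L ≤ MulAction.stabilizer T a)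
          (by rw [hk, mul_one])
        exact hx ((this.ge (show x ∈ MulAction.stabilizer T a from hxa)).2)
    have h1 := hU a
    have h2 : Nat.card (MulAction.orbit T a) * Nat.card (MulAction.stabilizer T a) = Nat.card T := by
      rw [← Nat.card_prod]
      exact Nat.card_congr (MulAction.orbitProdStabilizerEquivGroup T a)
    have h3 := Nat.mul_le_mul_left (Nat.card (MulAction.orbit T a)) hlt
    rw [h2, mul_left_comm] at h3
    omega
  have hall : U a0 = {x : T | x ∉ L} := by
    ext x
    refine ⟨fun h => h.1, fun hx => ⟨hx, ?_⟩⟩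
    obtain ⟨b, hb, -⟩ := hfix x hx
    refine ⟨b, ?_, hb⟩
    by_contra hne
    have hdis : Disjoint (U a0) (U b) := by
      rw [Set.disjoint_left]
      rintro y ⟨hy, c, hc, hyc⟩ ⟨-, c', hc', hyc'⟩
      have := (hfix y hy).unique hyc hyc'
      subst this
      exact hne (by
        rw [← MulAction.orbit_eq_iff.mpr hc, MulAction.orbit_eq_iff.mpr hc']
        exact MulAction.mem_orbit_self b)
    have hsub : U a0 ∪ U b ⊆ (L : Set T)ᶜ := by
      rintro y (h | h) <;> exact h.1
    have h1 := Set.ncard_le_ncard hsub (Set.toFinite _)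
    rw [Set.ncard_union_eq hdis (Set.toFinite _) (Set.toFinite _), Set.ncard_compl] at h1
    have h2 := hhalf a0 x0 hx0 ha0
    have h3 := hhalf b x hx hb
    have h4 : 0 < (L : Set T).ncard := (Set.ncard_pos (Set.toFinite _)).mpr ⟨1, L.one_mem⟩
    have h5 : (L : Set T).ncard ≤ Nat.card T := by
      rw [← Nat.card_coe_set_eq]; exact Subgroup.card_le_card_group L
    rw [Nat.card_coe_set_eq] at h2 h3
    omega
  refine ⟨a0, Subgroup.eq_top_of_le_card _ ?_⟩
  have h1 := hU a0
  rw [hall] at h1
  have e1 : Nat.card {x : T | x ∉ L} + Nat.card L = Nat.card T := by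
    rw [← Nat.card_sum]
    exact Nat.card_congr (((Equiv.sumComm _ _)).trans (Equiv.sumCompl fun x : T => x ∈ L))
  have e2 : Nat.card (MulAction.orbit T a0) * Nat.card ↥(MulAction.stabilizer T a0 ⊓ L) = Nat.card L := by omega
  have e3 : Nat.card (MulAction.orbit T a0) * Nat.card (MulAction.stabilizer T a0) = Nat.card T := by
    rw [← Nat.card_prod]
    exact Nat.card_congr (MulAction.orbitProdStabilizerEquivGroup T a0)
  have e4 : Nat.card ↥(MulAction.stabilizer T a0 ⊓ L) * Nat.card ↥(L ⊔ MulAction.stabilizer T a0) =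
      Nat.card L * Nat.card (MulAction.stabilizer T a0) := by
    rw [mul_comm, sup_comm, Cfsg.Agent.Cores.card_sup_mul_card_inf (MulAction.stabilizer T a0) L, mul_comm]
  rw [← e2, mul_right_comm, e3, mul_comm (Nat.card T)] at e4
  exact le_of_eq (Nat.eq_of_mul_eq_mul_left Nat.card_pos e4).symm

end Cfsg.Agent.H87.TIHall
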